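import Cfsg.Agent.Lib.ExtraNineS3A6.Form
import Cfsg.Agent.Lib.LargeExtra.Singular

/-!
The quotient of the centralizer of an involution by its extraspecial core, as a model.
-/

set_option autoImplicit false

namespace CfsgLib.ExtraNineS3A6

open CfsgLib.LargeExtra CfsgLib.Singular39 Equiv.Perm

universe u

/-- The space and the group of the setting, read in `G`. -/
structure Bridge {G : Type u} [Group G] [Finite G] (z : G) (V : Type u) [AddCommGroup V] where
  M : Model V
  point : Point z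
  card_Q : Nat.card (qOf z) = 2 ^ 9
  vq : G → V
  pi : G → P36
  vq_mul : ∀ a ∈ qOf z, ∀ b ∈ qOf z, vq (a * b) = vq a + vq b
  vq_zero : ∀ a ∈ qOf z, (vq a = 0 ↔ a = 1 ∨ a = z)
  vq_surj : ∀ v, ∃ a ∈ qOf z, vq a = v
  q_eq : ∀ a ∈ qOf z, (M.q (vq a) = 0 ↔ a * a = 1)
  B_eq : ∀ a ∈ qOf z, ∀ b ∈ qOf z, (M.B (vq a) (vq b) = 0 ↔ a * b = b * a)
  pi_mul : ∀ a b : G, a * z = z * a → b * z = z * b → pi (a * b) = pi a * pi b
  pi_mem : ∀ a : G, a * z = z * a → pi a ∈ M.R
  pi_surj : ∀ p ∈ M.R, ∃ a : G, a * z = z * a ∧ pi a = p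
  pi_ker : ∀ a : G, a * z = z * a → (pi a = 1 ↔ a ∈ qOf z)
  ac_eq : ∀ m : G, m * z = z * m → ∀ a ∈ qOf z, M.ac (pi m) (vq a) = vq (m * a * m⁻¹)

theorem conj_mem_qOf {G : Type*} [Group G] [Finite G] {y : G} {m a : G} (hm : m * y = y * m)
    (ha : a ∈ qOf y) : m * a * m⁻¹ ∈ qOf y :=
  (Subgroup.mem_normalizer_iff.1
    (centralizer_le_normalizer_qOf y (Subgroup.mem_centralizer_singleton_iff.2 hm)) a).1 ha

theorem exists_bridge {G : Type u} [Group G] [Finite G] (z : G) (hP : Point z)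
    (hcard : Nat.card (qOf z) = 2 ^ 9) (π : ↥(Subgroup.centralizer ({z} : Set G)) →* P36)
    (hker : π.ker = Cfsg.pCore 2 ↥(Subgroup.centralizer ({z} : Set G)))
    (h36 : ∀ p : P36, sign p.1 = 1 → sign p.2 = 1 → p ∈ π.range)
    (hodd : ∃ p ∈ π.range, sign p.1 = -1) :
    ∃ (V : Type u) (_ : AddCommGroup V), Nonempty (Bridge z V) := by
  classical
  have h := hP.toExtraAt
  haveI := Fintype.ofFinite G
  let C := Subgroup.centralizer ({z} : Set G)
  have hmemC : ∀ {a : G}, a ∈ C ↔ a * z = z * a := fun {a} => Subgroup.mem_centralizer_singleton_iff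
  have hQC : qOf z ≤ C := qOf_le z
  have hcm : ∀ a b : ↥(qOf z) ⧸ Subgroup.center ↥(qOf z), a * b = b * a := by
    intro a b
    induction a using QuotientGroup.induction_on with
    | _ a =>
      induction b using QuotientGroup.induction_on with
      | _ b =>
        rw [← QuotientGroup.mk_mul, ← QuotientGroup.mk_mul, QuotientGroup.eq]
        have : ((a * b)⁻¹ * (b * a) : ↥(qOf z)) =
            b⁻¹ * a⁻¹ * b * a := by group
        rw [this, ← h.extra.1.2.2]
        have hc := Subgroup.commutator_mem_commutator (Subgroup.mem_top b⁻¹) (Subgroup.mem_top a⁻¹)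
        simpa [commutatorElement_def, commutator_def] using hc
  letI : CommGroup (↥(qOf z) ⧸ Subgroup.center ↥(qOf z)) :=
    { (inferInstance : Group (↥(qOf z) ⧸ Subgroup.center ↥(qOf z))) with mul_comm := hcm }
  let V := Additive (↥(qOf z) ⧸ Subgroup.center ↥(qOf z))
  let mk : ↥(qOf z) → V := fun a => Additive.ofMul (QuotientGroup.mk a)
  let vq : G → V := fun a => if ha : a ∈ qOf z then mk ⟨a, ha⟩ else 0
  have vq_def : ∀ (a : G) (ha : a ∈ qOf z), vq a = mk ⟨a, ha⟩ := fun a ha => dif_pos ha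
  have hcen : ∀ c : ↥(qOf z), c ∈ Subgroup.center ↥(qOf z) ↔ (c : G) = 1 ∨ (c : G) = z := fun c => by
    rw [← h.mem_zpowers_z, ← h.centre]
    exact ⟨fun hc => ⟨c, hc, rfl⟩, fun ⟨d, hd, e⟩ => Subtype.ext (p := fun g => g ∈ qOf z) e ▸ hd⟩
  have vq_mul : ∀ a ∈ qOf z, ∀ b ∈ qOf z, vq (a * b) = vq a + vq b := fun a ha b hb => by
    rw [vq_def a ha, vq_def b hb, vq_def _ (mul_mem ha hb)]
    rfl
  have vq_zero : ∀ a ∈ qOf z, (vq a = 0 ↔ a = 1 ∨ a = z) := fun a ha => by
    rw [vq_def a ha, ← hcen ⟨a, ha⟩]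
    exact (QuotientGroup.eq_one_iff _)
  have vq_surj : ∀ v, ∃ a ∈ qOf z, vq a = v := fun v => by
    obtain ⟨a, ha⟩ := QuotientGroup.mk_surjective (Additive.toMul v)
    exact ⟨a, a.2, by rw [vq_def _ a.2]; exact congrArg Additive.ofMul ha⟩
  let lift : V → G := fun v => (vq_surj v).choose
  have lift_mem : ∀ v, lift v ∈ qOf z := fun v => (vq_surj v).choose_spec.1
  have lift_eq : ∀ a ∈ qOf z, lift (vq a) = a ∨ lift (vq a) = z * a := by
    intro a ha
    have e := (vq_surj (vq a)).choose_spec.2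
    have e' : mk ⟨_, lift_mem (vq a)⟩ = mk ⟨a, ha⟩ :=
      (vq_def _ (lift_mem _)).symm.trans (e.trans (vq_def a ha))
    have e1 := QuotientGroup.eq.1 (congrArg Additive.toMul e' :)
    rcases (hcen _).1 e1 with e2 | e2 <;> have e2' : (lift (vq a))⁻¹ * a = _ := e2
    · exact Or.inl (inv_mul_eq_one.1 e2')
    · right
      have e3 : a = lift (vq a) * z := inv_mul_eq_iff_eq_mul.1 e2'
      conv_rhs => rw [e3, ← mul_assoc, ← h.comm_z (lift_mem _), mul_assoc, h.sq_one, mul_one]
  let q : V → ZMod 2 := fun v => bit (lift v * lift v)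
  let B : V → V → ZMod 2 := fun v w => bit (lift w * lift v * (lift w)⁻¹ * (lift v)⁻¹)
  have q_def : ∀ a ∈ qOf z, q (vq a) = bit (a * a) := fun a ha => by
    show bit (lift (vq a) * lift (vq a)) = _
    rcases lift_eq a ha with e | e <;> rw [e]
    rw [show z * a * (z * a) = z * (a * z) * a by group, h.comm_z ha, ← mul_assoc z z a, h.sq_one, one_mul]
  have hzb : ∀ b ∈ qOf z, ∀ c : G, c * z = z * c → z * b * c * (z * b)⁻¹ = b * c * b⁻¹ := by
    intro b hb c hc
    calc z * b * c * (z * b)⁻¹ = z * (b * c * b⁻¹) * z⁻¹ := by group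
      _ = b * c * b⁻¹ := by
        have : Commute z (b * c * b⁻¹) := ((Commute.mul_right (h.comm_z hb).symm hc.symm)).mul_right
          ((show Commute z b from (h.comm_z hb).symm).inv_right)
        rw [this.eq, mul_inv_cancel_right]
  have B_def : ∀ a ∈ qOf z, ∀ b ∈ qOf z, B (vq a) (vq b) = bit (b * a * b⁻¹ * a⁻¹) := by
    intro a ha b hb
    show bit (lift (vq b) * lift (vq a) * (lift (vq b))⁻¹ * (lift (vq a))⁻¹) = _
    have e1 : lift (vq b) * lift (vq a) * (lift (vq b))⁻¹ = b * lift (vq a) * b⁻¹ := by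
      rcases lift_eq b hb with e | e <;> rw [e]
      exact hzb b hb _ (h.comm_z (lift_mem _))
    rw [e1]
    rcases lift_eq a ha with e | e <;> rw [e]
    congr 1
    calc b * (z * a) * b⁻¹ * (z * a)⁻¹ = (b * z) * a * b⁻¹ * a⁻¹ * z⁻¹ := by group
      _ = z * (b * a * b⁻¹ * a⁻¹) * z⁻¹ := by rw [h.comm_z hb]; group
      _ = b * a * b⁻¹ * a⁻¹ := by
        rcases comm_cases h hb ha with e2 | e2 <;> rw [e2] <;> group
  have hexp : ∀ v : V, v + v = 0 := fun v => by
    obtain ⟨a, ha, rfl⟩ := vq_surj v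
    rw [← vq_mul a ha a ha, vq_zero _ (mul_mem ha ha)]
    exact h.sq_cases ha
  have q_add : ∀ u v, q (u + v) = q u + q v + B u v := fun u v => by
    obtain ⟨a, ha, rfl⟩ := vq_surj u
    obtain ⟨b, hb, rfl⟩ := vq_surj v
    rw [← vq_mul a ha b hb, q_def _ (mul_mem ha hb), q_def a ha, q_def b hb, B_def a ha b hb]
    exact bit_sq h ha hb
  have B_add : ∀ u v w, B (u + v) w = B u w + B v w := fun u v w => by
    obtain ⟨a, ha, rfl⟩ := vq_surj u
    obtain ⟨b, hb, rfl⟩ := vq_surj v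
    obtain ⟨c, hc, rfl⟩ := vq_surj w
    rw [← vq_mul a ha b hb, B_def _ (mul_mem ha hb) c hc, B_def a ha c hc, B_def b hb c hc]
    exact bit_comm_mul h (h.comm_z hc) ha (comm_cases h hc ha) (comm_cases h hc hb)
  have B_eq : ∀ a ∈ qOf z, ∀ b ∈ qOf z, (B (vq a) (vq b) = 0 ↔ a * b = b * a) := fun a ha b hb => by
    rw [B_def a ha b hb, bit_eq_zero, mul_inv_eq_one, mul_inv_eq_iff_eq_mul]
    exact eq_comm
  have B_symm : ∀ u v, B u v = B v u := fun u v => by
    obtain ⟨a, ha, rfl⟩ := vq_surj u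
    obtain ⟨b, hb, rfl⟩ := vq_surj v
    rw [B_def a ha b hb, B_def b hb a ha, comm_swap h hb ha]
  have nondeg : ∀ u, (∀ v, B u v = 0) → u = 0 := fun u hu => by
    obtain ⟨a, ha, rfl⟩ := vq_surj u
    rw [vq_zero a ha]
    exact h.central_cases ha fun b hb => ((B_eq a ha b hb).1 (hu _)).symm
  have card : Nat.card V = 256 := by
    have h1 := (Subgroup.center ↥(qOf z)).card_eq_card_quotient_mul_card_subgroup
    rw [hcard, h.extra.2] at h1
    show Nat.card (↥(qOf z) ⧸ Subgroup.center ↥(qOf z)) = 256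
    omega
  haveI : Finite V := Nat.finite_of_card_ne_zero (by rw [card]; norm_num)
  -- the action
  let act : C → V →+ V := fun m => AddMonoidHom.mk' (fun v => vq (m * lift v * (m : G)⁻¹)) (by
    intro u v
    obtain ⟨a, ha, rfl⟩ := vq_surj u
    obtain ⟨b, hb, rfl⟩ := vq_surj v
    have hm := hmemC.1 m.2
    have key : ∀ c ∈ qOf z, vq (m * lift (vq c) * (m : G)⁻¹) = vq (m * c * (m : G)⁻¹) := fun c hc => by
      rcases lift_eq c hc with e | e <;> rw [e]
      rw [show (m : G) * (z * c) * (m : G)⁻¹ = z * (m * c * (m : G)⁻¹) by rw [← mul_assoc (m : G) z c, hm]; group,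
        vq_mul z h.z_mem _ (conj_mem_qOf hm hc), (vq_zero z h.z_mem).2 (Or.inr rfl), zero_add]
    show vq (m * lift (vq a + vq b) * (m : G)⁻¹) = _
    rw [← vq_mul a ha b hb, key _ (mul_mem ha hb), key a ha, key b hb,
      ← vq_mul _ (conj_mem_qOf hm ha) _ (conj_mem_qOf hm hb)]
    congr 1; group)
  have act_def : ∀ (m : C) (a : G), a ∈ qOf z → act m (vq a) = vq (m * a * (m : G)⁻¹) := fun m a ha => by
    have hm := hmemC.1 m.2
    show vq (m * lift (vq a) * (m : G)⁻¹) = _
    rcases lift_eq a ha with e | e <;> rw [e]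
    rw [show (m : G) * (z * a) * (m : G)⁻¹ = z * (m * a * (m : G)⁻¹) by rw [← mul_assoc (m : G) z a, hm]; group,
      vq_mul z h.z_mem _ (conj_mem_qOf hm ha), (vq_zero z h.z_mem).2 (Or.inr rfl), zero_add]
  have hkerQ : ∀ m : C, π m = 1 ↔ (m : G) ∈ qOf z := fun m => by
    rw [← MonoidHom.mem_ker, hker]
    exact ⟨fun hm => ⟨m, hm, rfl⟩, fun ⟨k, hk, e⟩ => Subtype.ext e ▸ hk⟩
  have act_ker : ∀ m : C, π m = 1 → ∀ v, act m v = v := fun m hm v => by
    obtain ⟨a, ha, rfl⟩ := vq_surj v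
    have hq := (hkerQ m).1 hm
    rw [act_def m a ha]
    rcases h.conj_cases hq ha with e | e <;> rw [e]
    rw [vq_mul z h.z_mem a ha, (vq_zero z h.z_mem).2 (Or.inr rfl), zero_add]
  have act_mul : ∀ (m n : C) v, act (m * n) v = act m (act n v) := fun m n v => by
    obtain ⟨a, ha, rfl⟩ := vq_surj v
    rw [act_def _ a ha, act_def n a ha, act_def m _ (conj_mem_qOf (hmemC.1 n.2) ha)]
    congr 1
    simp [mul_assoc]
  have act_congr : ∀ (m n : C), π m = π n → ∀ v, act m v = act n v := fun m n e v => by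
    have : π (n⁻¹ * m) = 1 := by rw [map_mul, map_inv, e, inv_mul_cancel]
    have e2 := act_mul n (n⁻¹ * m) v
    rw [mul_inv_cancel_left, act_ker _ this] at e2
    exact e2
  let ac : P36 → V →+ V := fun p => if hp : p ∈ π.range then act hp.choose else AddMonoidHom.id V
  have ac_def : ∀ (m : C) v, ac (π m) v = act m v := fun m v => by
    show (if hp : π m ∈ π.range then act hp.choose else AddMonoidHom.id V) v = _
    rw [dif_pos ⟨m, rfl⟩]
    exact act_congr _ _ (show π m ∈ π.range from ⟨m, rfl⟩).choose_spec v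
  let M : Model V :=
    { q := q
      B := B
      exp2 := hexp
      q_add := q_add
      B_add := B_add
      nondeg := nondeg
      card := card
      R := π.range
      ac := ac
      ac_one := fun v => by rw [← map_one π, ac_def]; exact act_ker 1 (map_one π) v
      ac_mul := by
        rintro _ ⟨m, rfl⟩ _ ⟨n, rfl⟩ v
        rw [← map_mul, ac_def, ac_def, ac_def, act_mul]
      ac_q := by
        rintro _ ⟨m, rfl⟩ v
        obtain ⟨a, ha, rfl⟩ := vq_surj v
        have hm := hmemC.1 m.2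
        rw [ac_def, act_def m a ha, q_def _ (conj_mem_qOf hm ha), q_def a ha,
          show (m : G) * a * (m : G)⁻¹ * (m * a * (m : G)⁻¹) = m * (a * a) * (m : G)⁻¹ by group]
        rcases h.sq_cases ha with e | e <;> rw [e]
        · simp
        · rw [hm, mul_inv_cancel_right]
      faithful := by
        rintro _ ⟨m, rfl⟩ hm1
        have hm := hmemC.1 m.2
        have hcases : ∀ a ∈ qOf z, (m : G) * a * (m : G)⁻¹ * a⁻¹ = 1 ∨ (m : G) * a * (m : G)⁻¹ * a⁻¹ = z := by
          intro a ha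
          have e := hm1 (vq a)
          rw [ac_def, act_def m a ha] at e
          refine (vq_zero _ (mul_mem (conj_mem_qOf hm ha) (inv_mem ha))).1 ?_
          rw [vq_mul _ (conj_mem_qOf hm ha) _ (inv_mem ha), e, ← vq_mul a ha _ (inv_mem ha), mul_inv_cancel]
          exact (vq_zero 1 (one_mem _)).2 (Or.inl rfl)
        have hlz : ∀ a ∈ qOf z, bit ((m : G) * lift (vq a) * (m : G)⁻¹ * (lift (vq a))⁻¹) =
            bit ((m : G) * a * (m : G)⁻¹ * a⁻¹) := fun a ha => by
          rcases lift_eq a ha with e | e <;> rw [e]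
          congr 1
          calc (m : G) * (z * a) * (m : G)⁻¹ * (z * a)⁻¹ = z * ((m : G) * a * (m : G)⁻¹ * a⁻¹) * z⁻¹ := by
                rw [← mul_assoc (m : G) z a, hm]; group
            _ = _ := by rcases hcases a ha with e2 | e2 <;> rw [e2] <;> group
        obtain ⟨u, hu⟩ := exists_rep hexp B B_add B_symm nondeg
          (fun v => bit ((m : G) * lift v * (m : G)⁻¹ * (lift v)⁻¹)) fun u v => by
            obtain ⟨a, ha, rfl⟩ := vq_surj u
            obtain ⟨b, hb, rfl⟩ := vq_surj v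
            rw [← vq_mul a ha b hb, hlz _ (mul_mem ha hb), hlz a ha, hlz b hb]
            exact bit_comm_mul h hm ha (hcases a ha) (hcases b hb)
        obtain ⟨k, hk, rfl⟩ := vq_surj u
        refine (hkerQ m).2 ?_
        have hmem : k⁻¹ * (m : G) ∈ qOf z := by
          refine hP.selfCent (Subgroup.mem_centralizer_iff.2 fun a ha => ?_)
          have e := hu (vq a)
          rw [B_symm, B_def a ha k hk, hlz a ha] at e
          have e2 : k * a * k⁻¹ * a⁻¹ = (m : G) * a * (m : G)⁻¹ * a⁻¹ := by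
            rcases comm_cases h hk ha with e1 | e1 <;> rcases hcases a ha with e3 | e3 <;>
              rw [e1, e3] at e ⊢ <;> simp [bit, h.ne_one] at e
          have e4 := mul_right_cancel e2
          calc a * (k⁻¹ * (m : G)) = k⁻¹ * (k * a * k⁻¹) * (m : G) := by group
            _ = k⁻¹ * ((m : G) * a * (m : G)⁻¹) * (m : G) := by rw [e4]
            _ = k⁻¹ * (m : G) * a := by group
        simpa using mul_mem hk hmem
      three_six := h36
      exists_odd := hodd }
  let pi : G → P36 := fun g => if hg : g ∈ C then π ⟨g, hg⟩ else 1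
  have pi_def : ∀ (g : G) (hg : g * z = z * g), pi g = π ⟨g, hmemC.2 hg⟩ := fun g hg => dif_pos _
  refine ⟨V, inferInstance, ⟨⟨M, hP, hcard, vq, pi, vq_mul, vq_zero, vq_surj, fun a ha => ?_, B_eq, ?_, ?_,
    ?_, ?_, ?_⟩⟩⟩
  · show q (vq a) = 0 ↔ _
    rw [q_def a ha, bit_eq_zero]
  · intro a b ha hb
    rw [pi_def a ha, pi_def b hb, pi_def _ (hmemC.1 (mul_mem (hmemC.2 ha) (hmemC.2 hb))), ← map_mul]
    rfl
  · intro a ha
    rw [pi_def a ha]
    exact ⟨_, rfl⟩
  · rintro _ ⟨m, rfl⟩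
    exact ⟨m, hmemC.1 m.2, by rw [pi_def _ (hmemC.1 m.2)]⟩
  · intro a ha
    rw [pi_def a ha, hkerQ]
  · intro m hm a ha
    rw [pi_def m hm]
    exact (ac_def _ _).trans (act_def _ a ha)

end CfsgLib.ExtraNineS3A6
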