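import Cfsg.Agent.Lib.ExtraNineS3A6.Space

/-!
Orders of the totally singular subgroup and of the elementary abelian group attached to a conjugate of
the centre in the core.
-/

set_option autoImplicit false

namespace CfsgLib.ExtraNineS3A6

open Equiv Equiv.Perm

variable {V : Type*} [AddCommGroup V] {M : Model V} {x : V} {E : AddSubgroup V} {A : Subgroup P36}

namespace Pr

variable (h : Pr M x E A)
include h

theorem q_x : M.q x = 0 := h.E_q x h.x_mem

theorem B_E {u v : V} (hu : u ∈ E) (hv : v ∈ E) : M.B u v = 0 := by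
  rw [M.B_eq, h.E_q _ (E.add_mem hu hv), h.E_q u hu, h.E_q v hv, add_zero, add_zero]

theorem card_E_le : Nat.card E ≤ 16 := by
  haveI := M.finite
  have hle : Nat.card E ≤ Nat.card {v : V // ∀ u ∈ E, M.B v u = 0} :=
    Nat.card_le_card_of_injective (fun e => ⟨(e : V), fun u hu => h.B_E e.2 hu⟩)
      (fun a b e => Subtype.ext (Subtype.mk.inj e))
  have := M.card_perp E
  by_contra hlt
  push Not at hlt
  nlinarith

theorem perp_E (h16 : Nat.card E = 16) {v : V} (hv : ∀ u ∈ E, M.B v u = 0) : v ∈ E := by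
  haveI := M.finite
  have hp := M.card_perp E
  rw [h16] at hp
  let ι : E → {v : V // ∀ u ∈ E, M.B v u = 0} := fun e => ⟨(e : V), fun u hu => h.B_E e.2 hu⟩
  have hb : Function.Bijective ι :=
    (Nat.bijective_iff_injective_and_card ι).2
      ⟨fun a b e => Subtype.ext (Subtype.mk.inj e), by omega⟩
  obtain ⟨e, he⟩ := hb.2 ⟨v, hv⟩
  rw [← Subtype.mk.inj he]
  exact e.2

theorem A_comm {a b : P36} (ha : a ∈ A) (hb : b ∈ A) : a * b = b * a := by
  have h1 : ∀ y ∈ A, y⁻¹ = y := fun y hy => inv_eq_of_mul_eq_one_right (h.A_sq y hy)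
  calc a * b = (a * b)⁻¹ := (h1 _ (A.mul_mem ha hb)).symm
    _ = b * a := by rw [mul_inv_rev, h1 a ha, h1 b hb]

theorem fst_eq {a b : P36} (ha : a ∈ A) (hb : b ∈ A) (h1 : a.1 ≠ 1) (h2 : b.1 ≠ 1) : a.1 = b.1 :=
  eq_of_commute_three _ _ (congrArg Prod.fst (h.A_sq a ha)) (congrArg Prod.fst (h.A_sq b hb))
    (congrArg Prod.fst (h.A_comm ha hb)) h1 h2

theorem fst_sign {a : P36} (ha : a ∈ A) (h1 : a.1 ≠ 1) : sign a.1 = -1 := by
  rcases Int.units_eq_one_or (sign a.1) with e | e
  · exact absurd (even_involution_three _ e (congrArg Prod.fst (h.A_sq a ha))) h1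
  · exact e

omit h in
/-- the part of `A` inside the second factor -/
theorem ker_fst_card (A : Subgroup P36) :
    Nat.card {a : A // (a : P36).1 = 1} * Nat.card ((MonoidHom.fst _ _).comp A.subtype : A →* S3).range =
      Nat.card A := by
  let φ : A →* S3 := (MonoidHom.fst _ _).comp A.subtype
  have h1 := φ.ker.card_mul_index
  rw [Subgroup.index_ker] at h1
  rw [← h1]
  rfl

theorem range_fst_le : Nat.card ((MonoidHom.fst _ _).comp A.subtype : A →* S3).range ≤ 2 := by
  classical
  by_contra hlt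
  push Not at hlt
  set R := ((MonoidHom.fst _ _).comp A.subtype : A →* S3).range with hR
  have hsub : ∀ r : R, (r : S3) ≠ 1 → ∀ s : R, (s : S3) ≠ 1 → r = s := by
    rintro ⟨_, a, rfl⟩ hr ⟨_, b, rfl⟩ hs
    exact Subtype.ext (h.fst_eq a.2 b.2 hr hs)
  let ψ : R → Bool := fun r => decide ((r : S3) = 1)
  have hinj : Function.Injective ψ := by
    intro r s e
    simp only [ψ, decide_eq_decide] at e
    by_cases hr : (r : S3) = 1
    · exact Subtype.ext (hr.trans (e.1 hr).symm)
    · exact hsub r hr s (fun hs => hr (e.2 hs))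
  have := Nat.card_le_card_of_injective ψ hinj
  rw [Nat.card_eq_fintype_card (α := Bool), Fintype.card_bool] at this
  omega

theorem ker_fst_le : Nat.card {a : A // (a : P36).1 = 1} ≤ 8 := by
  let H : Subgroup S6 := A.comap (MonoidHom.inr S3 S6)
  have h1 : Nat.card H ≤ 8 :=
    card_elementary_le fun a ha => congrArg Prod.snd (h.A_sq _ (Subgroup.mem_comap.1 ha))
  refine le_trans (Nat.card_le_card_of_injective
    (fun a : {a : A // (a : P36).1 = 1} => (⟨((a : A) : P36).2, ?_⟩ : H)) ?_) h1
  · rw [Subgroup.mem_comap, show MonoidHom.inr S3 S6 ((a : A) : P36).2 = ((a : A) : P36) from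
      Prod.ext a.2.symm rfl]
    exact (a : A).2
  · intro a b e
    exact Subtype.ext (Subtype.ext (Prod.ext (a.2.trans b.2.symm) (Subtype.mk.inj e)))

theorem card_A_le : Nat.card A ≤ 16 := by
  rw [← ker_fst_card A]
  calc _ ≤ 8 * 2 := Nat.mul_le_mul h.ker_fst_le h.range_fst_le
    _ = 16 := rfl

theorem card_cases : (Nat.card E = 16 ∧ Nat.card A = 8) ∨ (Nat.card E = 8 ∧ Nat.card A = 16) := by
  obtain ⟨k, -, hk⟩ := M.card_pow E
  have h1 := h.card_E_le
  have h2 := h.card_A_le
  have h3 := h.card_eq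
  rw [hk] at h1 h3 ⊢
  have hk4 : k ≤ 4 := by
    by_contra h5
    have : 2 ^ 5 ≤ 2 ^ k := Nat.pow_le_pow_right (by norm_num) (by omega)
    omega
  interval_cases k <;> omega

/-- `A` has a non-trivial even element inside the second factor -/
theorem exists_even : ∃ a ∈ A, a.1 = 1 ∧ sign a.2 = 1 ∧ a ≠ 1 := by
  classical
  by_contra hne
  push Not at hne
  have hA : 8 ≤ Nat.card A := by rcases h.card_cases with ⟨-, e⟩ | ⟨-, e⟩ <;> omega
  have hinj : Function.Injective (fun a : {a : A // (a : P36).1 = 1} => sign ((a : A) : P36).2) := by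
    intro a b e
    have e' : sign ((a : A) : P36).2 = sign ((b : A) : P36).2 := e
    have := hne _ (A.mul_mem (a : A).2 (A.inv_mem (b : A).2))
      (by show ((a : A) : P36).1 * (((b : A) : P36).1)⁻¹ = 1; rw [a.2, b.2, mul_inv_cancel])
      (by show sign (((a : A) : P36).2 * (((b : A) : P36).2)⁻¹) = 1; rw [map_mul, map_inv, e', mul_inv_cancel])
    exact Subtype.ext (Subtype.ext (mul_inv_eq_one.1 this))
  have h2 := Nat.card_le_card_of_injective _ hinj
  rw [Nat.card_eq_fintype_card (α := ℤˣ), Fintype.card_units_int] at h2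
  have h3 := h.range_fst_le
  have h4 := ker_fst_card A
  nlinarith

/-- when `A` has order sixteen it contains a transposition of the first factor -/
theorem exists_pure_odd (h16 : Nat.card A = 16) : ∃ a ∈ A, a.2 = 1 ∧ sign a.1 = -1 := by
  classical
  by_contra hne
  push Not at hne
  let φ : A →* S6 := (MonoidHom.snd _ _).comp A.subtype
  have hinj : Function.Injective φ := by
    refine (injective_iff_map_eq_one φ).2 fun a ha => ?_
    by_contra h1
    refine hne a a.2 ha (h.fst_sign a.2 fun e => h1 (Subtype.ext (Prod.ext e ha)))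
  have h1 : Nat.card φ.range ≤ 8 := card_elementary_le fun b hb => by
    obtain ⟨a, rfl⟩ := hb
    exact congrArg Prod.snd (h.A_sq a a.2)
  rw [← Nat.card_congr (MonoidHom.ofInjective hinj).toEquiv, h16] at h1
  omega

end Pr

end CfsgLib.ExtraNineS3A6
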