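import Cfsg.Agent.Lib.ExtraNineS3A6.Orbit

/-!
The element of order three fixing the distinguished vector and the involution centralized by it.
-/

set_option autoImplicit false

namespace CfsgLib.ExtraNineS3A6

open Equiv Equiv.Perm

/-- An element of order three fixing `x`, with the inverting involution of `A` that it centralizes. -/
structure Frame {V : Type*} [AddCommGroup V] (M : Model V) (x : V) (E : AddSubgroup V) (A : Subgroup P36)
    (d i : P36) : Prop extends Pr M x E A where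
  d_mem : d ∈ M.R
  d_cube : d * d * d = 1
  d_ne : d ≠ 1
  d_fix : M.ac d x = x
  i_mem : i ∈ A
  i_odd : sign i.1 = -1
  di : d * i = i * d

namespace Pr

variable {V : Type*} [AddCommGroup V] {M : Model V} {x : V} {E : AddSubgroup V} {A : Subgroup P36}
  (h : Pr M x E A) {d : P36} (hd : d ∈ M.R) (hd3 : d * d * d = 1) (hd1 : d ≠ 1) (hdx : M.ac d x = x)
include h hd hd3 hd1 hdx

theorem d_fst : d.1 = 1 := by
  obtain ⟨α, hα, hs, hT⟩ := h.exists_hasT
  exact h.three_fst hα hs hT hd hd3 hdx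

theorem d_snd : d.2 * d.2 * d.2 = 1 ∧ d.2 ≠ 1 :=
  ⟨congrArg Prod.snd hd3, fun e => hd1 (Prod.ext (h.d_fst hd hd3 hd1 hdx) e)⟩

theorem d_conj {a : P36} (ha : a ∈ A0 A) : d * a * d⁻¹ ∈ A0 A := by
  refine mem_A0.2 ⟨h.stab_A d hd hdx a ha.1, ?_⟩
  show d.1 * a.1 * d.1⁻¹ = 1
  rw [(mem_A0.1 ha).2, mul_one, mul_inv_cancel]

omit h hd hd1 hdx in
theorem conj_conj_conj (a : P36) : d * (d * (d * a * d⁻¹) * d⁻¹) * d⁻¹ = a := by
  calc d * (d * (d * a * d⁻¹) * d⁻¹) * d⁻¹ = (d * d * d) * a * (d * d * d)⁻¹ := by group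
    _ = a := by rw [hd3, one_mul, inv_one, mul_one]

theorem free_even {a : P36} (ha : a ∈ A0 A) (h1 : a ≠ 1) (hs : sign a.2 = 1) : d * a * d⁻¹ ≠ a := by
  intro e
  have hc := mul_inv_eq_iff_eq_mul.1 e
  have h2 : a.2 * a.2 = 1 := congrArg Prod.snd (h.A_sq a ha.1)
  refine (h.d_snd hd hd3 hd1 hdx).2 (no_three_commute d.2 (h.d_snd hd hd3 hd1 hdx).1 a.2 h2 hs
    (fun e2 => h1 (Prod.ext (mem_A0.1 ha).2 e2)) (congrArg Prod.snd hc))

theorem cover {a : P36} (ha : a ∈ A0 A) (h1 : a ≠ 1) (hne : d * a * d⁻¹ ≠ a) {b : P36} (hb : b ∈ A0 A) :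
    b = 1 ∨ b = a ∨ b = d * a * d⁻¹ ∨ b = d * (d * a * d⁻¹) * d⁻¹ := by
  haveI := M.finite
  obtain ⟨α, hα, hs⟩ := h.exists_odd
  have hcc := conj_conj_conj (d := d) hd3 a
  set a' := d * a * d⁻¹ with ha'
  have ha'm : a' ∈ A0 A := h.d_conj hd hd3 hd1 hdx ha
  set a'' := d * a' * d⁻¹ with ha''
  have ha''m : a'' ∈ A0 A := h.d_conj hd hd3 hd1 hdx ha'm
  have hne2 : a'' ≠ a' := fun e => hne (mul_left_cancel (mul_right_cancel e) :)
  have hne3 : a'' ≠ a := by
    intro e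
    rw [e] at hcc
    exact hne hcc
  have h1' : a' ≠ 1 := fun e => h1 (conj_eq_one_iff.1 e)
  have h1'' : a'' ≠ 1 := fun e => h1' (conj_eq_one_iff.1 e)
  let ι : Fin 4 → A0 A := ![1, ⟨a, ha⟩, ⟨a', ha'm⟩, ⟨a'', ha''m⟩]
  have hinj : Function.Injective ι := by
    intro i j e
    have e' := congrArg Subtype.val e
    fin_cases i <;> fin_cases j <;>
      simp [ι, h1, h1', h1'', hne, hne2, hne3, Ne.symm h1, Ne.symm h1', Ne.symm h1'', Ne.symm hne,
        Ne.symm hne2, Ne.symm hne3] at e' ⊢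
  have hb' : Function.Bijective ι :=
    (Nat.bijective_iff_injective_and_card ι).2 ⟨hinj, by rw [h.card_A0 hα hs, Nat.card_fin]⟩
  obtain ⟨i, hi⟩ := hb'.2 ⟨b, hb⟩
  have hi' : b = (ι i : P36) := (congrArg Subtype.val hi).symm
  fin_cases i <;> simp [hi', ι]

theorem free {a : P36} (ha : a ∈ A0 A) (h1 : a ≠ 1) : d * a * d⁻¹ ≠ a := by
  obtain ⟨p, hp, hp1, hps, hpne⟩ := h.exists_even
  have hp0 : p ∈ A0 A := mem_A0.2 ⟨hp, hp1⟩
  refine h.free_even hd hd3 hd1 hdx ha h1 ?_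
  rcases h.cover hd hd3 hd1 hdx hp0 hpne (h.free_even hd hd3 hd1 hdx hp0 hpne hps) ha with e | e | e | e
  · exact absurd e h1
  · rw [e]; exact hps
  · rw [e]
    simp [hps, mul_comm]
  · rw [e]
    simp [hps, mul_comm]

theorem exists_frame : ∃ i, Frame M x E A d i := by
  classical
  haveI := M.finite
  haveI : Fact (Nat.Prime 3) := ⟨Nat.prime_three⟩
  obtain ⟨α, hα, hs⟩ := h.exists_odd
  obtain ⟨-, hA⟩ := h.card_E hα hs
  by_contra hne
  push Not at hne
  let σ : {a : P36 // a ∈ A ∧ a ≠ 1} → {a : P36 // a ∈ A ∧ a ≠ 1} := fun a =>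
    ⟨d * a * d⁻¹, h.stab_A d hd hdx a a.2.1, fun e => a.2.2 (conj_eq_one_iff.1 e)⟩
  have hfree : ∀ a, σ a ≠ a := by
    rintro ⟨a, ha, ha1⟩ e
    have e' : d * a * d⁻¹ = a := congrArg Subtype.val e
    rcases h.fst_cases ha with h1 | h1
    · exact h.free hd hd3 hd1 hdx (mem_A0.2 ⟨ha, h1⟩) ha1 e'
    · exact hne a ⟨h, hd, hd3, hd1, hdx, ha, h1, mul_inv_eq_iff_eq_mul.1 e'⟩
  have h3 := Model.dvd_card_of_fixed_point_free 3 σ (funext fun a => Subtype.ext
    (conj_conj_conj (d := d) hd3 (a : P36))) hfree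
  have hcard : Nat.card {a : P36 // a ∈ A ∧ a ≠ 1} + 1 = Nat.card A := by
    rw [← Finite.card_option]
    refine Nat.card_eq_of_bijective
      (fun o : Option {a : P36 // a ∈ A ∧ a ≠ 1} => o.elim (1 : A) fun a => ⟨a, a.2.1⟩) ⟨?_, ?_⟩
    · rintro (_ | ⟨a, ha⟩) (_ | ⟨b, hb⟩) e
      · rfl
      · exact absurd (congrArg Subtype.val e).symm hb.2
      · exact absurd (congrArg Subtype.val e) ha.2
      · exact congrArg _ (Subtype.ext (congrArg Subtype.val e :))
    · intro a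
      by_cases h1 : (a : P36) = 1
      · exact ⟨none, Subtype.ext h1.symm⟩
      · exact ⟨some ⟨a, a.2, h1⟩, rfl⟩
  omega

end Pr

namespace Frame

variable {V : Type*} [AddCommGroup V] {M : Model V} {x : V} {E : AddSubgroup V} {A : Subgroup P36}
  {d i : P36} (F : Frame M x E A d i)
include F

theorem mirror : Mirror M i := F.toPr.mirror F.i_mem F.i_odd

theorem x_mem_fix : x ∈ M.fixA i := F.toPr.x_fix F.i_mem F.i_odd

theorem cx_mem : M.cc x ∈ E := F.toPr.cx_mem F.i_mem F.i_odd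

theorem d_cc (v : V) : M.ac d (M.cc v) = M.cc (M.ac d v) :=
  M.cc_comm_of_even F.d_mem (by rw [F.toPr.d_fst F.d_mem F.d_cube F.d_ne F.d_fix]; simp) v

theorem d_fix_cx : M.ac d (M.cc x) = M.cc x := by rw [F.d_cc, F.d_fix]

theorem d_br {u v : V} (hu : u ∈ M.fixA i) (hv : v ∈ M.fixA i) :
    M.B (M.ac d u) (M.cc (M.ac d v)) = M.B u (M.cc v) :=
  F.mirror.br_conj F.d_mem F.di hu hv

theorem d_perp {u : V} (hu : u ∈ M.perpC (M.fixA i) x) : M.ac d u ∈ M.perpC (M.fixA i) x := by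
  refine ⟨F.mirror.conj_mem F.d_mem F.di hu.1, ?_⟩
  have e := F.d_br F.x_mem_fix hu.1
  rw [F.d_fix] at e
  exact e.trans hu.2

theorem mu_one {a : P36} (ha : a ∈ A0 A) (h1 : a ≠ 1) {w : V} (hw : w ∈ M.fixA i)
    (hwx : M.B x (M.cc w) = 1) : M.B w (M.cc (M.ac a w + w)) = 1 := by
  have h := F.toPr
  have step : ∀ b ∈ A0 A, M.B w (M.cc (M.ac (d * b * d⁻¹) w + w)) = M.B w (M.cc (M.ac b w + w)) := by
    intro b hb
    have hb' := h.d_conj F.d_mem F.d_cube F.d_ne F.d_fix hb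
    have hdw := F.mirror.conj_mem F.d_mem F.di hw
    have hdwx : M.B x (M.cc (M.ac d w)) = 1 := by
      have e := F.d_br F.x_mem_fix hw
      rw [F.d_fix] at e
      exact e.trans hwx
    rw [← h.mu_indep F.i_mem F.i_odd hw hwx hdw hdwx hb']
    have e : M.ac (d * b * d⁻¹) (M.ac d w) + M.ac d w = M.ac d (M.ac b w + w) := by
      rw [M.ac_mul _ (M.R.mul_mem F.d_mem (h.A_le hb.1)) _ (M.R.inv_mem F.d_mem), M.ac_inv F.d_mem,
        M.ac_mul _ F.d_mem _ (h.A_le hb.1), map_add]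
    rw [e, F.d_br hw (h.delta_mem F.i_mem F.i_odd hw hwx hb).1]
  have hne := h.free F.d_mem F.d_cube F.d_ne F.d_fix ha h1
  have ha' := h.d_conj F.d_mem F.d_cube F.d_ne F.d_fix ha
  have h1' : d * a * d⁻¹ ≠ 1 := fun e => h1 (conj_eq_one_iff.1 e)
  have hmm := h.mu_mul F.i_mem F.i_odd hw hwx ha ha' h1 h1' (Ne.symm hne)
  rw [step a ha] at hmm
  have hprod : M.B w (M.cc (M.ac (a * (d * a * d⁻¹)) w + w)) = M.B w (M.cc (M.ac a w + w)) := by
    rcases h.cover F.d_mem F.d_cube F.d_ne F.d_fix ha h1 hne ((A0 A).mul_mem ha ha') with e | e | e | e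
    · exfalso
      exact hne ((mul_eq_one_iff_inv_eq.1 e).symm.trans (inv_eq_of_mul_eq_one_right (h.A_sq a ha.1)))
    · rw [e]
    · rw [e, step a ha]
    · rw [e, step _ ha', step a ha]
  rw [hprod] at hmm
  linear_combination -hmm - zmod_two_add_self (1 : ZMod 2)

theorem fix_plane {e : V} (he : e ∈ E) (hde : M.ac d e = e) : e ∈ M.plane x (M.cc x) := by
  haveI := M.finite
  have h := F.toPr
  by_contra hnot
  have hR : ∀ b ∈ A0 A, b ∈ M.R := fun b hb => h.A_le hb.1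
  have hall : ∀ a ∈ A0 A, M.ac a e = e := by
    intro a ha
    by_cases h1 : a = 1
    · rw [h1, M.ac_one]
    by_contra hmove
    have hax : M.ac a e = e + x := by
      have := (h.E_comm a ha.1 e he).resolve_left fun z => hmove (M.add_eq_zero_iff.1 z)
      rw [← this, add_left_comm, M.exp2, add_zero]
    have hconj : ∀ b ∈ A0 A, M.ac b e = e + x → M.ac (d * b * d⁻¹) e = e + x := fun b hb hbe => by
      rw [M.ac_mul _ (M.R.mul_mem F.d_mem (hR b hb)) _ (M.R.inv_mem F.d_mem), M.ac_fix_inv F.d_mem hde,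
        M.ac_mul _ F.d_mem _ (hR b hb), hbe, map_add, hde, F.d_fix]
    have hne := h.free F.d_mem F.d_cube F.d_ne F.d_fix ha h1
    have ha' := h.d_conj F.d_mem F.d_cube F.d_ne F.d_fix ha
    have ha'e := hconj a ha hax
    have hprod : M.ac (a * (d * a * d⁻¹)) e = e := by
      rw [M.ac_mul _ (hR a ha) _ (hR _ ha'), ha'e, map_add, hax, h.A_fix a ha.1, add_assoc, M.exp2, add_zero]
    have hxe : e + x ≠ e := fun z => h.x_ne (add_eq_left.1 z)
    rcases h.cover F.d_mem F.d_cube F.d_ne F.d_fix ha h1 hne ((A0 A).mul_mem ha ha') with z | z | z | z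
    · exact hne ((mul_eq_one_iff_inv_eq.1 z).symm.trans (inv_eq_of_mul_eq_one_right (h.A_sq a ha.1)))
    · rw [z, hax] at hprod; exact hxe hprod
    · rw [z, ha'e] at hprod; exact hxe hprod
    · rw [z, hconj _ ha' ha'e] at hprod; exact hxe hprod
  have hp4 := M.four_le_plane h.x_ne h.cc_x_ne_zero h.cc_x_ne
  let S := M.plane x (M.cc x) ⊔ M.line e
  have h8 : 2 * Nat.card (M.plane x (M.cc x)) ≤ Nat.card S :=
    M.two_mul_le le_sup_left (AddSubgroup.mem_sup_right (show e ∈ M.line e from Or.inr rfl)) hnot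
  have hE := (h.card_E F.i_mem F.i_odd).1
  have hle := M.card_le_two (A0 A) hR x S E
    (sup_le (M.plane_le h.x_mem F.cx_mem) fun t ht => by
      rcases ht with rfl | rfl
      · exact E.zero_mem
      · exact he)
    (by omega) (fun b hb => h.E_comm b hb.1)
    (fun b hb => show S ≤ M.fixA b from sup_le
      (M.plane_le (h.A_fix b hb.1) (by rw [Model.mem_fixA, h.comm_cc hb.1 (mem_A0.1 hb).2, h.A_fix b hb.1]))
      (fun t ht => by
        rcases ht with rfl | rfl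
        · exact map_zero _
        · exact hall b hb))
    fun b hb hf => h.inj hE b hb.1 hf
  rw [h.card_A0 F.i_mem F.i_odd] at hle
  omega

theorem de_fix {e : V} (he : e ∈ E) : M.ac d e + e ∈ M.fixA i := by
  rcases F.toPr.E_split F.i_mem F.i_odd he with e1 | e1
  · exact (M.fixA i).add_mem (F.d_perp e1).1 e1.1
  · have := (M.fixA i).add_mem (F.d_perp e1).1 e1.1
    rwa [map_add, F.d_fix_cx, add_add_add_comm, M.exp2, add_zero] at this

theorem perp_decomp {u : V} (hu : u ∈ M.perpC (M.fixA i) x) :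
    ∃ e ∈ E, u = M.ac d e + e ∨ u = x + (M.ac d e + e) := by
  have h := F.toPr
  set s := u + M.ac d u + M.ac d (M.ac d u) with hs
  have hd3 : ∀ v, M.ac d (M.ac d (M.ac d v)) = v := fun v => by
    rw [← M.ac_mul _ F.d_mem _ F.d_mem, ← M.ac_mul _ (M.R.mul_mem F.d_mem F.d_mem) _ F.d_mem, F.d_cube,
      M.ac_one]
  have hsp : s ∈ M.perpC (M.fixA i) x :=
    (M.perpC (M.fixA i) x).add_mem ((M.perpC (M.fixA i) x).add_mem hu (F.d_perp hu))
      (F.d_perp (F.d_perp hu))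
  have hsfix : M.ac d s = s := by
    rw [hs, map_add, map_add, hd3]
    abel
  refine ⟨M.ac d u, h.perpC_le F.i_mem F.i_odd (F.d_perp hu), ?_⟩
  have hsum : M.ac d (M.ac d u) + M.ac d u = u + s := by
    rw [hs, ← add_assoc, ← add_assoc, M.exp2, zero_add, add_comm]
  have hu' : u = s + (M.ac d (M.ac d u) + M.ac d u) := by
    rw [hsum, add_left_comm, M.exp2, add_zero]
  have hx := F.x_mem_fix
  rcases M.mem_plane (F.fix_plane (h.perpC_le F.i_mem F.i_odd hsp) hsfix) with e | e | e | e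
  · exact Or.inl (by rw [e, zero_add] at hu'; exact hu')
  · exact Or.inr (by rw [e] at hu'; exact hu')
  · exact absurd (F.mirror.eq_zero_of_cc hx (e ▸ hsp.1)) h.x_ne
  · have hm := (M.fixA i).add_mem hx hsp.1
    rw [e, ← add_assoc, M.exp2, zero_add] at hm
    exact absurd (F.mirror.eq_zero_of_cc hx hm) h.x_ne

/-- A second vector of the orbit of `x` fixed by the involution and orthogonal to `x`. -/
theorem exists_y : ∃ y ∈ E, M.ac i y = y ∧ M.B x (M.cc y) = 0 ∧ y ≠ 0 ∧ y ≠ x ∧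
    ∃ p ∈ M.R, M.ac p x = y := by
  classical
  haveI := M.finite
  have h := F.toPr
  obtain ⟨α, hα, hs, hT⟩ := h.exists_hasT
  have hiR := h.A_le F.i_mem
  have hi1 : i.1 = α.1 := h.fst_eq F.i_mem hα (fun e => by have := F.i_odd; rw [e] at this; simp at this)
    (fun e => by rw [e] at hs; simp at hs)
  suffices hy : ∃ y, M.ac i y = y ∧ M.B x (M.cc y) = 0 ∧ y ≠ 0 ∧ y ≠ x ∧ ∃ p ∈ M.R, M.ac p x = y by
    obtain ⟨y, h1, h2, h3, h4, h5⟩ := hy
    exact ⟨y, h.perpC_le F.i_mem F.i_odd ⟨h1, h2⟩, h1, h2, h3, h4, h5⟩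
  by_cases ht : ((α.1, 1) : P36) ∈ M.R
  · have mt := h.pure_mirror hα hs ht
    have htx := h.pure_fix hα hs hT ht
    set t : P36 := (α.1, 1) with htdef
    set s := i * t with hsdef
    have hsR : s ∈ M.R := M.R.mul_mem hiR ht
    have hit : i * t = t * i := Prod.ext (by simp [htdef, hi1]) (by simp [htdef])
    have hst : s * t = t * s := by rw [hsdef, ← mul_assoc t i t, ← hit]
    have hs2 : ∀ v, M.ac s (M.ac s v) = v := fun v => by
      rw [← M.ac_mul _ hsR _ hsR]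
      have : s * s = 1 := by
        rw [hsdef]
        calc i * t * (i * t) = i * i * (t * t) := by rw [mul_assoc i t, ← mul_assoc t i, ← hit]; group
          _ = 1 := by rw [h.A_sq i F.i_mem, mt.sq, one_mul]
      rw [this, M.ac_one]
    have hsx : M.ac s x = x := M.ac_mul_fix hiR ht (h.A_fix i F.i_mem) htx
    set P := M.perpC (M.fixA t) x with hP
    have hPs : ∀ u ∈ P, M.ac s u ∈ P := fun u hu => by
      refine ⟨mt.conj_mem hsR hst hu.1, ?_⟩
      have e := mt.br_conj hsR hst htx hu.1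
      rw [hsx] at e
      exact e.trans hu.2
    have h8 := M.half_perpC (M.fixA t) x
    rw [mt.card_fix] at h8
    let φ : P →+ P := AddMonoidHom.mk' (fun u => ⟨M.ac s u + u, P.add_mem (hPs u u.2) u.2⟩)
      fun u v => Subtype.ext (by
        show M.ac s ((u : V) + v) + ((u : V) + v) = (M.ac s u + u) + (M.ac s v + v)
        rw [map_add]; abel)
    have hkr := φ.ker.card_mul_index
    rw [AddSubgroup.index_ker] at hkr
    have hrk : Nat.card φ.range ≤ Nat.card φ.ker := by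
      refine AddSubgroup.card_le_of_le ?_
      rintro _ ⟨u, rfl⟩
      refine AddMonoidHom.mem_ker.2 (Subtype.ext ?_)
      show M.ac s (M.ac s u + u) + (M.ac s u + u) = 0
      rw [map_add, hs2, add_comm (u : V), M.exp2]
    obtain ⟨u, hu, hu0, hux, hus⟩ : ∃ u ∈ P, u ≠ 0 ∧ u ≠ x ∧ M.ac s u = u := by
      by_contra hne
      push Not at hne
      have hker : Nat.card φ.ker ≤ 2 := by
        refine le_trans (Nat.card_le_card_of_injective (fun u : φ.ker => decide (((u : P) : V) = 0)) ?_)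
          (le_of_eq (by rw [Nat.card_eq_fintype_card, Fintype.card_bool]))
        intro a b e
        simp only [decide_eq_decide] at e
        have key : ∀ c : φ.ker, ((c : P) : V) ≠ 0 → ((c : P) : V) = x := fun c hc => by
          by_contra hcx
          exact hne _ (c : P).2 hc hcx
            (M.add_eq_zero_iff.1 (congrArg Subtype.val (AddMonoidHom.mem_ker.1 c.2)))
        by_cases ha : ((a : P) : V) = 0
        · exact Subtype.ext (Subtype.ext (ha.trans (e.1 ha).symm))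
        · exact Subtype.ext (Subtype.ext ((key a ha).trans (key b fun hb => ha (e.2 hb)).symm))
      have h8' : 8 ≤ Nat.card P := by show 8 ≤ Nat.card (M.perpC (M.fixA t) x); omega
      nlinarith
    have hiu : M.ac i u = u := by
      have e : i = s * t := by rw [hsdef, mul_assoc, mt.sq, mul_one]
      rw [e]
      exact M.ac_mul_fix hsR ht hus hu.1
    obtain ⟨g, hg⟩ := (h.orbit_fifteen hα hs hT ht).1 u hu.1 hu0
    exact ⟨u, hiu, hu.2, hu0, hux, _, M.six_mem g.2, hg⟩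
  · -- the two signs agree on `R`
    have hTi : HasT M x i := by
      obtain ⟨w, hw, hwx⟩ := h.exists_dual F.i_mem F.i_odd
      rcases zmod_two_cases (M.q w) with hq | hq
      swap
      · exact h.hasT_of_one F.i_mem F.i_odd hw hq
      exfalso
      obtain ⟨a, ha, ha1, hps, hpne⟩ := h.exists_even
      have ha0 : a ∈ A0 A := mem_A0.2 ⟨ha, ha1⟩
      have hT' := h.hasT_mul F.i_mem F.i_odd hw hwx hq ha0 (F.mu_one ha0 hpne hw hwx)
      obtain ⟨hβ, hβs⟩ := h.mul_odd F.i_mem ha0 F.i_odd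
      have hβt : (((i * a).1, 1) : P36) ∉ M.R := by
        rwa [Prod.fst_mul, ha1, mul_one, hi1]
      have hd1 := h.d_fst F.d_mem F.d_cube F.d_ne F.d_fix
      have hd2 : sign d.2 = 1 := sign_of_cube_six _ (congrArg Prod.snd F.d_cube)
      have hmem : (⟨d.2, hd2⟩ : A6) ∈ M.sixStab x := by
        rw [M.mem_sixStab, show ((1, d.2) : P36) = d from Prod.ext hd1.symm rfl]
        exact F.d_fix
      have hc : d.2 * (i.2 * a.2) = i.2 * a.2 * d.2 := ((h.stab_tie hβ hβs hT' hβt).2 _).1 hmem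
      have hdi : d.2 * i.2 = i.2 * d.2 := congrArg Prod.snd F.di
      refine h.free F.d_mem F.d_cube F.d_ne F.d_fix ha0 hpne (mul_inv_eq_iff_eq_mul.2 ?_)
      refine Prod.ext (by simp [hd1, ha1]) ?_
      show d.2 * a.2 = a.2 * d.2
      apply mul_left_cancel (a := i.2)
      rw [← mul_assoc, ← hdi, mul_assoc, hc, mul_assoc]
    have hti : ((i.1, 1) : P36) ∉ M.R := by rwa [hi1]
    have hσ : i.2 * i.2 = 1 := congrArg Prod.snd (h.A_sq i F.i_mem)
    have hσs : sign i.2 = -1 := by rw [← h.tie F.i_mem F.i_odd hti hiR]; exact F.i_odd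
    obtain ⟨g, hg1, hg2, hgs⟩ := exists_conj_commute i.2 hσ hσs
    have hp : ((1, g) : P36) ∈ M.R := M.six_mem hgs
    set j : P36 := (1, g) * i * (1, g)⁻¹ with hj
    have hjR : j ∈ M.R := M.R.mul_mem (M.R.mul_mem hp hiR) (M.R.inv_mem hp)
    have hj2 : j.2 = g * i.2 * g⁻¹ := rfl
    have hj1 : j.1 = i.1 := by simp [hj]
    have hjx := h.fix_of_comm F.i_mem F.i_odd hTi hjR
      (Prod.ext (by simp [hj1]) (by show j.2 * i.2 = i.2 * j.2; rw [hj2]; exact hg1))
    refine ⟨M.ac (1, g)⁻¹ x, ?_, ?_, ?_, ?_, _, M.R.inv_mem hp, rfl⟩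
    · rw [hj, M.ac_mul _ (M.R.mul_mem hp hiR) _ (M.R.inv_mem hp), M.ac_mul _ hp _ hiR] at hjx
      conv_rhs => rw [← hjx, M.ac_inv hp]
    · have hy : M.ac (1, g)⁻¹ x ∈ M.fixA i := by
        rw [hj, M.ac_mul _ (M.R.mul_mem hp hiR) _ (M.R.inv_mem hp), M.ac_mul _ hp _ hiR] at hjx
        show M.ac i _ = _
        conv_rhs => rw [← hjx, M.ac_inv hp]
      rw [← hTi _ hy, M.ac_q _ (M.R.inv_mem hp), h.q_x]
    · exact fun e => h.x_ne (M.ac_injective (M.R.inv_mem hp) (e.trans (map_zero _).symm))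
    · intro e
      have hgx : M.ac (1, g) x = x := by
        conv_lhs => rw [← e, M.ac_inv' hp]
      have := ((h.stab_tie F.i_mem F.i_odd hTi hti).2 ⟨g, hgs⟩).1 (M.mem_sixStab.2 hgx)
      exact hg2 (mul_inv_eq_iff_eq_mul.2 this)

end Frame

end CfsgLib.ExtraNineS3A6
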