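import Cfsg.Agent.Lib.ExtraNineS3A6.Point
import Cfsg.Agent.Lib.ExtraNineS3A6.Frame

/-!
The centre is not conjugate to a non-central element of the core.
-/

set_option autoImplicit false

namespace CfsgLib.ExtraNineS3A6

open CfsgLib.LargeExtra CfsgLib.Singular39 Equiv.Perm

universe u

theorem cube_six : ∀ a : S6, a ^ 9 = 1 → a ^ 3 = 1 := by decide +kernel

theorem cube_three : ∀ a : S3, a ^ 9 = 1 → a ^ 3 = 1 := by decide +kernel

theorem cube_of_pow (p : P36) : ∀ k : ℕ, p ^ 3 ^ k = 1 → p * p * p = 1 := by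
  intro k
  induction k with
  | zero => intro h; rw [pow_zero, pow_one] at h; rw [h, one_mul, one_mul]
  | succ n ih =>
    intro h
    rcases n with _ | n
    · rw [show (3 : ℕ) ^ (0 + 1) = 3 from rfl, pow_succ, pow_two] at h
      exact h
    · refine ih ?_
      have h9 : (p ^ 3 ^ n) ^ 9 = 1 := by rw [← pow_mul, ← h]; congr 1; ring
      rw [pow_succ, pow_mul]
      exact Prod.ext (cube_three _ (congrArg Prod.fst h9)) (cube_six _ (congrArg Prod.snd h9))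

theorem eq_of_odd_pow {G : Type*} [Group G] {d b z : G} (hz : z * z = 1) (hdz : d * z = z * d) {k : ℕ}
    (hd : d ^ 3 ^ k = 1) (h : d * b * d⁻¹ = b ∨ d * b * d⁻¹ = z * b) : d * b * d⁻¹ = b := by
  rcases h with e | e
  · exact e
  have key : ∀ n : ℕ, d ^ n * b * (d ^ n)⁻¹ = z ^ n * b := fun n => by
    induction n with
    | zero => simp
    | succ m ih =>
      calc d ^ (m + 1) * b * (d ^ (m + 1))⁻¹ = d ^ m * (d * b * d⁻¹) * (d ^ m)⁻¹ := by rw [pow_succ]; group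
        _ = d ^ m * z * b * (d ^ m)⁻¹ := by rw [e]; group
        _ = z * (d ^ m * b * (d ^ m)⁻¹) := by
          rw [((show Commute d z from hdz).pow_left m).eq]; group
        _ = z ^ (m + 1) * b := by rw [ih, ← mul_assoc, ← pow_succ']
  have h1 := key (3 ^ k)
  obtain ⟨r, hr⟩ : Odd (3 ^ k) := Odd.pow (by decide)
  rw [hd, hr, pow_succ, pow_mul, pow_two, hz, one_pow, one_mul, one_mul, inv_one, mul_one] at h1
  rw [e, ← h1]

namespace Bridge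

variable {G : Type u} [Group G] [Finite G] {z : G} {V : Type u} [AddCommGroup V] (D : Bridge z V)
include D

theorem odd_pow_comm {d b : G} (hd : d * z = z * d) {k : ℕ} (hk : d ^ 3 ^ k = 1) (hb : b ∈ qOf z)
    (hfix : D.M.ac (D.pi d) (D.vq b) = D.vq b) : d * b = b * d := by
  rw [D.ac_eq d hd b hb] at hfix
  exact mul_inv_eq_iff_eq_mul.1
    (eq_of_odd_pow D.point.sq_one hd hk (D.vq_eq (conj_mem_qOf hd hb) hb hfix))

theorem z_not_mem {k : G} (hk : k * z * k⁻¹ ∉ qOf z) : z ∉ qOf (k * z * k⁻¹) := by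
  intro hz
  have h1 : k⁻¹ * z * (k⁻¹)⁻¹ ∈ qOf z := by
    have := mem_qOf_conj' hz
    rwa [inv_inv]
  have h2 := mem_qOf_conj (g := k) (D.point.symm h1)
  rw [show k * (k⁻¹ * z * (k⁻¹)⁻¹) * k⁻¹ = z by group] at h2
  exact hk h2

/-- a lift of the element of order three centralizing a given involution -/
theorem exists_cc_lift {v : G} (hvz : v * z = z * v) (hv2 : v * v = 1) (hcomm : D.pi v * c0 = c0 * D.pi v)
    (hfpf : ∀ t, D.M.cc t = t → t = 0)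
    (hcv : ∀ t, D.M.ac (D.pi v) t = t → ∃ t', t = D.M.ac (D.pi v) t' + t') :
    ∃ c : G, c * z = z * c ∧ D.pi c = c0 ∧ c * v = v * c := by
  classical
  haveI : Fact (Nat.Prime 3) := ⟨Nat.prime_three⟩
  obtain ⟨m0, hm0, hpm⟩ := D.pi_surj c0 D.M.c0_mem
  have hc3 : c0 ^ 3 = 1 := by rw [pow_succ, pow_two]; exact c0_pow
  set c1 := m0 ^ 1024 with hc1
  have hc1z : c1 * z = z * c1 := ((show Commute m0 z from hm0).pow_left _).eq
  have hpc1 : D.pi c1 = c0 := by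
    rw [hc1, D.pi_pow hm0, hpm, show (1024 : ℕ) = 3 * 341 + 1 from rfl, pow_succ, pow_mul, hc3, one_pow,
      one_mul]
  have hcube : c1 ^ 3 = 1 := by
    have hm3z : m0 ^ 3 * z = z * m0 ^ 3 := ((show Commute m0 z from hm0).pow_left 3).eq
    have hm3 : m0 ^ 3 ∈ qOf z := (D.pi_ker _ hm3z).1 (by rw [D.pi_pow hm0, hpm, hc3])
    have h1 : (⟨m0 ^ 3, hm3⟩ : qOf z) ^ Nat.card (qOf z) = 1 := pow_card_eq_one'
    have h2 : (m0 ^ 3) ^ 512 = 1 := by
      have := congrArg Subtype.val h1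
      rwa [D.card_Q, SubmonoidClass.coe_pow] at this
    rw [hc1, ← pow_mul, show 1024 * 3 = 3 * 512 * 2 from rfl, pow_mul, pow_mul, h2, one_pow]
  have hc1i : c1⁻¹ * z = z * c1⁻¹ := (Commute.inv_left (show Commute c1 z from hc1z)).eq
  have hvinv : v⁻¹ = v := inv_eq_of_mul_eq_one_right hv2
  -- conjugation on the coset of `v`
  let σ : qOf z → qOf z := fun k => ⟨v * (c1 * (v * k) * c1⁻¹), by
    have e : v * (c1 * (v * (k : G)) * c1⁻¹) = v * c1 * v * c1⁻¹ * (c1 * k * c1⁻¹) := by group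
    rw [e]
    refine mul_mem ((D.pi_ker _ ?_).1 ?_) (conj_mem_qOf hc1z k.2)
    · exact ((((show Commute v z from hvz).mul_left hc1z).mul_left hvz).mul_left hc1i).eq
    · rw [D.pi_mul _ _ (((show Commute v z from hvz).mul_left hc1z).mul_left hvz).eq hc1i,
        D.pi_mul _ _ ((show Commute v z from hvz).mul_left hc1z).eq hvz, D.pi_mul v c1 hvz hc1z,
        D.pi_inv hc1z, hpc1, hcomm, mul_assoc c0, ← D.pi_mul v v hvz hvz, hv2,
        (D.pi_ker 1 (by simp)).2 (one_mem _), mul_one, mul_inv_cancel]⟩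
  have hσv : ∀ k : qOf z, v * (σ k : G) = c1 * (v * k) * c1⁻¹ := fun k => by
    show v * (v * (c1 * (v * k) * c1⁻¹)) = _
    rw [← mul_assoc, hv2, one_mul]
  have hσ3 : σ^[3] = id := by
    funext k
    refine Subtype.ext (mul_left_cancel (a := v) ?_)
    show v * (σ (σ (σ k)) : G) = v * (k : G)
    rw [hσv, hσv, hσv]
    calc c1 * (c1 * (c1 * (v * (k : G)) * c1⁻¹) * c1⁻¹) * c1⁻¹ = c1 ^ 3 * (v * k) * (c1 ^ 3)⁻¹ := by
          rw [pow_succ, pow_two]; group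
      _ = v * k := by rw [hcube, one_mul, inv_one, mul_one]
  obtain ⟨k, hk⟩ : ∃ k, σ k = k := by
    by_contra hne
    push Not at hne
    have := Model.dvd_card_of_fixed_point_free 3 σ hσ3 hne
    rw [D.card_Q] at this
    norm_num at this
  have hfix : c1 * (v * k) * c1⁻¹ = v * k := by rw [← hσv, hk]
  -- its square is trivial modulo the centre
  have hkm := k.2
  have hconj : v * (k : G) * v⁻¹ ∈ qOf z := conj_mem_qOf hvz hkm
  have hj : v * (k : G) * (v * k) ∈ qOf z := by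
    rw [show v * (k : G) * (v * k) = v * k * v⁻¹ * (v * v) * k by group, hv2, mul_one]
    exact mul_mem hconj hkm
  have hvj : D.vq (v * (k : G) * (v * k)) = D.M.ac (D.pi v) (D.vq k) + D.vq k := by
    rw [show v * (k : G) * (v * k) = v * k * v⁻¹ * (v * v) * k by group, hv2, mul_one,
      D.vq_mul _ hconj _ hkm, D.ac_eq v hvz _ hkm]
  have hjfix : D.M.cc (D.vq (v * (k : G) * (v * k))) = D.vq (v * (k : G) * (v * k)) := by
    show D.M.ac c0 _ = _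
    rw [← hpc1, D.ac_eq c1 hc1z _ hj]
    congr 1
    calc c1 * (v * k * (v * k)) * c1⁻¹ = c1 * (v * k) * c1⁻¹ * (c1 * (v * k) * c1⁻¹) := by group
      _ = _ := by rw [hfix]
  have h0 := hfpf _ hjfix
  rw [hvj] at h0
  obtain ⟨t, ht⟩ := hcv _ (D.M.add_eq_zero_iff.1 h0)
  obtain ⟨q, hq, rfl⟩ := D.vq_surj t
  -- so it is conjugate to `v` under the core, up to the centre
  have hcq : v * q * v⁻¹ * q⁻¹ ∈ qOf z := mul_mem (conj_mem_qOf hvz hq) (inv_mem hq)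
  have hvk : D.vq (v * q * v⁻¹ * q⁻¹) = D.vq (k : G) := by
    rw [D.vq_mul _ (conj_mem_qOf hvz hq) _ (inv_mem hq), D.vq_inv hq, ht, D.ac_eq v hvz q hq]
  have hqvq : q * v * q⁻¹ = v * (v * q * v⁻¹ * q⁻¹) := by
    conv_rhs => rw [hvinv, ← mul_assoc v, ← mul_assoc v, ← mul_assoc v v, hv2, one_mul]
  have hfix2 : c1 * (q * v * q⁻¹) = q * v * q⁻¹ * c1 := by
    rw [hqvq]
    rcases D.vq_eq hcq hkm hvk with e | e <;> rw [e]
    · exact mul_inv_eq_iff_eq_mul.1 hfix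
    · rw [← mul_assoc v z, hvz, mul_assoc z v]
      exact (Commute.mul_right (show Commute c1 z from hc1z)
        (show Commute c1 (v * k) from mul_inv_eq_iff_eq_mul.1 hfix)).eq
  refine ⟨q⁻¹ * c1 * q, ?_, ?_, ?_⟩
  · have hqz : Commute q z := D.comm_z hq
    exact ((hqz.inv_left.mul_left hc1z).mul_left hqz).eq
  · have hqz : Commute q z := D.comm_z hq
    rw [D.pi_mul _ _ (hqz.inv_left.mul_left hc1z).eq hqz.eq, D.pi_mul _ _ hqz.inv_left.eq hc1z,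
      (D.pi_ker q⁻¹ hqz.inv_left.eq).2 (inv_mem hq), (D.pi_ker q hqz.eq).2 hq, one_mul, mul_one, hpc1]
  · calc q⁻¹ * c1 * q * v = q⁻¹ * (c1 * (q * v * q⁻¹)) * q := by group
      _ = q⁻¹ * (q * v * q⁻¹ * c1) * q := by rw [hfix2]
      _ = v * (q⁻¹ * c1 * q) := by group

/-- the last step: the element `z` would be orthogonal to a point outside the core -/
theorem false_of_witness (hfpf : ∀ t, D.M.cc t = t → t = 0) {v q0 s : G} (hvz : v * z = z * v)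
    (hzv : z ∉ qOf v) (hq0 : q0 ∈ qOf z) (hs : q0 * v * q0⁻¹ * v⁻¹ = s) (hsv : s ∈ qOf v)
    (hB : D.M.B (D.vq q0) (D.M.cc (D.M.ac (D.pi v) (D.vq q0) + D.vq q0)) = 1)
    (c : G) (hcz : c * z = z * c) (hpc : D.pi c = c0) (hcv : c * v = v * c) : False := by
  have h := D.point.toExtraAt
  have hvi : v⁻¹ * z = z * v⁻¹ := (Commute.inv_left (show Commute v z from hvz)).eq
  have hcv2 : c * v⁻¹ * c⁻¹ = v⁻¹ := mul_inv_eq_iff_eq_mul.2 ((Commute.inv_right (show Commute c v from hcv)).eq)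
  have hcv1 : c * v * c⁻¹ = v := mul_inv_eq_iff_eq_mul.2 hcv
  set q1 := c * q0 * c⁻¹ with hq1
  set q2 := c * q1 * c⁻¹ with hq2
  set s1 := c * s * c⁻¹ with hs1
  have hq1m : q1 ∈ qOf z := conj_mem_qOf hcz hq0
  have hq2m : q2 ∈ qOf z := conj_mem_qOf hcz hq1m
  have hsm : s ∈ qOf z := by
    rw [← hs, show q0 * v * q0⁻¹ * v⁻¹ = q0 * (v * q0⁻¹ * v⁻¹) by group]
    exact mul_mem hq0 (conj_mem_qOf hvz (inv_mem hq0))
  have hs1m : s1 ∈ qOf z := conj_mem_qOf hcz hsm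
  have hq1s : q1 * v * q1⁻¹ * v⁻¹ = s1 := by
    rw [hs1, ← hs, hq1]
    calc c * q0 * c⁻¹ * v * (c * q0 * c⁻¹)⁻¹ * v⁻¹
        = c * q0 * c⁻¹ * (c * v * c⁻¹) * (c * q0 * c⁻¹)⁻¹ * (c * v⁻¹ * c⁻¹) := by rw [hcv1, hcv2]
      _ = _ := by group
  have hq2s : q2 * v * q2⁻¹ * v⁻¹ = c * s1 * c⁻¹ := by
    rw [← hq1s, hq2]
    calc c * q1 * c⁻¹ * v * (c * q1 * c⁻¹)⁻¹ * v⁻¹
        = c * q1 * c⁻¹ * (c * v * c⁻¹) * (c * q1 * c⁻¹)⁻¹ * (c * v⁻¹ * c⁻¹) := by rw [hcv1, hcv2]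
      _ = _ := by group
  have vq1 : D.vq q1 = D.M.cc (D.vq q0) := by
    rw [hq1, ← D.ac_eq c hcz q0 hq0, hpc]; rfl
  have vq2 : D.vq q2 = D.M.cc (D.M.cc (D.vq q0)) := by
    rw [hq2, ← D.ac_eq c hcz q1 hq1m, hpc, vq1]; rfl
  have hvqs : D.vq s = D.M.ac (D.pi v) (D.vq q0) + D.vq q0 := by
    rw [← hs, show q0 * v * q0⁻¹ * v⁻¹ = q0 * (v * q0⁻¹ * v⁻¹) by group,
      D.vq_mul _ hq0 _ (conj_mem_qOf hvz (inv_mem hq0)), ← D.ac_eq v hvz _ (inv_mem hq0), D.vq_inv hq0, add_comm]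
  have hmove : q0 * s1 * q0⁻¹ = z * s1 := by
    refine (h.conj_cases hq0 hs1m).resolve_left fun e => ?_
    have e' := (D.B_eq q0 hq0 s1 hs1m).2 (mul_inv_eq_iff_eq_mul.1 e)
    rw [hs1, ← D.ac_eq c hcz s hsm, hpc, hvqs] at e'
    exact one_ne_zero (hB.symm.trans e')
  have hprod : q0 * q1 * v * (q0 * q1)⁻¹ * v⁻¹ = z * s1 * s := by
    calc q0 * q1 * v * (q0 * q1)⁻¹ * v⁻¹
        = q0 * (q1 * v * q1⁻¹ * v⁻¹) * q0⁻¹ * (q0 * v * q0⁻¹ * v⁻¹) := by group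
      _ = _ := by rw [hq1s, hmove, hs]
  have hz2 : q0 * q1 * v * (q0 * q1)⁻¹ * v⁻¹ = q2 * v * q2⁻¹ * v⁻¹ := by
    have e : D.vq (q0 * q1) = D.vq q2 := by
      rw [D.vq_mul _ hq0 _ hq1m, vq1, vq2]
      exact D.M.add_eq_zero_iff.1 (hfpf _ (D.M.proj_fixC _))
    rcases D.vq_eq (mul_mem hq0 hq1m) hq2m e with e | e <;> rw [e]
    have hcz' : Commute z (q2 * v * q2⁻¹) :=
      ((((show Commute q2 z from D.comm_z hq2m)).mul_left hvz).mul_left
        (show Commute q2 z from D.comm_z hq2m).inv_left).symm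
    calc z * q2 * v * (z * q2)⁻¹ * v⁻¹ = z * (q2 * v * q2⁻¹) * z⁻¹ * v⁻¹ := by group
      _ = _ := by rw [hcz'.eq, mul_inv_cancel_right]
  refine hzv ?_
  have hs1v : s1 ∈ qOf v := conj_mem_qOf hcv hsv
  have hs2v : c * s1 * c⁻¹ ∈ qOf v := conj_mem_qOf hcv hs1v
  rw [hz2, hq2s] at hprod
  have : z = c * s1 * c⁻¹ * s⁻¹ * s1⁻¹ := by rw [hprod]; group
  rw [this]
  exact mul_mem (mul_mem hs2v (inv_mem hsv)) (inv_mem hs1v)

theorem exists_three_elt {g : G} (hx : g * z * g⁻¹ ∈ qOf z) (hne : g * z * g⁻¹ ≠ z) :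
    ∃ d : G, d * z = z * d ∧ d * (g * z * g⁻¹) = g * z * g⁻¹ * d ∧ (∃ k : ℕ, d ^ 3 ^ k = 1) ∧ d ∉ qOf z := by
  haveI : Fact (Nat.Prime 3) := ⟨Nat.prime_three⟩
  obtain ⟨p, hp, hp3, hp1, hpx⟩ := (D.pr hx hne).exists_three
  obtain ⟨m, hmz, hmx, hpm⟩ := D.exists_cent_lift hx hne hp hpx
  set n := orderOf m with hn
  have hn0 : n ≠ 0 := (orderOf_pos m).ne'
  have hp3' : p ^ 3 = 1 := by rw [pow_succ, pow_two]; exact hp3
  set r := n / 3 ^ n.factorization 3 with hr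
  refine ⟨m ^ r, ((show Commute m z from hmz).pow_left r).eq,
    ((show Commute m (g * z * g⁻¹) from hmx).pow_left r).eq, ⟨n.factorization 3, ?_⟩, fun hmem => ?_⟩
  · rw [← pow_mul, hr, Nat.div_mul_cancel (Nat.ordProj_dvd n 3), hn, pow_orderOf_eq_one]
  · have e := (D.pi_ker _ ((show Commute m z from hmz).pow_left r).eq).2 hmem
    rw [D.pi_pow hmz, hpm, ← orderOf_dvd_iff_pow_eq_one, orderOf_eq_prime hp3' hp1] at e
    exact Nat.not_dvd_ordCompl Nat.prime_three hn0 e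

theorem false_of_conj {g : G} (hx : g * z * g⁻¹ ∈ qOf z) (hne : g * z * g⁻¹ ≠ z) : False := by
  classical
  haveI : Fact (Nat.Prime 2) := ⟨Nat.prime_two⟩
  have hx' : g⁻¹ * z * (g⁻¹)⁻¹ ∈ qOf z := by
    have := mem_qOf_conj' (D.z_mem_point hx)
    rwa [inv_inv]
  have hne' : g⁻¹ * z * (g⁻¹)⁻¹ ≠ z := fun e => hne (by
    calc g * z * g⁻¹ = g * (g⁻¹ * z * (g⁻¹)⁻¹) * g⁻¹ := by rw [e]
      _ = z := by group)
  obtain ⟨d, hdz, hdx, ⟨k, hk⟩, hdQ⟩ := D.exists_three_elt hx hne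
  -- the transported element
  set d' := g⁻¹ * d * g with hd'def
  have hdz' : d' * z = z * d' := by
    have := comm_conj' (g := g) hdx
    rwa [show g⁻¹ * (g * z * g⁻¹) * g = z by group] at this
  have hdx' : d' * (g⁻¹ * z * (g⁻¹)⁻¹) = g⁻¹ * z * (g⁻¹)⁻¹ * d' := by
    rw [inv_inv]; exact comm_conj' hdz
  have hk' : d' ^ 3 ^ k = 1 := by
    have : d' = (MulAut.conj g⁻¹).toMonoidHom d := by simp [hd'def]
    rw [this, ← map_pow, hk, map_one]
  have hdQ' : d' ∉ qOf z := by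
    intro hm
    obtain ⟨j, hj⟩ := (isPGroup_qOf z) ⟨d', hm⟩
    have hj' : d' ^ 2 ^ j = 1 := congrArg Subtype.val hj
    have h1 : orderOf d' ∣ 1 := by
      rw [← (Nat.Coprime.pow k j (by norm_num : Nat.Coprime 3 2)).gcd_eq_one]
      exact Nat.dvd_gcd (orderOf_dvd_of_pow_eq_one hk') (orderOf_dvd_of_pow_eq_one hj')
    have hd1 : d' = 1 := orderOf_eq_one_iff.1 (Nat.dvd_one.1 h1)
    refine hdQ ?_
    rw [show d = g * d' * g⁻¹ by rw [hd'def]; group, hd1]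
    simp [one_mem]
  -- the two frames
  have P := D.pr hx hne
  have P' := D.pr hx' hne'
  have cubeOf : ∀ e : G, e * z = z * e → e ^ 3 ^ k = 1 → D.pi e * D.pi e * D.pi e = 1 := fun e he hek =>
    cube_of_pow _ k (by rw [← D.pi_pow he, hek]; exact (D.pi_ker 1 (by simp)).2 (one_mem _))
  have hfix1 : D.M.ac (D.pi d) (D.vq (g * z * g⁻¹)) = D.vq (g * z * g⁻¹) := by
    rw [D.ac_eq d hdz _ hx, hdx, mul_inv_cancel_right]
  have hfix2 : D.M.ac (D.pi d') (D.vq (g⁻¹ * z * (g⁻¹)⁻¹)) = D.vq (g⁻¹ * z * (g⁻¹)⁻¹) := by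
    rw [D.ac_eq d' hdz' _ hx', hdx', mul_inv_cancel_right]
  obtain ⟨i, F⟩ := P.exists_frame (D.pi_mem d hdz) (cubeOf d hdz hk) (fun e => hdQ ((D.pi_ker d hdz).1 e)) hfix1
  obtain ⟨i', F'⟩ := P'.exists_frame (D.pi_mem d' hdz') (cubeOf d' hdz' hk')
    (fun e => hdQ' ((D.pi_ker d' hdz').1 e)) hfix2
  set X := D.vq (g * z * g⁻¹) with hX
  set X' := D.vq (g⁻¹ * z * (g⁻¹)⁻¹) with hX'
  obtain ⟨y, hyE, hiy, hyx, hy0, hyne, p, hp, hpy⟩ := F'.exists_y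
  -- a conjugate of `z` over `c y`
  obtain ⟨m, hmz, hpm⟩ := D.pi_surj _ (D.M.R.mul_mem D.M.c0_mem hp)
  set v0 := m * g⁻¹ * z * (m * g⁻¹)⁻¹ with hv0
  have hv0e : v0 = m * (g⁻¹ * z * (g⁻¹)⁻¹) * m⁻¹ := by rw [hv0]; group
  have hv0Q : v0 ∈ qOf z := by rw [hv0e]; exact conj_mem_qOf hmz hx'
  have hvqv0 : D.vq v0 = D.M.cc y := by
    rw [hv0e, ← D.ac_eq m hmz _ hx', hpm, D.M.ac_mul _ D.M.c0_mem _ hp, ← hX', hpy]; rfl
  have hv0ne : v0 ≠ z := fun e => by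
    rw [e, D.vq_z] at hvqv0
    exact hy0 (D.M.cc_inj (hvqv0.symm.trans (map_zero _).symm))
  have mi' := F'.mirror
  have hcyE : D.M.cc y ∉ D.EE (g⁻¹ * z * (g⁻¹)⁻¹) := fun hmem => by
    have := P'.E_comm i' F'.i_mem _ hmem
    rw [mi'.move_cc hiy] at this
    exact this.elim hy0 hyne
  have hv0x : v0 * (g⁻¹ * z * (g⁻¹)⁻¹) = g⁻¹ * z * (g⁻¹)⁻¹ * v0 :=
    (D.B_eq _ hv0Q _ hx').1 (by rw [hvqv0, ← hX', D.M.B_comm]; exact hyx)
  set v := g * v0 * g⁻¹ with hvdef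
  have hvz : v * z = z * v := by
    have := comm_conj (g := g) hv0x
    rwa [show g * (g⁻¹ * z * (g⁻¹)⁻¹) * g⁻¹ = z by group] at this
  have hvx : v ∈ qOf (g * z * g⁻¹) := mem_qOf_conj hv0Q
  have hvQ : v ∉ qOf z := fun hm => by
    refine hcyE ⟨v0, hv0Q, ?_, hvqv0⟩
    have := mem_qOf_conj (g := g⁻¹) hm
    rwa [show g⁻¹ * v * (g⁻¹)⁻¹ = v0 by rw [hvdef]; group] at this
  have hv2 : v * v = 1 := by
    rw [hvdef, hv0]
    calc g * (m * g⁻¹ * z * (m * g⁻¹)⁻¹) * g⁻¹ * (g * (m * g⁻¹ * z * (m * g⁻¹)⁻¹) * g⁻¹)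
        = g * (m * g⁻¹ * (z * z) * (m * g⁻¹)⁻¹) * g⁻¹ := by group
      _ = 1 := by rw [D.point.sq_one]; group
  set a := D.pi v with hadef
  have haA : a ∈ D.AA (g * z * g⁻¹) := ⟨v, hvx, hvz, rfl⟩
  have ha1 : a ≠ 1 := fun e => hvQ ((D.pi_ker v hvz).1 e)
  -- a lift of `c x'` and its transport
  obtain ⟨r', hr'Q, hr'W, hvr'⟩ := F'.cx_mem
  have hr'd : d' * r' = r' * d' := D.odd_pow_comm hdz' hk' hr'Q (by rw [hvr']; exact F'.d_fix_cx)
  set r := g * r' * g⁻¹ with hrdef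
  have hrW : r ∈ qOf (g * z * g⁻¹) := mem_qOf_conj hr'Q
  have hrQ : r ∈ qOf z := by
    have := mem_qOf_conj (g := g) hr'W
    rwa [show g * (g⁻¹ * z * (g⁻¹)⁻¹) * g⁻¹ = z by group] at this
  have hrd : d * r = r * d := by
    have := comm_conj (g := g) hr'd
    rwa [show g * d' * g⁻¹ = d by rw [hd'def]; group] at this
  have hx1 : D.vq (g⁻¹ * r * g) = D.M.cc X' := by
    rw [show g⁻¹ * r * g = r' by rw [hrdef]; group, hvr']
  have hrcases : D.vq r = D.M.cc X ∨ D.vq r = X + D.M.cc X := by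
    have hmem := F.fix_plane (e := D.vq r) ⟨r, hrQ, hrW, rfl⟩
      (by rw [D.ac_eq d hdz r hrQ, hrd, mul_inv_cancel_right])
    rcases D.M.mem_plane hmem with e | e | e | e
    · exfalso
      rcases (D.vq_zero r hrQ).1 e with e1 | e1 <;> rw [e1] at hx1
      · rw [mul_one, inv_mul_cancel, D.vq_one] at hx1
        exact P'.cc_x_ne_zero hx1.symm
      · rw [show g⁻¹ * z * g = g⁻¹ * z * (g⁻¹)⁻¹ by rw [inv_inv]] at hx1
        exact P'.cc_x_ne hx1.symm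
    · exfalso
      rcases D.vq_eq hrQ hx e with e1 | e1 <;> rw [e1] at hx1
      · rw [show g⁻¹ * (g * z * g⁻¹) * g = z by group, D.vq_z] at hx1
        exact P'.cc_x_ne_zero hx1.symm
      · rw [show g⁻¹ * (z * (g * z * g⁻¹)) * g = g⁻¹ * z * (g⁻¹)⁻¹ * z by group,
          D.vq_mul _ hx' _ D.point.z_mem, D.vq_z, add_zero] at hx1
        exact P'.cc_x_ne hx1.symm
    · exact Or.inl e
    · exact Or.inr e
  -- `v` centralizes `r`, so it centralizes the element of order three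
  have hvr : v * r = r * v := comm_conj ((D.B_eq _ hv0Q _ hr'Q).1 (by
    rw [hvqv0, hvr', D.M.cc_B]
    exact mi'.B_W hiy F'.x_mem_fix))
  have hacx : D.M.ac a (D.M.cc X) = D.M.cc X := by
    have e : D.M.ac a (D.vq r) = D.vq r := by
      rw [hadef, D.ac_eq v hvz r hrQ, hvr, mul_inv_cancel_right]
    rcases hrcases with e1 | e1 <;> rw [e1] at e
    · exact e
    · rw [map_add, P.A_fix a haA] at e
      exact add_left_cancel e
  have haf := P.fst_one_of_fix F.i_mem F.i_odd haA hacx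
  have ha0 : a ∈ A0 (D.AA (g * z * g⁻¹)) := mem_A0.2 ⟨haA, haf⟩
  -- the vector `w`
  obtain ⟨w, hw, hwX⟩ := P.exists_dual F.i_mem F.i_odd
  obtain ⟨q0, hq0, rfl⟩ := D.vq_surj w
  have hq0x : q0 * (g * z * g⁻¹) = g * z * g⁻¹ * q0 :=
    (D.B_eq _ hq0 _ hx).1 (F.mirror.B_W hw F.x_mem_fix)
  set w0 := g⁻¹ * q0 * g with hw0def
  have hw0z : w0 * z = z * w0 := by
    have := comm_conj' (g := g) hq0x
    rwa [show g⁻¹ * (g * z * g⁻¹) * g = z by group] at this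
  have hw0W : w0 ∈ qOf (g⁻¹ * z * (g⁻¹)⁻¹) := by
    have := mem_qOf_conj (g := g⁻¹) hq0
    rwa [inv_inv] at this ⊢
  set b := D.pi w0 with hbdef
  have hbA : b ∈ D.AA (g⁻¹ * z * (g⁻¹)⁻¹) := ⟨w0, hw0W, hw0z, rfl⟩
  have hBr : D.M.B (D.vq q0) (D.vq r) = 1 := by
    have h1 : D.M.B (D.vq q0) (D.M.cc X) = 1 := by
      rw [F.mirror.br_comm hw F.x_mem_fix]; exact hwX
    rcases hrcases with e | e <;> rw [e]
    · exact h1
    · rw [D.M.B_add', F.mirror.B_W hw F.x_mem_fix, h1, zero_add]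
  have hbs : sign b.1 = -1 := by
    refine (P'.fst_cases hbA).resolve_left fun h1 => ?_
    have e : D.M.ac b (D.M.cc X') = D.M.cc X' := by rw [P'.comm_cc hbA h1, P'.A_fix b hbA]
    rw [← hvr', hbdef, D.ac_eq w0 hw0z r' hr'Q] at e
    have e2 := D.eq_of_cases hx' hne' (D.vq_eq (conj_mem_qOf hw0z hr'Q) hr'Q e)
      ((D.point.conj g⁻¹).conj_cases hw0W hr'W)
    have e3 := comm_conj (g := g) (mul_inv_eq_iff_eq_mul.1 e2)
    rw [show g * w0 * g⁻¹ = q0 by rw [hw0def]; group] at e3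
    have e4 := (D.B_eq _ hq0 _ hrQ).2 e3
    rw [hBr] at e4
    exact one_ne_zero e4
  have hby : D.M.ac b y = y := by
    obtain ⟨e, he, hdec⟩ := F'.perp_decomp (u := y) ⟨hiy, hyx⟩
    obtain ⟨e0, he0, he0', rfl⟩ := he
    set e1 := g * e0 * g⁻¹ with he1def
    have he1W : e1 ∈ qOf (g * z * g⁻¹) := mem_qOf_conj he0
    have he1Q : e1 ∈ qOf z := by
      have := mem_qOf_conj (g := g) he0'
      rwa [show g * (g⁻¹ * z * (g⁻¹)⁻¹) * g⁻¹ = z by group] at this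
    have hh : d * e1 * d⁻¹ * e1 ∈ qOf z := mul_mem (conj_mem_qOf hdz he1Q) he1Q
    have hq0h : q0 * (d * e1 * d⁻¹ * e1) = d * e1 * d⁻¹ * e1 * q0 := by
      refine (D.B_eq _ hq0 _ hh).1 ?_
      rw [D.vq_mul _ (conj_mem_qOf hdz he1Q) _ he1Q, ← D.ac_eq d hdz e1 he1Q]
      exact F.mirror.B_W hw (F.de_fix ⟨e1, he1Q, he1W, rfl⟩)
    have hh' : d' * e0 * d'⁻¹ * e0 ∈ qOf z := mul_mem (conj_mem_qOf hdz' he0) he0
    have hw0h : w0 * (d' * e0 * d'⁻¹ * e0) = d' * e0 * d'⁻¹ * e0 * w0 := by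
      have := comm_conj' (g := g) hq0h
      rwa [show g⁻¹ * (d * e1 * d⁻¹ * e1) * g = d' * e0 * d'⁻¹ * e0 by rw [he1def, hd'def]; group] at this
    have hbh : D.M.ac b (D.M.ac (D.pi d') (D.vq e0) + D.vq e0) = D.M.ac (D.pi d') (D.vq e0) + D.vq e0 := by
      rw [D.ac_eq d' hdz' e0 he0, ← D.vq_mul _ (conj_mem_qOf hdz' he0) _ he0, hbdef,
        D.ac_eq w0 hw0z _ hh', hw0h, mul_inv_cancel_right]
    rcases hdec with e | e <;> rw [e]
    · exact hbh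
    · rw [map_add, hbh, P'.A_fix b hbA]
  have hw0i : w0⁻¹ * z = z * w0⁻¹ := (Commute.inv_left (show Commute w0 z from hw0z)).eq
  set s0 := w0 * v0 * w0⁻¹ * v0⁻¹ with hs0def
  have hs0Q : s0 ∈ qOf z := mul_mem (conj_mem_qOf hw0z hv0Q) (inv_mem hv0Q)
  have hvs0 : D.vq s0 = y := by
    rw [hs0def, D.vq_mul _ (conj_mem_qOf hw0z hv0Q) _ (inv_mem hv0Q), D.vq_inv hv0Q,
      ← D.ac_eq w0 hw0z _ hv0Q, ← hbdef, hvqv0]
    exact (P'.mirror hbA hbs).move_cc hby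
  -- `y` lies in the subgroup attached to `c y`
  have hs0v : s0 ∈ qOf v0 := by
    have Q0 := D.pr (g := m * g⁻¹) hv0Q hv0ne
    obtain ⟨α, hα, hαs⟩ := Q0.exists_odd
    refine D.mem_of_vq hv0Q hs0Q ?_
    have hc := Q0.cx_mem hα hαs
    have := (D.EE v0).add_mem Q0.x_mem hc
    rw [hvqv0, ← mi'.cc2_eq, D.M.cc_cube] at this
    rw [hvs0]
    exact this
  have hvk : v = g * (m * g⁻¹) * z * (g * (m * g⁻¹))⁻¹ := by rw [hvdef, hv0]; group
  have hsv : g * s0 * g⁻¹ ∈ qOf v := by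
    rw [hv0] at hs0v
    have := mem_qOf_conj (g := g) hs0v
    rwa [hvdef, hv0]
  have hs : q0 * v * q0⁻¹ * v⁻¹ = g * s0 * g⁻¹ := by
    rw [hs0def, hw0def, hvdef]; group
  have hzv : z ∉ qOf v := by
    rw [hvk]
    exact D.z_not_mem (by rw [← hvk]; exact hvQ)
  have hcc0 : D.pi v * c0 = c0 * D.pi v := by
    rw [← hadef]
    exact Prod.ext (by simp [haf]) (by simp [c0])
  obtain ⟨c, hcz, hpc, hcv⟩ := D.exists_cc_lift hvz hv2 hcc0 F.mirror.fpf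
    (fun t ht => P.fix_is_commutator F.i_mem F.i_odd hw hwX ha0 ha1 ht)
  exact D.false_of_witness F.mirror.fpf hvz hzv hq0 hs hsv (F.mu_one ha0 ha1 hw hwX) c hcz hpc hcv

end Bridge

end CfsgLib.ExtraNineS3A6
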