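import Cfsg.Agent.Lib.ExtraNineS3A6.Counts

/-!
The element of order three of the first factor has no fixed points on the space.
-/

set_option autoImplicit false

namespace CfsgLib.ExtraNineS3A6

open Equiv Equiv.Perm

namespace Model

variable {V : Type*} [AddCommGroup V] (M : Model V)

theorem ff_five (v : V) : M.ff (M.ff (M.ff (M.ff (M.ff v)))) = v := by
  have hm : ∀ n : ℕ, f0 ^ n ∈ M.R := fun n => M.R.pow_mem M.f0_mem n
  have h : ∀ n : ℕ, (fun w => M.ff w)^[n] v = M.ac (f0 ^ n) v := fun n => by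
    induction n with
    | zero => simp [M.ac_one]
    | succ m ih =>
      rw [Function.iterate_succ_apply', ih, pow_succ', M.ac_mul _ M.f0_mem _ (hm m)]
      rfl
  have := h 5
  rw [f0_pow, M.ac_one] at this
  exact this

theorem six_comm_cc {π : S6} (hπ : sign π = 1) (v : V) :
    M.ac ((1, π) : P36) (M.cc v) = M.cc (M.ac (1, π) v) :=
  M.cc_comm_of_even (M.six_mem hπ) (by simp) v

theorem ff_cc (v : V) : M.ff (M.cc v) = M.cc (M.ff v) := M.cc_comm_of_even M.f0_mem f0_sign.1 v

/-- The fixed points of the element of order three. -/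
def fixC : AddSubgroup V where
  carrier := {v | M.cc v = v}
  add_mem' := fun {a b} ha hb => by
    show M.cc (a + b) = a + b
    rw [map_add, ha, hb]
  zero_mem' := map_zero _
  neg_mem' := fun {a} ha => by show M.cc (-a) = -a; rw [map_neg, ha]

/-- The moved part of the element of order three. -/
def movC : AddSubgroup V where
  carrier := {v | v + M.cc v + M.cc (M.cc v) = 0}
  add_mem' := fun {a b} ha hb => by
    show a + b + M.cc (a + b) + M.cc (M.cc (a + b)) = 0
    rw [map_add, map_add]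
    calc a + b + (M.cc a + M.cc b) + (M.cc (M.cc a) + M.cc (M.cc b))
        = (a + M.cc a + M.cc (M.cc a)) + (b + M.cc b + M.cc (M.cc b)) := by abel
      _ = 0 := by rw [ha, hb, add_zero]
  zero_mem' := by simp
  neg_mem' := fun {a} ha => by rw [M.neg_eq a]; exact ha

theorem mem_fixC {v : V} : v ∈ M.fixC ↔ M.cc v = v := Iff.rfl
theorem mem_movC {v : V} : v ∈ M.movC ↔ v + M.cc v + M.cc (M.cc v) = 0 := Iff.rfl

theorem orth_fix_mov {u v : V} (hu : u ∈ M.fixC) (hv : v ∈ M.movC) : M.B u v = 0 := by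
  have h1 : M.B u (M.cc v) = M.B u v := by
    conv_lhs => rw [← (M.mem_fixC).1 hu]
    exact M.cc_B u v
  have h2 : M.B u (M.cc (M.cc v)) = M.B u v := by
    conv_lhs => rw [← (M.mem_fixC).1 hu]
    rw [M.cc_B, h1]
  have h3 := congrArg (M.B u) ((M.mem_movC).1 hv)
  rw [M.B_add', M.B_add', h1, h2, M.B_zero'] at h3
  have h2' : (2 : ZMod 2) = 0 := by decide
  linear_combination h3 - M.B u v * h2'

theorem proj_fixC (v : V) : v + M.cc v + M.cc (M.cc v) ∈ M.fixC := by
  rw [mem_fixC, map_add, map_add, M.cc_cube]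
  abel

theorem proj_movC (v : V) : M.cc v + M.cc (M.cc v) ∈ M.movC := by
  rw [mem_movC]
  simp only [map_add, M.cc_cube]
  calc M.cc v + M.cc (M.cc v) + (M.cc (M.cc v) + v) + (v + M.cc v)
      = (M.cc v + M.cc v) + (M.cc (M.cc v) + M.cc (M.cc v)) + (v + v) := by abel
    _ = 0 := by simp only [M.exp2, add_zero]

theorem proj_sum (v : V) : v = (v + M.cc v + M.cc (M.cc v)) + (M.cc v + M.cc (M.cc v)) := by
  calc v = v + ((M.cc v + M.cc (M.cc v)) + (M.cc v + M.cc (M.cc v))) := by rw [M.exp2, add_zero]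
    _ = _ := by abel

theorem eq_zero_of_fix_mov {v : V} (h1 : v ∈ M.fixC) (h2 : v ∈ M.movC) : v = 0 := by
  have := (M.mem_movC).1 h2
  rw [(M.mem_fixC).1 h1, (M.mem_fixC).1 h1, M.exp2, zero_add] at this
  exact this

theorem card_fix_mov : Nat.card M.fixC * Nat.card M.movC = 256 := by
  rw [← Nat.card_prod, ← M.card]
  refine Nat.card_congr
    { toFun := fun p => (p.1 : V) + p.2
      invFun := fun v => (⟨_, M.proj_fixC v⟩, ⟨_, M.proj_movC v⟩)
      left_inv := ?_
      right_inv := fun v => (M.proj_sum v).symm }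
  rintro ⟨⟨a, ha⟩, ⟨b, hb⟩⟩
  have h1 : a + b + M.cc (a + b) + M.cc (M.cc (a + b)) = a := by
    simp only [map_add, (M.mem_fixC).1 ha]
    calc a + b + (a + M.cc b) + (a + M.cc (M.cc b))
        = (a + a) + a + (b + M.cc b + M.cc (M.cc b)) := by abel
      _ = a := by rw [M.exp2, zero_add, (M.mem_movC).1 hb, add_zero]
  refine Prod.ext (Subtype.ext h1) (Subtype.ext ?_)
  show M.cc (a + b) + M.cc (M.cc (a + b)) = b
  simp only [map_add, (M.mem_fixC).1 ha]
  calc a + M.cc b + (a + M.cc (M.cc b)) = (a + a) + (b + b) + (M.cc b + M.cc (M.cc b)) := by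
        rw [M.exp2 b]; abel
    _ = b + (b + M.cc b + M.cc (M.cc b)) := by rw [M.exp2 a]; abel
    _ = b := by rw [(M.mem_movC).1 hb, add_zero]

/-- The fixed points of the element of order five in a subgroup. -/
def fixF (U : AddSubgroup V) : AddSubgroup V where
  carrier := {v | v ∈ U ∧ M.ff v = v}
  add_mem' := fun {a b} ha hb => ⟨U.add_mem ha.1 hb.1, by rw [map_add, ha.2, hb.2]⟩
  zero_mem' := ⟨U.zero_mem, map_zero _⟩
  neg_mem' := fun {a} ha => ⟨U.neg_mem ha.1, by rw [map_neg, ha.2]⟩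

/-- The sum over the group of order five. -/
def pf (v : V) : V := v + M.ff v + M.ff (M.ff v) + M.ff (M.ff (M.ff v)) + M.ff (M.ff (M.ff (M.ff v)))

/-- The moved part of the element of order five in a subgroup. -/
def movF (U : AddSubgroup V) : AddSubgroup V where
  carrier := {v | v ∈ U ∧ M.pf v = 0}
  add_mem' := fun {a b} ha hb => ⟨U.add_mem ha.1 hb.1, by
    calc M.pf (a + b) = M.pf a + M.pf b := by simp only [pf, map_add]; abel
      _ = 0 := by rw [ha.2, hb.2, add_zero]⟩
  zero_mem' := ⟨U.zero_mem, by simp [pf]⟩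
  neg_mem' := fun {a} ha => by rw [M.neg_eq a]; exact ha

theorem pf_ff (v : V) : M.ff (M.pf v) = M.pf v := by
  simp only [pf, map_add, M.ff_five]
  abel

theorem pf_fixed {v : V} (h : M.ff v = v) : M.pf v = v := by
  simp only [pf, h, M.exp2, zero_add]

theorem eq_zero_of_fixF_movF {U : AddSubgroup V} {v : V} (h : v ∈ M.movF U) (hv : M.ff v = v) : v = 0 := by
  rw [← M.pf_fixed hv]; exact h.2

theorem card_fixF_movF (U : AddSubgroup V) (hU : ∀ u ∈ U, M.ff u ∈ U) :
    Nat.card (M.fixF U) * Nat.card (M.movF U) = Nat.card U := by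
  rw [← Nat.card_prod]
  have hp : ∀ u ∈ U, M.pf u ∈ U := fun u hu =>
    U.add_mem (U.add_mem (U.add_mem (U.add_mem hu (hU _ hu)) (hU _ (hU _ hu))) (hU _ (hU _ (hU _ hu))))
      (hU _ (hU _ (hU _ (hU _ hu))))
  have hadd : ∀ a b, M.pf (a + b) = M.pf a + M.pf b := fun a b => by simp only [pf, map_add]; abel
  refine Nat.card_congr
    { toFun := fun p => (⟨(p.1 : V) + p.2, U.add_mem p.1.2.1 p.2.2.1⟩ : U)
      invFun := fun u => (⟨M.pf u, hp _ u.2, M.pf_ff u⟩, ⟨(u : V) + M.pf u, U.add_mem u.2 (hp _ u.2), by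
        rw [hadd, M.pf_fixed (M.pf_ff u), M.exp2]⟩)
      left_inv := ?_
      right_inv := fun u => Subtype.ext (by
        show M.pf u + ((u : V) + M.pf u) = u
        rw [add_comm (u : V), ← add_assoc, M.exp2, zero_add]) }
  rintro ⟨⟨a, ha, ha'⟩, ⟨b, hb, hb'⟩⟩
  have h1 : M.pf (a + b) = a := by rw [hadd, M.pf_fixed ha', hb', add_zero]
  refine Prod.ext (Subtype.ext h1) (Subtype.ext ?_)
  show a + b + M.pf (a + b) = b
  rw [h1, add_comm a b, add_assoc, M.exp2, add_zero]

theorem orth_fixF_movF {U U' : AddSubgroup V} {u v : V} (hu : u ∈ M.fixF U) (hv : v ∈ M.movF U') :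
    M.B u v = 0 := by
  have hstep : ∀ w, M.B u (M.ff w) = M.B u w := fun w => by
    conv_lhs => rw [← hu.2]
    exact M.ac_B M.f0_mem u w
  have h3 := congrArg (M.B u) hv.2
  simp only [pf, M.B_add', hstep, M.B_zero'] at h3
  have h2' : (2 : ZMod 2) = 0 := by decide
  linear_combination h3 - 2 * M.B u v * h2'

theorem card_nonzero (M : Model V) (U : AddSubgroup V) :
    Nat.card U = Nat.card {v : V // v ∈ U ∧ v ≠ 0} + 1 := by
  classical
  haveI := M.finite
  rw [← Finite.card_option]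
  refine (Nat.card_eq_of_bijective
    (fun o : Option {v : V // v ∈ U ∧ v ≠ 0} => o.elim (0 : U) fun v => ⟨v, v.2.1⟩) ⟨?_, ?_⟩).symm
  · rintro (_ | ⟨v, hv⟩) (_ | ⟨w, hw⟩) e
    · rfl
    · exact absurd (congrArg Subtype.val e).symm hw.2
    · exact absurd (congrArg Subtype.val e) hv.2
    · exact congrArg _ (Subtype.ext (congrArg Subtype.val e :))
  · intro u
    by_cases hu : (u : V) = 0
    · exact ⟨none, Subtype.ext hu.symm⟩
    · exact ⟨some ⟨u, u.2, hu⟩, rfl⟩

theorem three_dvd {P : V → Prop} (hinv : ∀ v, P v → P (M.cc v)) (hfree : ∀ v, P v → M.cc v ≠ v) :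
    3 ∣ Nat.card {v : V // P v} := by
  haveI := M.finite
  haveI : Fact (Nat.Prime 3) := ⟨Nat.prime_three⟩
  refine dvd_card_of_fixed_point_free 3 (fun t => ⟨M.cc t, hinv _ t.2⟩) ?_
    fun t e => hfree _ t.2 (Subtype.mk.inj e)
  funext t
  exact Subtype.ext (M.cc_cube t)

theorem five_dvd {P : V → Prop} (hinv : ∀ v, P v → P (M.ff v)) (hfree : ∀ v, P v → M.ff v ≠ v) :
    5 ∣ Nat.card {v : V // P v} := by
  haveI := M.finite
  haveI : Fact (Nat.Prime 5) := ⟨by norm_num⟩
  refine dvd_card_of_fixed_point_free 5 (fun t => ⟨M.ff t, hinv _ t.2⟩) ?_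
    fun t e => hfree _ t.2 (Subtype.mk.inj e)
  funext t
  exact Subtype.ext (M.ff_five t)

/-- a nondegenerate subgroup of order sixteen has singular and nonsingular vectors -/
theorem mixed (U : AddSubgroup V) (h16 : Nat.card U = 16) (hB : ∃ u ∈ U, ∃ v ∈ U, M.B u v ≠ 0) :
    (∃ u ∈ U, u ≠ 0 ∧ M.q u = 0) ∧ (∃ u ∈ U, u ≠ 0 ∧ M.q u ≠ 0) := by
  haveI := M.finite
  have h01 : ∀ a : ZMod 2, a ≠ 0 → a = 1 := by decide
  constructor
  · by_contra hne
    push Not at hne
    obtain ⟨u, hu, v, hv, huv⟩ := hB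
    have hu0 : u ≠ 0 := fun e => huv (by rw [e, M.B_zero])
    have hk := M.half_le U (M.B u) (M.B_add' u)
    rw [h16] at hk
    obtain ⟨⟨w, hw, hwB⟩, hw'⟩ : ∃ w : {w : V // w ∈ U ∧ M.B u w = 0}, (w : V) ≠ 0 ∧ (w : V) ≠ u := by
      by_contra hall
      push Not at hall
      have : Nat.card {w : V // w ∈ U ∧ M.B u w = 0} ≤ 2 := by
        classical
        refine le_trans (Nat.card_le_card_of_injective
          (fun w : {w : V // w ∈ U ∧ M.B u w = 0} => decide ((w : V) = 0)) ?_) (le_of_eq (by simp))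
        intro a b e
        simp only [decide_eq_decide] at e
        by_cases ha : (a : V) = 0
        · exact Subtype.ext (ha.trans (e.1 ha).symm)
        · exact Subtype.ext ((hall a ha).trans (hall b fun hb => ha (e.2 hb)).symm)
      omega
    have hwu : u + w ≠ 0 := fun e => hw'.2 ((M.add_eq_zero_iff.1 e).symm)
    apply hne (u + w) (U.add_mem hu hw) hwu
    rw [M.q_add, hwB, h01 _ (hne u hu hu0), h01 _ (hne w hw hw'.1)]
    decide
  · by_contra hne
    push Not at hne
    obtain ⟨u, hu, v, hv, huv⟩ := hB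
    have hz : ∀ w ∈ U, M.q w = 0 := fun w hw => by
      by_cases h0 : w = 0
      · rw [h0, M.q_zero]
      · exact hne w hw h0
    exact huv (by rw [M.B_eq, hz _ (U.add_mem hu hv), hz u hu, hz v hv, add_zero, add_zero])

/-- the second factor acts trivially on a subgroup centralized by the element of order five -/
theorem six_trivial (U : AddSubgroup V)
    (hinv : ∀ π : S6, sign π = 1 → ∀ u ∈ U, M.ac (1, π) u ∈ U) (hf : ∀ u ∈ U, M.ff u = u)
    {π : S6} (hπ : sign π = 1) {u : V} (hu : u ∈ U) : M.ac (1, π) u = u := by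
  have hmul : ∀ a b : S6, sign a = 1 → sign b = 1 → ∀ w, M.ac ((1, a * b) : P36) w =
      M.ac (1, a) (M.ac (1, b) w) := fun a b ha hb w => by
    rw [← M.ac_mul _ (M.six_mem ha) _ (M.six_mem hb), Prod.mk_mul_mk, one_mul]
  have hone : ∀ w, M.ac ((1, (1 : S6)) : P36) w = w := M.ac_one
  let N : Subgroup (alternatingGroup (Fin 6)) :=
    { carrier := {g | ∀ w ∈ U, M.ac (1, (g : S6)) w = w}
      mul_mem' := fun {a b} ha hb w hw => by
        rw [show ((a * b : alternatingGroup (Fin 6)) : S6) = (a : S6) * b from rfl,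
          hmul _ _ a.2 b.2, hb w hw, ha w hw]
      one_mem' := fun w _ => hone w
      inv_mem' := fun {a} ha w hw => by
        have hs : sign ((a : S6)⁻¹) = 1 := (a⁻¹).2
        calc M.ac (1, ((a⁻¹ : alternatingGroup (Fin 6)) : S6)) w
            = M.ac (1, (a : S6)⁻¹) (M.ac (1, (a : S6)) w) := by rw [ha w hw]; rfl
          _ = w := by rw [← hmul _ _ hs a.2, inv_mul_cancel, hone] }
  have hN : N.Normal := ⟨fun a ha g w hw => by
    have hs : sign ((g : S6)⁻¹) = 1 := (g⁻¹).2
    have ha' : sign ((a : S6) * (g : S6)⁻¹) = 1 := (a * g⁻¹).2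
    rw [show ((g * a * g⁻¹ : alternatingGroup (Fin 6)) : S6) = (g : S6) * ((a : S6) * (g : S6)⁻¹) by
      simp [mul_assoc], hmul _ _ g.2 ha', hmul _ _ a.2 hs, ha _ (hinv _ hs w hw),
      ← hmul _ _ g.2 hs, mul_inv_cancel, hone]⟩
  have hf0 : (⟨f0.2, f0_sign.2⟩ : alternatingGroup (Fin 6)) ∈ N := hf
  have htop := normal_six hN hf0 fun e => f0_ne (congrArg Subtype.val e)
  have : (⟨π, hπ⟩ : alternatingGroup (Fin 6)) ∈ N := by rw [htop]; exact Subgroup.mem_top _
  exact this u hu

/-- a set of fifteen points moved by the element of order five is not split by the second factor -/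
theorem six_transitive_aux (P : V → Prop) (h5 : Nat.card {v : V // P v} ≤ 5)
    (hinv : ∀ π : S6, sign π = 1 → ∀ v, P v → P (M.ac (1, π) v)) {v : V} (hv : P v) : M.ff v = v := by
  classical
  haveI := M.finite
  haveI := Fintype.ofFinite {v : V // P v}
  have hmul : ∀ a b : S6, sign a = 1 → sign b = 1 → ∀ w, M.ac ((1, a * b) : P36) w =
      M.ac (1, a) (M.ac (1, b) w) := fun a b ha hb w => by
    rw [← M.ac_mul _ (M.six_mem ha) _ (M.six_mem hb), Prod.mk_mul_mk, one_mul]
  let φ : alternatingGroup (Fin 6) →* Equiv.Perm {v : V // P v} :=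
    MonoidHom.toHomPerm
      { toFun := fun g t => ⟨M.ac (1, (g : S6)) t, hinv _ g.2 _ t.2⟩
        map_one' := funext fun t => Subtype.ext (M.ac_one t)
        map_mul' := fun a b => funext fun t => Subtype.ext (hmul _ _ a.2 b.2 _) }
  have := hom_perm_trivial (by rwa [← Nat.card_eq_fintype_card]) φ ⟨f0.2, f0_sign.2⟩
  exact congrArg Subtype.val (Equiv.Perm.ext_iff.1 this ⟨v, hv⟩)

/-- either the element of order three is fixed point free, or it moves a plane only -/
theorem fixed_cases : ((∀ v, M.cc v = v → v = 0) ∧ ∀ v, M.ff v = v → v = 0) ∨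
    (Nat.card M.movC = 4 ∧ (∀ π : S6, sign π = 1 → ∀ u ∈ M.movC, M.ac (1, π) u = u) ∧
      ∀ u ∈ M.movC, u ≠ 0 → M.q u ≠ 0) := by
  classical
  haveI := M.finite
  have hfD : ∀ u ∈ M.movC, M.ff u ∈ M.movC := fun u hu => by
    rw [mem_movC, ← M.ff_cc, ← M.ff_cc, ← map_add, ← map_add, (M.mem_movC).1 hu, map_zero]
  have hfC : ∀ u ∈ M.fixC, M.ff u ∈ M.fixC := fun u hu => by
    rw [mem_fixC, ← M.ff_cc, (M.mem_fixC).1 hu]
  set D1 := M.movF M.movC with hD1
  set C1 := M.movF M.fixC with hC1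
  have hpf : ∀ v, M.pf (M.cc v) = M.cc (M.pf v) := fun v => by simp only [pf, map_add, M.ff_cc]
  have hcD1 : ∀ u ∈ D1, M.cc u ∈ D1 := fun u hu => by
    refine ⟨?_, by rw [hpf, hu.2, map_zero]⟩
    rw [mem_movC, ← map_add, ← map_add, (M.mem_movC).1 hu.1, map_zero]
  have hffmov : ∀ U : AddSubgroup V, (∀ u ∈ U, M.ff u ∈ U) → ∀ u ∈ M.movF U, M.ff u ∈ M.movF U :=
    fun U hU u hu => ⟨hU u hu.1, by
      have : M.pf (M.ff u) = M.ff (M.pf u) := by simp only [pf, map_add]
      rw [this, hu.2, map_zero]⟩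
  have h5of : ∀ U : AddSubgroup V, (∀ u ∈ U, M.ff u ∈ U) →
      5 ∣ Nat.card {v : V // v ∈ M.movF U ∧ v ≠ 0} := fun U hU => by
    refine M.five_dvd (fun v hv => ⟨hffmov U hU v hv.1, fun e => hv.2 ?_⟩) fun v hv e =>
      hv.2 (M.eq_zero_of_fixF_movF hv.1 e)
    exact M.ac_injective M.f0_mem (e.trans (map_zero _).symm)
  have hcases : ∀ U : AddSubgroup V, (∀ u ∈ U, M.ff u ∈ U) →
      Nat.card (M.movF U) = 1 ∨ Nat.card (M.movF U) = 16 ∨ Nat.card (M.movF U) = 256 := by
    intro U hU
    obtain ⟨k, hk, e⟩ := M.card_pow (M.movF U)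
    have h1 := h5of U hU
    have h2 := M.card_nonzero (M.movF U)
    rw [e] at h2 ⊢
    interval_cases k <;> omega
  -- the nondegeneracy of the four parts
  have hpart : ∀ u : V, ∀ v : V, (u ∈ D1 ∨ u ∈ C1) → M.B u v = M.B u (v + M.pf v) := fun u v hu => by
    have hv : M.pf v ∈ M.fixF ⊤ := ⟨trivial, M.pf_ff v⟩
    rw [M.B_add', M.B_comm u (M.pf v)]
    rcases hu with hu | hu <;> rw [M.orth_fixF_movF hv hu, add_zero]
  have hpfadd : ∀ a b, M.pf (a + b) = M.pf a + M.pf b := fun a b => by simp only [pf, map_add]; abel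
  have hndD1 : ∀ u ∈ D1, u ≠ 0 → ∃ v ∈ D1, M.B u v ≠ 0 := by
    intro u hu h0
    by_contra hall
    push Not at hall
    refine h0 (M.nondeg u fun v => ?_)
    rw [M.proj_sum v, M.B_add', M.B_comm u (v + M.cc v + M.cc (M.cc v)),
      M.orth_fix_mov (M.proj_fixC v) hu.1, zero_add, hpart u _ (Or.inl hu)]
    exact hall _ ⟨M.movC.add_mem (M.proj_movC v) (by
        have hm := M.proj_movC v
        exact M.movC.add_mem (M.movC.add_mem (M.movC.add_mem (M.movC.add_mem hm (hfD _ hm))
          (hfD _ (hfD _ hm))) (hfD _ (hfD _ (hfD _ hm)))) (hfD _ (hfD _ (hfD _ (hfD _ hm))))),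
      by rw [hpfadd, M.pf_fixed (M.pf_ff _), M.exp2]⟩
  rcases hcases M.movC hfD with hD | hD | hD
  · right
    -- the element of order five centralizes the moved part
    have hsplitD := M.card_fixF_movF M.movC hfD
    rw [hD, mul_one] at hsplitD
    have hfix : ∀ u ∈ M.movC, M.ff u = u := fun u hu => by
      have hb : Function.Bijective (fun v : M.fixF M.movC => (⟨(v : V), v.2.1⟩ : M.movC)) :=
        (Nat.bijective_iff_injective_and_card _).2
          ⟨fun a b e => Subtype.ext (Subtype.mk.inj e), hsplitD⟩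
      obtain ⟨v, hv⟩ := hb.2 ⟨u, hu⟩
      rw [← Subtype.mk.inj hv]
      exact v.2.2
    have hsix : ∀ π : S6, sign π = 1 → ∀ u ∈ M.movC, M.ac (1, π) u = u := fun π hπ u hu =>
      M.six_trivial M.movC (fun π hπ u hu => by
        rw [mem_movC, ← M.six_comm_cc hπ, ← M.six_comm_cc hπ, ← map_add, ← map_add,
          (M.mem_movC).1 hu, map_zero]) hfix hπ hu
    have hC1' := hcases M.fixC hfC
    have hsplit := M.card_fixF_movF M.fixC hfC
    have hcard := M.card_fix_mov
    -- the element of order three is not trivial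
    have hmov : 1 < Nat.card M.movC := by
      by_contra hle
      push Not at hle
      refine c0_ne (M.faithful c0 M.c0_mem fun v => ?_)
      have h0 : ∀ u ∈ M.movC, u = 0 := fun u hu => by
        have hs : Subsingleton M.movC := Finite.card_le_one_iff_subsingleton.1 hle
        exact congrArg Subtype.val (Subsingleton.elim (⟨u, hu⟩ : M.movC) 0)
      show M.cc v = v
      rw [M.proj_sum v, h0 _ (M.proj_movC v), add_zero]
      exact (M.mem_fixC).1 (M.proj_fixC v)
    have h3 : 3 ∣ Nat.card {v : V // v ∈ M.movC ∧ v ≠ 0} := by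
      refine M.three_dvd (fun v hv => ⟨?_, fun e => hv.2 ?_⟩)
        fun v hv e => hv.2 (M.eq_zero_of_fix_mov e hv.1)
      · rw [mem_movC, ← map_add, ← map_add, (M.mem_movC).1 hv.1, map_zero]
      · exact M.cc_inj (e.trans (map_zero _).symm)
    have hnz := M.card_nonzero M.movC
    obtain ⟨k, hk, ek⟩ := M.card_pow M.movC
    obtain ⟨l, hl, el⟩ := M.card_pow M.fixC
    -- the element of order five is not trivial
    have hC1ne : Nat.card (M.movF M.fixC) ≠ 1 := by
      intro e
      rw [e, mul_one] at hsplit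
      refine f0_ne (congrArg Prod.snd (M.faithful f0 M.f0_mem fun v => ?_) :)
      have hb : Function.Bijective (fun v : M.fixF M.fixC => (⟨(v : V), v.2.1⟩ : M.fixC)) :=
        (Nat.bijective_iff_injective_and_card _).2
          ⟨fun a b e => Subtype.ext (Subtype.mk.inj e), hsplit⟩
      obtain ⟨w, hw⟩ := hb.2 ⟨_, M.proj_fixC v⟩
      show M.ff v = v
      rw [M.proj_sum v, map_add, hfix _ (M.proj_movC v), ← Subtype.mk.inj hw, w.2.2]
    have hC16 : Nat.card (M.movF M.fixC) = 16 := by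
      rcases hC1' with e | e | e
      · exact absurd e hC1ne
      · exact e
      · exfalso
        have : 256 ≤ Nat.card M.fixC := by rw [← hsplit, e]; exact Nat.le_mul_of_pos_left _ Nat.card_pos
        nlinarith
    have hne16 : Nat.card M.fixC ≠ 16 := by
      intro e16
      have hall : ∀ v ∈ M.fixC, v ≠ 0 → M.ff v ≠ v := by
        intro v hv h0 e
        rw [hC16, e16] at hsplit
        have h1 : Nat.card (M.fixF M.fixC) = 1 := by omega
        have hs : Subsingleton (M.fixF M.fixC) := (Nat.card_eq_one_iff_unique.1 h1).1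
        exact h0 (congrArg Subtype.val (Subsingleton.elim (⟨v, hv, e⟩ : M.fixF M.fixC) 0))
      have hBC : ∃ u ∈ M.fixC, ∃ v ∈ M.fixC, M.B u v ≠ 0 := by
        obtain ⟨u, hu, hu0⟩ : ∃ u ∈ M.fixC, u ≠ 0 := by
          by_contra hz
          push Not at hz
          have : Nat.card M.fixC ≤ 1 := Finite.card_le_one_iff_subsingleton.2
            ⟨fun a b => Subtype.ext ((hz a a.2).trans (hz b b.2).symm)⟩
          omega
        by_contra hz
        push Not at hz
        refine hu0 (M.nondeg u fun v => ?_)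
        rw [M.proj_sum v, M.B_add', hz u hu _ (M.proj_fixC v), M.orth_fix_mov hu (M.proj_movC v), add_zero]
      obtain ⟨⟨u, hu, hu0, huq⟩, ⟨w, hw, hw0, hwq⟩⟩ := M.mixed M.fixC e16 hBC
      have hfive : ∀ Q : V → Prop, (∀ π : S6, sign π = 1 → ∀ v, Q v → Q (M.ac (1, π) v)) →
          5 ∣ Nat.card {v : V // v ∈ M.fixC ∧ v ≠ 0 ∧ Q v} ∧
            ∀ t, t ∈ M.fixC ∧ t ≠ 0 ∧ Q t → 5 < Nat.card {v : V // v ∈ M.fixC ∧ v ≠ 0 ∧ Q v} := by
        intro Q hQ
        have hinv : ∀ π : S6, sign π = 1 → ∀ v, (v ∈ M.fixC ∧ v ≠ 0 ∧ Q v) →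
            (M.ac (1, π) v ∈ M.fixC ∧ M.ac (1, π) v ≠ 0 ∧ Q (M.ac (1, π) v)) := fun π hπ v hv =>
          ⟨by rw [mem_fixC, ← M.six_comm_cc hπ, (M.mem_fixC).1 hv.1],
            fun e => hv.2.1 (M.ac_injective (M.six_mem hπ) (e.trans (map_zero _).symm)), hQ π hπ v hv.2.2⟩
        refine ⟨M.five_dvd (fun v hv => hinv f0.2 f0_sign.2 v hv) fun v hv => hall v hv.1 hv.2.1,
          fun t ht => ?_⟩
        by_contra hle
        push Not at hle
        exact hall t ht.1 ht.2.1 (M.six_transitive_aux _ hle hinv ht)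
      obtain ⟨d1, l1⟩ := hfive (fun v => M.q v = 0) fun π hπ v hv => by rw [M.ac_q _ (M.six_mem hπ)]; exact hv
      obtain ⟨d2, l2⟩ := hfive (fun v => M.q v ≠ 0) fun π hπ v hv => by rw [M.ac_q _ (M.six_mem hπ)]; exact hv
      have hs1 := l1 u ⟨hu, hu0, huq⟩
      have hs2 := l2 w ⟨hw, hw0, hwq⟩
      have hsum : Nat.card {v : V // v ∈ M.fixC ∧ v ≠ 0 ∧ M.q v = 0} +
          Nat.card {v : V // v ∈ M.fixC ∧ v ≠ 0 ∧ M.q v ≠ 0} = Nat.card {v : V // v ∈ M.fixC ∧ v ≠ 0} := by
        rw [← Nat.card_sum]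
        refine Nat.card_eq_of_bijective (Sum.elim (fun v => ⟨v, v.2.1, v.2.2.1⟩) fun v => ⟨v, v.2.1, v.2.2.1⟩)
          ⟨?_, ?_⟩
        · rintro (a | a) (b | b) e <;> have e' := congrArg Subtype.val e <;>
            simp only [Sum.elim_inl, Sum.elim_inr] at e'
          · exact congrArg _ (Subtype.ext e')
          · exact absurd (e' ▸ a.2.2.2) b.2.2.2
          · exact absurd (e' ▸ b.2.2.2) a.2.2.2
          · exact congrArg _ (Subtype.ext e')
        · rintro ⟨v, hv, hv0⟩
          by_cases hq : M.q v = 0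
          · exact ⟨Sum.inl ⟨v, hv, hv0, hq⟩, rfl⟩
          · exact ⟨Sum.inr ⟨v, hv, hv0, hq⟩, rfl⟩
      have hn := M.card_nonzero M.fixC
      omega
    have h4 : Nat.card M.movC = 4 := by
      rw [ek] at hcard hmov hnz ⊢
      rw [el] at hcard hsplit hne16
      rw [hC16] at hsplit
      have hl4 : 4 ≤ l := by
        by_contra h4
        have : 2 ^ l ≤ 2 ^ 3 := Nat.pow_le_pow_right (by norm_num) (by omega)
        have : 1 ≤ Nat.card (M.fixF M.fixC) := Nat.card_pos
        omega
      have hkl : k + l = 8 := by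
        rw [← pow_add] at hcard
        exact Nat.pow_right_injective (le_refl 2) (show 2 ^ (k + l) = 2 ^ 8 by rw [add_comm, hcard])
      interval_cases k <;> interval_cases l <;> omega
    refine ⟨h4, hsix, fun u hu h0 hq => ?_⟩
    -- the three non-zero vectors of the plane are conjugate
    have hu1 : M.cc u ∈ M.movC := by
      rw [mem_movC, ← map_add, ← map_add, (M.mem_movC).1 hu, map_zero]
    have hne : M.cc u ≠ u := fun e => h0 (M.eq_zero_of_fix_mov e hu)
    have hu10 : M.cc u ≠ 0 := fun e => h0 (M.cc_inj (e.trans (map_zero _).symm))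
    have hsum0 : u + M.cc u ≠ 0 := fun e => hne (M.add_eq_zero_iff.1 e).symm
    let ι : Fin 4 → M.movC := ![0, ⟨u, hu⟩, ⟨M.cc u, hu1⟩, ⟨u + M.cc u, M.movC.add_mem hu hu1⟩]
    have hinj : Function.Injective ι := by
      intro i j e
      have e' := congrArg Subtype.val e
      fin_cases i <;> fin_cases j <;>
        simp [ι, h0, hu10, hne, hsum0, Ne.symm h0, Ne.symm hu10, Ne.symm hne, Ne.symm hsum0] at e' ⊢
    have hb : Function.Bijective ι :=
      (Nat.bijective_iff_injective_and_card ι).2 ⟨hinj, by rw [h4, Nat.card_fin]⟩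
    have h3' := (M.mem_movC).1 hu
    have hall : ∀ v ∈ M.movC, M.q v = 0 := by
      intro v hv
      obtain ⟨i, hi⟩ := hb.2 ⟨v, hv⟩
      have hvi : v = (ι i : V) := (congrArg Subtype.val hi).symm
      have hsq : M.q (u + M.cc u) = 0 := by
        rw [M.add_eq_zero_iff.1 h3', M.cc_q, M.cc_q, hq]
      fin_cases i <;> simp [hvi, ι, M.q_zero, hq, M.cc_q, hsq]
    refine h0 (M.nondeg u fun v => ?_)
    rw [M.proj_sum v, M.B_add', M.B_comm u, M.orth_fix_mov (M.proj_fixC v) hu, zero_add, M.B_eq,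
      hall _ (M.movC.add_mem hu (M.proj_movC v)), hq, hall _ (M.proj_movC v), add_zero, add_zero]
  · exfalso
    have h3D : ∀ P : V → Prop, (∀ v, P v → P (M.cc v)) → (∀ v, P v → P (M.ff v)) →
        15 ∣ Nat.card {v : V // v ∈ D1 ∧ v ≠ 0 ∧ P v} := by
      intro P hc hf
      have hd3 : 3 ∣ Nat.card {v : V // v ∈ D1 ∧ v ≠ 0 ∧ P v} := by
        refine M.three_dvd (fun v hv => ⟨hcD1 _ hv.1, fun e => hv.2.1 (M.cc_inj (e.trans (map_zero _).symm)),
          hc _ hv.2.2⟩) fun v hv e => hv.2.1 (M.eq_zero_of_fix_mov e hv.1.1)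
      have hd5 : 5 ∣ Nat.card {v : V // v ∈ D1 ∧ v ≠ 0 ∧ P v} := by
        refine M.five_dvd (fun v hv => ⟨hffmov _ hfD _ hv.1,
          fun e => hv.2.1 (M.ac_injective M.f0_mem (e.trans (map_zero _).symm)),
          hf _ hv.2.2⟩) fun v hv e => hv.2.1 (M.eq_zero_of_fixF_movF hv.1 e)
      exact Nat.Coprime.mul_dvd_of_dvd_of_dvd (by norm_num) hd3 hd5
    have hB : ∃ u ∈ D1, ∃ v ∈ D1, M.B u v ≠ 0 := by
      obtain ⟨u, hu, hu0⟩ : ∃ u ∈ D1, u ≠ 0 := by
        by_contra hz
        push Not at hz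
        have : Nat.card D1 ≤ 1 := Finite.card_le_one_iff_subsingleton.2
          ⟨fun a b => Subtype.ext ((hz a a.2).trans (hz b b.2).symm)⟩
        have hD' : Nat.card D1 = 16 := hD
        omega
      exact ⟨u, hu, hndD1 u hu hu0⟩
    obtain ⟨⟨u, hu, hu0, huq⟩, ⟨w, hw, hw0, hwq⟩⟩ := M.mixed D1 hD hB
    have hd := h3D (fun v => M.q v = 0) (fun v hv => by rw [M.cc_q]; exact hv)
      fun v hv => by rw [show M.q (M.ff v) = M.q v from M.ac_q _ M.f0_mem v]; exact hv
    have hn := M.card_nonzero D1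
    have hlt : Nat.card {v : V // v ∈ D1 ∧ v ≠ 0 ∧ M.q v = 0} + 1 ≤ Nat.card {v : V // v ∈ D1 ∧ v ≠ 0} := by
      rw [← Finite.card_option]
      refine Nat.card_le_card_of_injective
        (fun o : Option {v : V // v ∈ D1 ∧ v ≠ 0 ∧ M.q v = 0} =>
          o.elim (⟨w, hw, hw0⟩ : {v : V // v ∈ D1 ∧ v ≠ 0}) fun v => ⟨v, v.2.1, v.2.2.1⟩) ?_
      rintro (_ | a) (_ | b) e
      · rfl
      · exact absurd b.2.2.2 (by rw [← show w = (b : V) from congrArg Subtype.val e]; exact hwq)
      · exact absurd a.2.2.2 (by rw [show (a : V) = w from congrArg Subtype.val e]; exact hwq)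
      · exact congrArg some (Subtype.ext (congrArg Subtype.val e :))
    have hD' : Nat.card D1 = 16 := hD
    have hpos : 0 < Nat.card {v : V // v ∈ D1 ∧ v ≠ 0 ∧ M.q v = 0} := by
      haveI : Nonempty {v : V // v ∈ D1 ∧ v ≠ 0 ∧ M.q v = 0} := ⟨⟨u, hu, hu0, huq⟩⟩
      exact Nat.card_pos
    have := Nat.le_of_dvd hpos hd
    omega
  · left
    have hsplit := M.card_fixF_movF M.movC hfD
    rw [hD] at hsplit
    have hcard := M.card_fix_mov
    have hpos : 1 ≤ Nat.card (M.fixF M.movC) := Nat.card_pos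
    have h256 : 256 ≤ Nat.card M.movC := by nlinarith
    have h1 : Nat.card M.fixC ≤ 1 := by nlinarith
    have hs : Subsingleton M.fixC := Finite.card_le_one_iff_subsingleton.1 h1
    have hc : ∀ v, M.cc v = v → v = 0 := fun v hv =>
      congrArg Subtype.val (Subsingleton.elim (⟨v, hv⟩ : M.fixC) 0)
    refine ⟨hc, fun v hv => ?_⟩
    have hle : Nat.card M.movC ≤ 256 := M.card ▸ AddSubgroup.card_le_card_addGroup M.movC
    have hf1 : Nat.card (M.fixF M.movC) ≤ 1 := by omega
    have hsf : Subsingleton (M.fixF M.movC) := Finite.card_le_one_iff_subsingleton.1 hf1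
    have hv' : v ∈ M.movC := hc _ (M.proj_fixC v)
    exact congrArg Subtype.val (Subsingleton.elim (⟨v, hv', hv⟩ : M.fixF M.movC) 0)

end Model

namespace Pr

variable {V : Type*} [AddCommGroup V] {M : Model V} {x : V} {E : AddSubgroup V} {A : Subgroup P36}
  (h : Pr M x E A)
include h

/-- the element of order three has no fixed points -/
theorem cc_fpf {v : V} (hv : M.cc v = v) : v = 0 := by
  classical
  haveI := M.finite
  rcases M.fixed_cases with hc | ⟨h4, hsix, hq1⟩
  · exact hc.1 v hv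
  exfalso
  have hD0 : ∀ u ∈ M.movC, M.q u = 0 → u = 0 := fun u hu hu0 => by
    by_contra h0
    exact hq1 u hu h0 hu0
  have h01 : ∀ a : ZMod 2, a ≠ 0 → a = 1 := by decide
  rcases h.card_cases with ⟨hE, hA⟩ | ⟨hE, hA⟩
  · -- a pairing moves some vector by `x`, so `x` is fixed
    obtain ⟨p, hp, hp1, hps, hpne⟩ := h.exists_even
    obtain ⟨e, he, hex⟩ : ∃ e ∈ E, M.ac p e + e = x := by
      by_contra hne
      push Not at hne
      exact hpne (h.inj hE p hp fun e he =>
        M.add_eq_zero_iff.1 ((h.E_comm p hp e he).resolve_right (hne e he)))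
    have hpP : p = ((1, p.2) : P36) := Prod.ext hp1 rfl
    have hxC : x ∈ M.fixC := by
      rw [← hex, hpP, M.proj_sum e, map_add, hsix _ hps _ (M.proj_movC e)]
      set C := e + M.cc e + M.cc (M.cc e)
      set D := M.cc e + M.cc (M.cc e)
      have e1 : M.ac (1, p.2) C + D + (C + D) = M.ac (1, p.2) C + C := by
        calc M.ac (1, p.2) C + D + (C + D) = M.ac (1, p.2) C + C + (D + D) := by abel
          _ = _ := by rw [M.exp2, add_zero]
      rw [e1]
      refine M.fixC.add_mem ?_ (M.proj_fixC e)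
      rw [Model.mem_fixC, ← M.six_comm_cc hps, (M.mem_fixC).1 (M.proj_fixC e)]
    -- so the totally singular subgroup is invariant, hence fixed
    have hEc : ∀ u ∈ E, M.cc u = u := by
      intro u hu
      have hu1 : M.cc u ∈ E := h.stab_E c0 M.c0_mem hxC u hu
      have hm : u + M.cc u ∈ M.movC := by
        rw [Model.mem_movC]
        simp only [map_add, M.cc_cube]
        calc u + M.cc u + (M.cc u + M.cc (M.cc u)) + (M.cc (M.cc u) + u)
            = (u + u) + (M.cc u + M.cc u) + (M.cc (M.cc u) + M.cc (M.cc u)) := by abel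
          _ = 0 := by simp only [M.exp2, add_zero]
      exact (M.add_eq_zero_iff.1 (hD0 _ hm (h.E_q _ (E.add_mem hu hu1)))).symm
    obtain ⟨d, hd, hd0⟩ : ∃ d ∈ M.movC, d ≠ 0 := by
      by_contra hz
      push Not at hz
      have : Nat.card M.movC ≤ 1 := Finite.card_le_one_iff_subsingleton.2
        ⟨fun a b => Subtype.ext ((hz a a.2).trans (hz b b.2).symm)⟩
      omega
    exact hq1 d hd hd0 (h.E_q d (h.perp_E hE fun u hu => by
      rw [M.B_comm]; exact M.orth_fix_mov (hEc u hu) hd))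
  · -- a transposition of the first factor gives an invariant functional
    obtain ⟨t, ht, ht2, hts⟩ := h.exists_pure_odd hA
    have htR := h.A_le ht
    have htt : ∀ w, M.ac t (M.ac t w) = w := fun w => by
      rw [← M.ac_mul _ htR _ htR, h.A_sq t ht, M.ac_one]
    let φ : V → ZMod 2 := fun w => M.B w (M.ac t w + w)
    have hφadd : ∀ u w, φ (u + w) = φ u + φ w := by
      intro u w
      have e1 : M.B u (M.ac t w) = M.B w (M.ac t u) := by
        rw [← M.ac_B htR, htt, M.B_comm]
      have h2 : (2 : ZMod 2) = 0 := by decide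
      simp only [φ, map_add, M.B_add, M.B_add']
      linear_combination e1 + (M.B w (M.ac t u) + M.B u w) * h2 + M.B_comm w u
    have hφx : ∀ w, M.B x w = 0 → φ w = 0 := fun w hw => by
      have h1 := h.E_q _ (h.perp t ht w hw)
      rw [M.q_add, M.ac_q _ htR, M.B_comm] at h1
      show M.B w (M.ac t w + w) = 0
      rw [M.B_add', M.B_self, add_zero]
      have h2 : (2 : ZMod 2) = 0 := by decide
      linear_combination h1 - M.q w * h2
    obtain ⟨d, hd, hdm⟩ : ∃ d ∈ M.movC, M.ac t d ≠ d := by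
      by_contra hz
      push Not at hz
      have hcm : ∀ d ∈ M.movC, M.cc d ∈ M.movC := fun d hd => by
        rw [Model.mem_movC, ← map_add, ← map_add, (M.mem_movC).1 hd, map_zero]
      have hall : ∀ d ∈ M.movC, d = 0 := fun d hd => by
        have e := M.cc_invert_of_odd htR hts d
        rw [hz d hd, hz _ (hcm d hd)] at e
        exact M.eq_zero_of_fix_mov (M.cc_inj e).symm hd
      have : Nat.card M.movC ≤ 1 := Finite.card_le_one_iff_subsingleton.2
        ⟨fun a b => Subtype.ext ((hall a a.2).trans (hall b b.2).symm)⟩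
      omega
    have htd : M.ac t d ∈ M.movC := by
      rw [Model.mem_movC]
      have e1 := M.cc_invert_of_odd htR hts (M.cc d)
      have e2 := M.cc_invert_of_odd htR hts d
      have h0 := congrArg (M.ac t) ((M.mem_movC).1 hd)
      rw [map_add, map_add, map_zero, e1, e2, M.cc_cube] at h0
      rw [← h0]; abel
    have hd0 : d ≠ 0 := fun e => hdm (by rw [e, map_zero])
    have hφd : φ d = 1 := by
      have hq := h01 _ (hq1 _ (M.movC.add_mem htd hd) fun e => hdm (M.add_eq_zero_iff.1 e))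
      rw [M.q_add, M.ac_q _ htR, M.B_comm] at hq
      have h2 : (2 : ZMod 2) = 0 := by decide
      show M.B d (M.ac t d + d) = 1
      rw [M.B_add', M.B_self, add_zero]
      linear_combination hq - M.q d * h2
    have hBd : M.B x d = 1 := h01 _ fun e => by simp [hφx d e] at hφd
    have hφB : ∀ w, φ w = M.B x w := fun w => by
      by_cases hw : M.B x w = 0
      · rw [hφx w hw, hw]
      · have hw1 := h01 _ hw
        have h0 := hφx (w + d) (by rw [M.B_add', hw1, hBd]; decide)
        rw [hφadd, hφd] at h0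
        rw [hw1]
        have h2 : (2 : ZMod 2) = 0 := by decide
        linear_combination h0 - h2
    have hfix : ∀ π : S6, sign π = 1 → M.ac (1, π) x = x := by
      intro π hπ
      have hg := M.six_mem hπ
      have hcomm : ∀ w, M.ac t (M.ac (1, π) w) = M.ac (1, π) (M.ac t w) := fun w => by
        rw [← M.ac_mul _ htR _ hg, ← M.ac_mul _ hg _ htR]
        congr 2
        exact Prod.ext (by simp) (by simp [ht2])
      refine M.add_eq_zero_iff.1 (M.nondeg _ fun w => ?_)
      have e1 : M.B (M.ac (1, π) x) (M.ac (1, π) (M.ac (1, π)⁻¹ w)) = M.B x (M.ac (1, π)⁻¹ w) := M.ac_B hg _ _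
      rw [M.ac_inv' hg] at e1
      have e2 : φ (M.ac (1, π) (M.ac (1, π)⁻¹ w)) = φ (M.ac (1, π)⁻¹ w) := by
        show M.B _ (M.ac t _ + _) = _
        rw [hcomm, ← map_add, M.ac_B hg]
      rw [M.ac_inv' hg, hφB, hφB] at e2
      rw [M.B_add, e1, ← e2]
      exact CharTwo.add_self_eq_zero _
    obtain ⟨p, hp, hp1, hps, hpne⟩ := h.exists_even
    let N : Subgroup (alternatingGroup (Fin 6)) :=
      A.comap ((MonoidHom.inr S3 S6).comp (alternatingGroup (Fin 6)).subtype)
    have hN : N.Normal := ⟨fun a ha g => by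
      have := h.stab_A _ (M.six_mem g.2) (hfix _ g.2) _ (Subgroup.mem_comap.1 ha)
      rw [Subgroup.mem_comap, map_mul, map_mul, map_inv]
      exact this⟩
    have hpN : (⟨p.2, hps⟩ : alternatingGroup (Fin 6)) ∈ N :=
      show ((1, p.2) : P36) ∈ A by rw [← show p = ((1, p.2) : P36) from Prod.ext hp1 rfl]; exact hp
    have htop := normal_six hN hpN fun e => hpne (Prod.ext hp1 (congrArg Subtype.val e :))
    have hf : (⟨f0.2, f0_sign.2⟩ : alternatingGroup (Fin 6)) ∈ N := by rw [htop]; exact Subgroup.mem_top _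
    have := h.A_sq _ (Subgroup.mem_comap.1 hf)
    exact absurd (congrArg Prod.snd this) (by decide +kernel)

/-- the element of order five has no fixed points -/
theorem ff_fpf {v : V} (hv : M.ff v = v) : v = 0 := by
  rcases M.fixed_cases with hc | ⟨h4, -, -⟩
  · exact hc.2 v hv
  exfalso
  haveI := M.finite
  have hall : M.movC = ⊤ := (AddSubgroup.eq_top_iff' _).2 fun w => h.cc_fpf (M.proj_fixC w)
  rw [hall, AddSubgroup.card_top, M.card] at h4
  omega

end Pr

end CfsgLib.ExtraNineS3A6
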