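import Cfsg.Agent.Lib.ExtraNineS3A6.Space
import Cfsg.Agent.Lib.LargeExtra.Extra

/-!
The quadratic space carried by an extraspecial subgroup, expressed inside the ambient group.
-/

set_option autoImplicit false

namespace CfsgLib.ExtraNineS3A6

open CfsgLib.LargeExtra

/-- every functional is a pairing -/
theorem exists_rep {V : Type*} [AddCommGroup V] [Finite V] (hexp : ∀ v : V, v + v = 0) (B : V → V → ZMod 2)
    (hB : ∀ u v w, B (u + v) w = B u w + B v w) (hsymm : ∀ u v, B u v = B v u)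
    (hnd : ∀ u, (∀ v, B u v = 0) → u = 0) (φ : V → ZMod 2) (hφ : ∀ u v, φ (u + v) = φ u + φ v) :
    ∃ u, ∀ v, B u v = φ v := by
  haveI : Fact (Nat.Prime 2) := ⟨Nat.prime_two⟩
  letI : Module (ZMod 2) V := AddCommGroup.zmodModule fun v => by rw [two_nsmul]; exact hexp v
  have hB' : ∀ u v w, B u (v + w) = B u v + B u w := fun u v w => by
    rw [hsymm u (v + w), hB, hsymm v, hsymm w]
  let inner : V → V →+ ZMod 2 := fun u => AddMonoidHom.mk' (fun v => B u v) (hB' u)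
  let b : LinearMap.BilinForm (ZMod 2) V :=
    (AddMonoidHom.mk' (fun u => (inner u).toZModLinearMap 2) fun u v =>
      LinearMap.ext fun w => hB u v w).toZModLinearMap 2
  have hb : ∀ u v, b u v = B u v := fun u v => rfl
  have hn : b.Nondegenerate :=
    ⟨fun u h => hnd u fun v => by rw [← hb]; exact h v,
      fun u h => hnd u fun v => by rw [hsymm, ← hb]; exact h v⟩
  obtain ⟨u, hu⟩ := (b.toDual hn).surjective ((AddMonoidHom.mk' φ hφ).toZModLinearMap 2)
  refine ⟨u, fun v => ?_⟩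
  have := LinearMap.congr_fun hu v
  rw [LinearMap.BilinForm.toDual_def, hb] at this
  exact this

open Classical in
/-- The indicator of a non-trivial element. -/
noncomputable def bit {G : Type*} [One G] (t : G) : ZMod 2 := if t = 1 then 0 else 1

theorem bit_eq_zero {G : Type*} [One G] {t : G} : bit t = 0 ↔ t = 1 := by
  unfold bit
  split_ifs with h <;> simp [h]

section Centre

variable {G : Type*} [Group G] {Q : Subgroup G} {z : G} (h : ExtraAt Q z)
include h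

theorem bit_mul {s t : G} (hs : s = 1 ∨ s = z) (ht : t = 1 ∨ t = z) : bit (s * t) = bit s + bit t := by
  have hz : bit z = 1 := by simp [bit, h.ne_one]
  have h1 : bit (1 : G) = 0 := bit_eq_zero.2 rfl
  rcases hs with rfl | rfl <;> rcases ht with rfl | rfl <;> simp [h.sq_one, hz, h1, CharTwo.add_self_eq_zero]

theorem comm_cases {a b : G} (ha : a ∈ Q) (hb : b ∈ Q) :
    a * b * a⁻¹ * b⁻¹ = 1 ∨ a * b * a⁻¹ * b⁻¹ = z := by
  rcases h.conj_cases ha hb with e | e <;> rw [e]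
  · exact Or.inl (mul_inv_cancel b)
  · exact Or.inr (mul_inv_cancel_right z b)

theorem comm_swap {a b : G} (ha : a ∈ Q) (hb : b ∈ Q) :
    a * b * a⁻¹ * b⁻¹ = b * a * b⁻¹ * a⁻¹ := by
  have e : (a * b * a⁻¹ * b⁻¹)⁻¹ = b * a * b⁻¹ * a⁻¹ := by group
  rw [← e]
  rcases comm_cases h ha hb with e1 | e1 <;> rw [e1]
  · exact inv_one.symm
  · exact h.inv_eq.symm

theorem bit_sq [Finite G] {a b : G} (ha : a ∈ Q) (hb : b ∈ Q) :
    bit (a * b * (a * b)) = bit (a * a) + bit (b * b) + bit (b * a * b⁻¹ * a⁻¹) := by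
  have hc := comm_cases h hb ha
  have hcen : a * (b * a * b⁻¹ * a⁻¹) = b * a * b⁻¹ * a⁻¹ * a := by
    rcases hc with e | e <;> rw [e]
    · rw [mul_one, one_mul]
    · exact h.comm_z ha
  have e : a * b * (a * b) = b * a * b⁻¹ * a⁻¹ * (a * a * (b * b)) := by
    calc a * b * (a * b) = a * (b * a * b⁻¹ * a⁻¹) * (a * (b * b)) := by group
      _ = _ := by rw [hcen]; group
  have h2 : a * a * (b * b) = 1 ∨ a * a * (b * b) = z := by
    rcases h.sq_cases ha with e1 | e1 <;> rcases h.sq_cases hb with e2 | e2 <;> rw [e1, e2] <;>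
      simp [h.sq_one]
  rw [e, bit_mul h hc h2, bit_mul h (h.sq_cases ha) (h.sq_cases hb)]
  ring

theorem bit_comm_mul {m a b : G} (hmz : m * z = z * m) (ha : a ∈ Q) (hma : m * a * m⁻¹ * a⁻¹ = 1 ∨ m * a * m⁻¹ * a⁻¹ = z)
    (hmb : m * b * m⁻¹ * b⁻¹ = 1 ∨ m * b * m⁻¹ * b⁻¹ = z) :
    bit (m * (a * b) * m⁻¹ * (a * b)⁻¹) = bit (m * a * m⁻¹ * a⁻¹) + bit (m * b * m⁻¹ * b⁻¹) := by
  have hcen : a * (m * b * m⁻¹ * b⁻¹) = m * b * m⁻¹ * b⁻¹ * a := by
    rcases hmb with e | e <;> rw [e]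
    · rw [mul_one, one_mul]
    · exact h.comm_z ha
  have e : m * (a * b) * m⁻¹ * (a * b)⁻¹ = m * a * m⁻¹ * a⁻¹ * (m * b * m⁻¹ * b⁻¹) := by
    calc m * (a * b) * m⁻¹ * (a * b)⁻¹ = m * a * m⁻¹ * a⁻¹ * (a * (m * b * m⁻¹ * b⁻¹)) * a⁻¹ := by group
      _ = _ := by rw [hcen]; group
  rw [e, bit_mul h hma hmb]

end Centre

end CfsgLib.ExtraNineS3A6
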