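import Cfsg.Agent.Lib.ExtraNineS3A6.Mirror

/-!
Structure of the totally singular subgroup and of the elementary abelian group attached to a conjugate
of the centre in the core.
-/

set_option autoImplicit false

namespace CfsgLib.ExtraNineS3A6

open Equiv Equiv.Perm

namespace Model

variable {V : Type*} [AddCommGroup V] (M : Model V)

/-- Vectors of `U` orthogonal to `u` after applying the element of order three. -/
def perpC (U : AddSubgroup V) (u : V) : AddSubgroup V where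
  carrier := {v | v ∈ U ∧ M.B u (M.cc v) = 0}
  add_mem' := fun {a b} ha hb => ⟨U.add_mem ha.1 hb.1, by rw [map_add, M.B_add', ha.2, hb.2, add_zero]⟩
  zero_mem' := ⟨U.zero_mem, by rw [map_zero, M.B_zero']⟩
  neg_mem' := fun {a} ha => by rw [M.neg_eq a]; exact ha

theorem mem_perpC {U : AddSubgroup V} {u v : V} : v ∈ M.perpC U u ↔ v ∈ U ∧ M.B u (M.cc v) = 0 := Iff.rfl

theorem half_perpC (M : Model V) (U : AddSubgroup V) (u : V) :
    Nat.card U ≤ 2 * Nat.card (M.perpC U u) := by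
  refine (M.half_le U (fun v => M.B u (M.cc v)) fun a b => ?_).trans (le_of_eq ?_)
  · show M.B u (M.cc (a + b)) = _
    rw [map_add, M.B_add']
  · exact congrArg (2 * ·) (Nat.card_congr (Equiv.subtypeEquivRight fun v => Iff.rfl))

/-- The subgroup spanned by one vector. -/
def line (u : V) : AddSubgroup V where
  carrier := {v | v = 0 ∨ v = u}
  add_mem' := by
    rintro a b (rfl | rfl) (rfl | rfl) <;> simp [M.exp2]
  zero_mem' := Or.inl rfl
  neg_mem' := fun {a} ha => by rw [M.neg_eq a]; exact ha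

/-- The subgroup spanned by two vectors. -/
def plane (u v : V) : AddSubgroup V := M.line u ⊔ M.line v

theorem mem_plane {u v t : V} (h : t ∈ M.plane u v) : t = 0 ∨ t = u ∨ t = v ∨ t = u + v := by
  obtain ⟨a, ha, b, hb, rfl⟩ := AddSubgroup.mem_sup.1 h
  rcases ha with rfl | rfl <;> rcases hb with rfl | rfl <;> simp

theorem plane_le {u v : V} {T : AddSubgroup V} (hu : u ∈ T) (hv : v ∈ T) : M.plane u v ≤ T := by
  refine sup_le ?_ ?_ <;> rintro t (rfl | rfl) <;> first | exact T.zero_mem | assumption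

theorem left_mem_plane (u v : V) : u ∈ M.plane u v := AddSubgroup.mem_sup_left (Or.inr rfl)

theorem right_mem_plane (u v : V) : v ∈ M.plane u v := AddSubgroup.mem_sup_right (Or.inr rfl)

theorem four_le_plane {u v : V} (hu : u ≠ 0) (hv : v ≠ 0) (hne : v ≠ u) : 4 ≤ Nat.card (M.plane u v) := by
  haveI := M.finite
  have h1 : 2 * Nat.card (⊥ : AddSubgroup V) ≤ Nat.card (M.line u) :=
    M.two_mul_le bot_le (show u ∈ M.line u from Or.inr rfl) (fun h => hu (AddSubgroup.mem_bot.1 h))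
  have h2 : 2 * Nat.card (M.line u) ≤ Nat.card (M.plane u v) :=
    M.two_mul_le le_sup_left (M.right_mem_plane u v) (by rintro (h | h); exacts [hv h, hne h])
  rw [AddSubgroup.card_bot] at h1
  omega

end Model

/-- The part of `A` inside the second factor. -/
def A0 (A : Subgroup P36) : Subgroup P36 := A ⊓ (MonoidHom.fst S3 S6).ker

theorem mem_A0 {A : Subgroup P36} {a : P36} : a ∈ A0 A ↔ a ∈ A ∧ a.1 = 1 := Iff.rfl

/-- The quadratic form on the fixed space of `α` is the pairing with `x`. -/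
def HasT {V : Type*} [AddCommGroup V] (M : Model V) (x : V) (α : P36) : Prop :=
  ∀ w ∈ M.fixA α, M.q w = M.B x (M.cc w)

namespace Pr

variable {V : Type*} [AddCommGroup V] {M : Model V} {x : V} {E : AddSubgroup V} {A : Subgroup P36}
  (h : Pr M x E A)
include h

theorem fst_cases {a : P36} (ha : a ∈ A) : a.1 = 1 ∨ sign a.1 = -1 :=
  (em (a.1 = 1)).imp_right (h.fst_sign ha)

theorem A0_le : A0 A ≤ M.R := fun _ ha => h.A_le ha.1

theorem two_card_A0 : Nat.card A ≤ 2 * Nat.card (A0 A) := by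
  rw [← ker_fst_card A, mul_comm 2]
  refine Nat.mul_le_mul (le_of_eq (Nat.card_congr ?_)) h.range_fst_le
  exact
    { toFun := fun a => ⟨((a : A) : P36), mem_A0.2 ⟨(a : A).2, a.2⟩⟩
      invFun := fun a => ⟨⟨a, a.2.1⟩, (mem_A0.1 a.2).2⟩
      left_inv := fun _ => rfl
      right_inv := fun _ => rfl }

theorem comm_cc {a : P36} (ha : a ∈ A) (h1 : a.1 = 1) (v : V) : M.ac a (M.cc v) = M.cc (M.ac a v) :=
  M.cc_comm_of_even (h.A_le ha) (by rw [h1]; simp) v

theorem mirror {α : P36} (hα : α ∈ A) (hs : sign α.1 = -1) : Mirror M α :=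
  ⟨fun _ hv => h.cc_fpf hv, h.A_le hα, h.A_sq α hα, hs⟩

theorem cc_x_ne : M.cc x ≠ x := fun e => h.x_ne (h.cc_fpf e)

theorem cc_x_ne_zero : M.cc x ≠ 0 := fun e => h.x_ne (M.cc_inj (e.trans (map_zero _).symm))

theorem B_x_cc_x : M.B x (M.cc x) = 0 := by
  have e := M.cc_q (M.cc x)
  have hs : M.cc (M.cc x) = x + M.cc x :=
    (M.add_eq_zero_iff.1 (h.cc_fpf (M.proj_fixC x))).symm
  rw [hs, M.q_add, M.cc_q, h.q_x] at e
  simpa using e

theorem exists_odd : ∃ α ∈ A, sign α.1 = -1 := by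
  haveI := M.finite
  by_contra hne
  push Not at hne
  have h1 : ∀ a ∈ A, a.1 = 1 := fun a ha => (h.fst_cases ha).resolve_right (hne a ha)
  have hA : Nat.card A = 8 ∧ Nat.card E = 16 := by
    rcases h.card_cases with ⟨e1, e2⟩ | ⟨-, e2⟩
    · exact ⟨e2, e1⟩
    · obtain ⟨a, ha, -, hs⟩ := h.exists_pure_odd e2
      exact absurd hs (hne a ha)
  set E0 := M.perpC E x
  have hmove : ∀ a ∈ A, ∀ v ∈ E0, M.cc x ∉ E → M.ac a v = v := by
    intro a ha v hv hcx
    have hp := h.perp a ha _ hv.2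
    rw [h.comm_cc ha (h1 a ha), ← map_add] at hp
    rcases h.E_comm a ha v hv.1 with e | e
    · exact M.add_eq_zero_iff.1 e
    · rw [e] at hp; exact absurd hp hcx
  by_cases hcx : M.cc x ∈ E
  · have hp := M.four_le_plane h.x_ne h.cc_x_ne_zero h.cc_x_ne
    have hle := M.card_le_four A h.A_le x (M.plane x (M.cc x)) E (M.plane_le h.x_mem hcx) (by omega)
      h.E_comm (fun a ha => show M.plane x (M.cc x) ≤ M.fixA a from M.plane_le (h.A_fix a ha)
        (by rw [Model.mem_fixA, h.comm_cc ha (h1 a ha), h.A_fix a ha]))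
      (fun a ha hf => h.inj hA.2 a ha hf)
    omega
  · have hE0 := M.half_perpC E x
    have hle := M.card_le_two A h.A_le x E0 E (fun v hv => hv.1) hE0 h.E_comm
      (fun a ha v hv => hmove a ha v hv hcx) (fun a ha hf => h.inj hA.2 a ha hf)
    omega

section Fixed

variable {α : P36} (hα : α ∈ A) (hs : sign α.1 = -1)
include hα hs

theorem x_fix : x ∈ M.fixA α := h.A_fix α hα

theorem perpC_le : M.perpC (M.fixA α) x ≤ E := by
  intro w hw
  rw [← (h.mirror hα hs).move_cc hw.1]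
  exact h.perp α hα _ hw.2

theorem exists_dual : ∃ w ∈ M.fixA α, M.B x (M.cc w) = 1 := by
  by_contra hne
  push Not at hne
  exact h.x_ne ((h.mirror hα hs).nondeg (h.x_fix hα hs) fun w hw =>
    (zmod_two_cases _).resolve_right (hne w hw))

theorem perp_cases {w1 : V} (hw1 : w1 ∈ M.fixA α) (hw1x : M.B x (M.cc w1) = 1) {w : V}
    (hw : w ∈ M.fixA α) : w ∈ M.perpC (M.fixA α) x ∨ w + w1 ∈ M.perpC (M.fixA α) x := by
  rcases zmod_two_cases (M.B x (M.cc w)) with e | e
  · exact Or.inl ⟨hw, e⟩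
  · exact Or.inr ⟨(M.fixA α).add_mem hw hw1, by rw [map_add, M.B_add', e, hw1x, zmod_two_add_self]⟩

theorem double_perp {δ : V} (hδ : δ ∈ M.fixA α)
    (hperp : ∀ u ∈ M.perpC (M.fixA α) x, M.B δ (M.cc u) = 0) : δ = 0 ∨ δ = x := by
  have m := h.mirror hα hs
  obtain ⟨w1, hw1, hw1x⟩ := h.exists_dual hα hs
  have key : ∀ δ' ∈ M.fixA α, (∀ u ∈ M.perpC (M.fixA α) x, M.B δ' (M.cc u) = 0) →
      M.B δ' (M.cc w1) = 0 → δ' = 0 := by
    intro δ' hδ' hp h0
    refine m.nondeg hδ' fun w hw => ?_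
    rcases h.perp_cases hα hs hw1 hw1x hw with e | e
    · exact hp w e
    · have := hp _ e
      rwa [map_add, M.B_add', h0, add_zero] at this
  rcases zmod_two_cases (M.B δ (M.cc w1)) with e | e
  · exact Or.inl (key δ hδ hperp e)
  · refine Or.inr (M.add_eq_zero_iff.1 (key _ ((M.fixA α).add_mem hδ (h.x_fix hα hs)) (fun u hu => ?_) ?_))
    · rw [M.B_add, hperp u hu, hu.2, add_zero]
    · rw [M.B_add, e, hw1x, zmod_two_add_self]

theorem A0_conj {a : P36} (ha : a ∈ A0 A) {w : V} (hw : w ∈ M.fixA α) : M.ac a w ∈ M.fixA α :=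
  (h.mirror hα hs).conj_mem (h.A_le ha.1) (h.A_comm ha.1 hα) hw

theorem A0_br {a : P36} (ha : a ∈ A0 A) {u v : V} (hu : u ∈ M.fixA α) (hv : v ∈ M.fixA α) :
    M.B (M.ac a u) (M.cc (M.ac a v)) = M.B u (M.cc v) :=
  (h.mirror hα hs).br_conj (h.A_le ha.1) (h.A_comm ha.1 hα) hu hv

theorem eq_one_of_fix {a : P36} (ha : a ∈ A0 A) (hf : ∀ w ∈ M.fixA α, M.ac a w = w) : a = 1 := by
  refine M.faithful a (h.A_le ha.1) fun v => ?_
  obtain ⟨w, hw, w', hw', rfl, -⟩ := (h.mirror hα hs).decomp v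
  rw [map_add, h.comm_cc ha.1 (mem_A0.1 ha).2, hf w hw, hf w' hw']

omit hs in
theorem ne_one_of_odd (hs : sign α.1 = -1) : α ≠ 1 := fun e => by
  rw [e] at hs
  exact absurd hs (by simp)

theorem card_E : Nat.card E = 16 ∧ Nat.card A = 8 := by
  haveI := M.finite
  rcases h.card_cases with e | ⟨e8, e16⟩
  · exact e
  exfalso
  have m := h.mirror hα hs
  have hP := M.half_perpC (M.fixA α) x
  rw [m.card_fix] at hP
  have hEeq := AddSubgroup.eq_of_le_of_card_ge (h.perpC_le hα hs) (by omega)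
  have hfix : ∀ a ∈ A0 A, ∀ u ∈ M.perpC (M.fixA α) x, M.ac a u = u := by
    intro a ha u hu
    have hp := h.perp a ha.1 _ hu.2
    rw [← hEeq, h.comm_cc ha.1 (mem_A0.1 ha).2, ← map_add] at hp
    exact M.add_eq_zero_iff.1
      (m.eq_zero_of_cc ((M.fixA α).add_mem (h.A0_conj hα hs ha hu.1) hu.1) hp.1)
  have hle := M.card_le_two (A0 A) h.A0_le x (M.perpC (M.fixA α) x) (M.fixA α) (fun u hu => hu.1)
    (by rw [m.card_fix]; omega) (fun a ha w hw => ?_) hfix fun a ha hf => h.eq_one_of_fix hα hs ha hf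
  · have := h.two_card_A0
    omega
  · refine h.double_perp hα hs ((M.fixA α).add_mem (h.A0_conj hα hs ha hw) hw) fun u hu => ?_
    have e := h.A0_br hα hs ha hw hu.1
    rw [hfix a ha u hu] at e
    rw [M.B_add, e, zmod_two_add_self]

theorem card_inf_le : Nat.card (E ⊓ M.fixA α : AddSubgroup V) ≤ 8 := by
  haveI := M.finite
  obtain ⟨hE, -⟩ := h.card_E hα hs
  obtain ⟨e0, he0, hne⟩ : ∃ e ∈ E, e ∉ M.fixA α := by
    by_contra hall
    push Not at hall
    exact h.ne_one_of_odd hα hs (h.inj hE α hα hall)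
  have := M.two_mul_le (inf_le_left : E ⊓ M.fixA α ≤ E) he0 (fun hm => hne hm.2)
  omega

theorem card_perpC : Nat.card (M.perpC (M.fixA α) x) = 8 := by
  haveI := M.finite
  have hP := M.half_perpC (M.fixA α) x
  rw [(h.mirror hα hs).card_fix] at hP
  have h1 := h.card_inf_le hα hs
  have h2 : Nat.card (M.perpC (M.fixA α) x) ≤ Nat.card (E ⊓ M.fixA α : AddSubgroup V) :=
    AddSubgroup.card_le_of_le (le_inf (h.perpC_le hα hs) fun u hu => hu.1)
  omega

theorem inf_eq : M.perpC (M.fixA α) x = E ⊓ M.fixA α := by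
  haveI := M.finite
  refine AddSubgroup.eq_of_le_of_card_ge (le_inf (h.perpC_le hα hs) fun u hu => hu.1) ?_
  rw [h.card_perpC hα hs]
  exact h.card_inf_le hα hs

theorem cx_mem : M.cc x ∈ E := by
  haveI := M.finite
  obtain ⟨hE, hA⟩ := h.card_E hα hs
  have m := h.mirror hα hs
  obtain ⟨e0, he0, hne⟩ : ∃ e ∈ E, e ∉ M.fixA α := by
    by_contra hall
    push Not at hall
    exact h.ne_one_of_odd hα hs (h.inj hE α hα hall)
  obtain ⟨w0, hw0, w', -, heq, hw'⟩ := m.decomp e0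
  rw [(h.E_comm α hα e0 he0).resolve_left fun e => hne (M.add_eq_zero_iff.1 e)] at hw'
  rw [hw'] at heq
  rcases zmod_two_cases (M.B x (M.cc w0)) with e | e
  · have hw0E : w0 ∈ E := h.perpC_le hα hs ⟨hw0, e⟩
    have : M.cc x = e0 + w0 := by rw [heq, add_comm w0, add_assoc, M.exp2, add_zero]
    rw [this]
    exact E.add_mem he0 hw0E
  exfalso
  have hline0 : ∀ a ∈ A0 A, M.ac a w0 + w0 = 0 ∨ M.ac a w0 + w0 = x := by
    intro a ha
    have := h.E_comm a ha.1 e0 he0
    rwa [heq, map_add, h.comm_cc ha.1 (mem_A0.1 ha).2, h.A_fix a ha.1,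
      add_add_add_comm, M.exp2 (M.cc x), add_zero] at this
  have hfix : ∀ a ∈ A0 A, ∀ u ∈ M.perpC (M.fixA α) x, M.ac a u = u := by
    intro a ha u hu
    rcases h.E_comm a ha.1 u (h.perpC_le hα hs hu) with e1 | e1
    · exact M.add_eq_zero_iff.1 e1
    exfalso
    have hau : M.ac a u = u + x := by rw [← e1, add_left_comm, M.exp2, add_zero]
    have e2 := h.A0_br hα hs ha hw0 hu.1
    have hwx : M.B w0 (M.cc x) = 1 := by rw [m.br_comm hw0 (h.x_fix hα hs)]; exact e
    rcases hline0 a ha with e3 | e3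
    · rw [M.add_eq_zero_iff.1 e3, hau, map_add, M.B_add', hwx] at e2
      simp at e2
    · have haw : M.ac a w0 = w0 + x := by rw [← e3, add_left_comm, M.exp2, add_zero]
      rw [haw, hau, map_add, M.B_add, M.B_add', M.B_add', hwx, hu.2, h.B_x_cc_x] at e2
      simp at e2
  have hle := M.card_le_two (A0 A) h.A0_le x (M.perpC (M.fixA α) x) (M.fixA α) (fun u hu => hu.1)
    (by rw [m.card_fix, h.card_perpC hα hs]) (fun a ha w hw => ?_) hfix
    fun a ha hf => h.eq_one_of_fix hα hs ha hf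
  · have := h.two_card_A0
    omega
  · rcases h.perp_cases hα hs hw0 e hw with e1 | e1
    · left; rw [hfix a ha w e1, M.exp2]
    · have e2 := hfix a ha _ e1
      rw [map_add] at e2
      have : M.ac a w + w = M.ac a w0 + w0 := by
        refine M.add_eq_zero_iff.1 ?_
        calc M.ac a w + w + (M.ac a w0 + w0) = (M.ac a w + M.ac a w0) + (w + w0) := by abel
          _ = 0 := by rw [e2, M.exp2]
      rw [this]
      exact hline0 a ha

theorem fst_one_of_fix {a : P36} (ha : a ∈ A) (hf : M.ac a (M.cc x) = M.cc x) : a.1 = 1 := by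
  refine (h.fst_cases ha).resolve_right fun hsa => h.x_ne ?_
  have m := h.mirror ha hsa
  have := m.move_cc (h.x_fix ha hsa)
  rw [hf, M.exp2] at this
  exact this.symm

theorem E_split {e : V} (he : e ∈ E) :
    e ∈ M.perpC (M.fixA α) x ∨ e + M.cc x ∈ M.perpC (M.fixA α) x := by
  have m := h.mirror hα hs
  rw [h.inf_eq hα hs]
  rcases h.E_comm α hα e he with e1 | e1
  · exact Or.inl ⟨he, M.add_eq_zero_iff.1 e1⟩
  · refine Or.inr ⟨E.add_mem he (h.cx_mem hα hs), ?_⟩
    show M.ac α (e + M.cc x) = e + M.cc x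
    refine M.add_eq_zero_iff.1 ?_
    rw [map_add, add_add_add_comm, e1, m.move_cc (h.x_fix hα hs), M.exp2]

theorem eq_one_of_perp {a : P36} (ha : a ∈ A0 A) (hf : ∀ u ∈ M.perpC (M.fixA α) x, M.ac a u = u) :
    a = 1 := by
  refine h.inj (h.card_E hα hs).1 a ha.1 fun e he => ?_
  rcases h.E_split hα hs he with e1 | e1
  · exact hf e e1
  · have := hf _ e1
    rw [map_add, h.comm_cc ha.1 (mem_A0.1 ha).2, h.A_fix a ha.1] at this
    exact add_right_cancel this

theorem card_A0 : Nat.card (A0 A) = 4 := by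
  obtain ⟨-, hA⟩ := h.card_E hα hs
  have h1 := h.two_card_A0
  obtain ⟨k, hk⟩ := Subgroup.card_dvd_of_le (inf_le_left : A0 A ≤ A)
  have hne : Nat.card (A0 A) ≠ Nat.card A := fun e => by
    have := (Subgroup.eq_of_le_of_card_ge (inf_le_left : A0 A ≤ A) e.ge).symm ▸ hα
    rw [(mem_A0.1 this).2] at hs
    exact absurd hs (by simp)
  rw [hA] at hk hne h1
  have hdvd : Nat.card (A0 A) ∈ Nat.divisors 8 := Nat.mem_divisors.2 ⟨⟨k, hk⟩, by norm_num⟩
  rw [show Nat.divisors 8 = {1, 2, 4, 8} by decide] at hdvd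
  simp only [Finset.mem_insert, Finset.mem_singleton] at hdvd
  omega

section Dual

variable {w : V} (hw : w ∈ M.fixA α) (hwx : M.B x (M.cc w) = 1)
include hw hwx

theorem delta_mem {a : P36} (ha : a ∈ A0 A) : M.ac a w + w ∈ M.perpC (M.fixA α) x := by
  refine ⟨(M.fixA α).add_mem (h.A0_conj hα hs ha hw) hw, ?_⟩
  have e := h.A0_br hα hs ha (h.x_fix hα hs) hw
  rw [h.A_fix a ha.1] at e
  rw [map_add, M.B_add', e, zmod_two_add_self]

theorem delta_act {a : P36} (ha : a ∈ A0 A) {u : V} (hu : u ∈ M.perpC (M.fixA α) x) :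
    (M.B (M.ac a w + w) (M.cc u) = 0 ∧ M.ac a u = u) ∨
      (M.B (M.ac a w + w) (M.cc u) = 1 ∧ M.ac a u = u + x) := by
  have e := h.A0_br hα hs ha hw hu.1
  rcases h.E_comm a ha.1 u (h.perpC_le hα hs hu) with e1 | e1
  · have hau := M.add_eq_zero_iff.1 e1
    rw [hau] at e
    exact Or.inl ⟨by rw [M.B_add, e, zmod_two_add_self], hau⟩
  · have hau : M.ac a u = u + x := by rw [← e1, add_left_comm, M.exp2, add_zero]
    refine Or.inr ⟨?_, hau⟩
    have hx : M.B (M.ac a w) (M.cc x) = 1 := by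
      have e2 := h.A0_br hα hs ha hw (h.x_fix hα hs)
      rw [h.A_fix a ha.1] at e2
      rw [e2, (h.mirror hα hs).br_comm hw (h.x_fix hα hs), hwx]
    rw [hau, map_add, M.B_add', hx] at e
    rw [M.B_add]
    linear_combination e - zmod_two_add_self (1 : ZMod 2) +
      zmod_two_add_self (M.B w (M.cc u))

theorem delta_ne {a : P36} (ha : a ∈ A0 A) (h1 : a ≠ 1) : M.ac a w + w ≠ 0 ∧ M.ac a w + w ≠ x := by
  constructor <;> intro e <;> refine h1 (h.eq_one_of_perp hα hs ha fun u hu => ?_) <;>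
    rcases h.delta_act hα hs hw hwx ha hu with ⟨-, e1⟩ | ⟨e0, -⟩
  · exact e1
  · rw [e, M.B_zero] at e0; exact absurd e0 (by decide)
  · exact e1
  · rw [e, hu.2] at e0; exact absurd e0 (by decide)

theorem delta_fix {a : P36} (ha : a ∈ A0 A) : M.ac a (M.ac a w + w) = M.ac a w + w := by
  rw [map_add, ← M.ac_mul a (h.A_le ha.1) a (h.A_le ha.1), h.A_sq a ha.1, M.ac_one, add_comm]

theorem delta_zero {a : P36} (ha : a ∈ A0 A) (h1 : a ≠ 1) {u : V} (hu : u ∈ M.perpC (M.fixA α) x)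
    (hau : M.ac a u = u) : u ∈ M.plane x (M.ac a w + w) := by
  haveI := M.finite
  by_contra hnot
  have hd := h.delta_ne hα hs hw hwx ha h1
  have h4 := M.four_le_plane h.x_ne hd.1 hd.2
  have hle : M.plane x (M.ac a w + w) ≤ M.perpC (M.fixA α) x :=
    M.plane_le ⟨h.x_fix hα hs, h.B_x_cc_x⟩ (h.delta_mem hα hs hw hwx ha)
  refine h1 (h.eq_one_of_perp hα hs ha fun v hv => ?_)
  exact M.gen_one (T := M.fixA a) hle (by rw [h.card_perpC hα hs]; omega)
    (M.plane_le (h.A_fix a ha.1) (h.delta_fix hα hs hw hwx ha)) hu hnot hau hv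

theorem mu_mul {a b : P36} (ha : a ∈ A0 A) (hb : b ∈ A0 A) (ha1 : a ≠ 1) (hb1 : b ≠ 1) (hab : a ≠ b) :
    M.B w (M.cc (M.ac (a * b) w + w)) =
      M.B w (M.cc (M.ac a w + w)) + M.B w (M.cc (M.ac b w + w)) + 1 := by
  have hdb := h.delta_mem hα hs hw hwx hb
  rcases h.delta_act hα hs hw hwx ha hdb with ⟨e0, e1⟩ | ⟨e0, e1⟩
  · exfalso
    have hdne := h.delta_ne hα hs hw hwx hb hb1
    have hcase : M.ac b w + w = M.ac a w + w ∨ M.ac b w + w = x + (M.ac a w + w) := by
      rcases M.mem_plane (h.delta_zero hα hs hw hwx ha ha1 hdb e1) with e | e | e | e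
      · exact absurd e hdne.1
      · exact absurd e hdne.2
      · exact Or.inl e
      · exact Or.inr e
    refine hab (inv_mul_eq_one.1 (?_ : b⁻¹ * a = 1)).symm
    refine h.eq_one_of_perp hα hs ((A0 A).mul_mem ((A0 A).inv_mem hb) ha) fun u hu => ?_
    refine M.fix_inv_mul (h.A_le ha.1) (h.A_le hb.1) ?_
    have hB : M.B (M.ac b w + w) (M.cc u) = M.B (M.ac a w + w) (M.cc u) := by
      rcases hcase with e | e
      · rw [e]
      · rw [e, M.B_add x, hu.2, zero_add]
    rcases h.delta_act hα hs hw hwx ha hu with ⟨f0, f1⟩ | ⟨f0, f1⟩ <;>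
      rcases h.delta_act hα hs hw hwx hb hu with ⟨g0, g1⟩ | ⟨g0, g1⟩ <;>
      rw [f1, g1] <;> rw [hB, f0] at g0 <;> exact absurd g0 (by decide)
  · have hsum : M.ac (a * b) w + w = (M.ac a w + w) + ((M.ac b w + w) + x) := by
      rw [← e1, M.ac_mul a (h.A_le ha.1) b (h.A_le hb.1), map_add]
      calc M.ac a (M.ac b w) + w = M.ac a (M.ac b w) + w + (M.ac a w + M.ac a w) := by
            rw [M.exp2 (M.ac a w), add_zero]
        _ = _ := by abel
    have hwx2 : M.B w (M.cc x) = 1 := by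
      rw [(h.mirror hα hs).br_comm hw (h.x_fix hα hs)]; exact hwx
    rw [hsum]
    simp only [map_add, M.B_add']
    linear_combination hwx2

theorem mu_indep {w' : V} (hw' : w' ∈ M.fixA α) (hwx' : M.B x (M.cc w') = 1) {a : P36} (ha : a ∈ A0 A) :
    M.B w' (M.cc (M.ac a w' + w')) = M.B w (M.cc (M.ac a w + w)) := by
  have m := h.mirror hα hs
  have hu : w' + w ∈ M.perpC (M.fixA α) x :=
    ⟨(M.fixA α).add_mem hw' hw, by rw [map_add, M.B_add', hwx, hwx', zmod_two_add_self]⟩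
  set u := w' + w with hu'
  have hw'eq : w' = w + u := by rw [hu', add_left_comm, M.exp2, add_zero]
  set δ := M.ac a w + w with hδ
  have hδW := (h.delta_mem hα hs hw hwx ha).1
  have huδ : M.B u (M.cc δ) = M.B δ (M.cc u) := m.br_comm hu.1 hδW
  have hux : M.B u (M.cc x) = 0 := by rw [m.br_comm hu.1 (h.x_fix hα hs)]; exact hu.2
  have hwx2 : M.B w (M.cc x) = 1 := by rw [m.br_comm hw (h.x_fix hα hs)]; exact hwx
  have hrest : M.ac a w' + w' = δ + (M.ac a u + u) := by rw [hw'eq, hδ, map_add]; abel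
  rcases h.delta_act hα hs hw hwx ha hu with ⟨e0, e1⟩ | ⟨e0, e1⟩ <;> rw [← hδ] at e0
  · rw [hrest, e1, M.exp2, add_zero, hw'eq, M.B_add, huδ, e0, add_zero]
  · have : M.ac a u + u = x := by rw [e1, add_comm u x, add_assoc, M.exp2, add_zero]
    rw [hrest, this, hw'eq, map_add, M.B_add, M.B_add', M.B_add', huδ, e0, hux, hwx2, add_zero]
    linear_combination zmod_two_add_self (1 : ZMod 2)

theorem fix_is_commutator {a : P36} (ha : a ∈ A0 A) (h1 : a ≠ 1) {v : V} (hv : M.ac a v = v) :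
    ∃ v', v = M.ac a v' + v' := by
  have m := h.mirror hα hs
  have hd := h.delta_ne hα hs hw hwx ha h1
  -- the fixed points on the fixed space of `α` are commutators
  have key : ∀ t ∈ M.fixA α, M.ac a t = t → ∃ t', t = M.ac a t' + t' := by
    intro t ht hat
    rcases zmod_two_cases (M.B x (M.cc t)) with e | e
    · obtain ⟨u, hu, hux⟩ : ∃ u ∈ M.perpC (M.fixA α) x, M.ac a u = u + x := by
        by_contra hne
        push Not at hne
        refine h1 (h.eq_one_of_perp hα hs ha fun u hu => ?_)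
        exact ((h.delta_act hα hs hw hwx ha hu).resolve_right fun hh => hne u hu hh.2).2
      have hxu : M.ac a u + u = x := by rw [hux, add_comm u x, add_assoc, M.exp2, add_zero]
      rcases M.mem_plane (h.delta_zero hα hs hw hwx ha h1 ⟨ht, e⟩ hat) with e1 | e1 | e1 | e1
      · exact ⟨0, by rw [e1, map_zero, add_zero]⟩
      · exact ⟨u, by rw [e1, hxu]⟩
      · exact ⟨w, e1⟩
      · exact ⟨u + w, by rw [e1, map_add, ← hxu]; abel⟩
    · exact absurd (by rw [hat, M.exp2]) (h.delta_ne hα hs ht e ha h1).1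
  obtain ⟨t, ht, t', ht', rfl, -⟩ := m.decomp v
  have h0 : (M.ac a t + t) + M.cc (M.ac a t' + t') = 0 := by
    rw [map_add] at hv
    rw [map_add, add_add_add_comm, ← h.comm_cc ha.1 (mem_A0.1 ha).2, hv, M.exp2]
  obtain ⟨z1, z2⟩ := m.uniq ((M.fixA α).add_mem (h.A0_conj hα hs ha ht) ht)
    ((M.fixA α).add_mem (h.A0_conj hα hs ha ht') ht') h0
  obtain ⟨p, hp⟩ := key t ht (M.add_eq_zero_iff.1 z1)
  obtain ⟨p', hp'⟩ := key t' ht' (M.add_eq_zero_iff.1 z2)
  refine ⟨p + M.cc p', ?_⟩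
  rw [hp, hp', map_add, map_add, h.comm_cc ha.1 (mem_A0.1 ha).2]
  abel

end Dual

theorem hasT_of_one {v : V} (hv : v ∈ M.fixA α) (hq : M.q v = 1) : HasT M x α := by
  have hq0 : ∀ u ∈ M.perpC (M.fixA α) x, M.q u = 0 := fun u hu => h.E_q u (h.perpC_le hα hs hu)
  have hvx : M.B x (M.cc v) = 1 := zmod_two_one fun e => by
    rw [hq0 v ⟨hv, e⟩] at hq
    exact absurd hq (by decide)
  intro w hw
  rcases h.perp_cases hα hs hv hvx hw with e | e
  · rw [hq0 w e, e.2]
  · have e0 := hq0 _ e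
    rw [(h.mirror hα hs).q_add hw hv, hq] at e0
    have e1 := e.2
    rw [map_add, M.B_add', hvx] at e1
    linear_combination e0 - e1

omit hs in
theorem mul_odd {a : P36} (ha : a ∈ A0 A) (hs : sign α.1 = -1) :
    α * a ∈ A ∧ sign (α * a).1 = -1 :=
  ⟨A.mul_mem hα ha.1, by rw [Prod.fst_mul, (mem_A0.1 ha).2, mul_one]; exact hs⟩

theorem hasT_mul {w : V} (hw : w ∈ M.fixA α) (hwx : M.B x (M.cc w) = 1) (hq : M.q w = 0) {a : P36}
    (ha : a ∈ A0 A) (hμ : M.B w (M.cc (M.ac a w + w)) = 1) : HasT M x (α * a) := by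
  have hd := h.delta_mem hα hs hw hwx ha
  set δ := M.ac a w + w with hδ
  have haw : M.ac a w = w + δ := by rw [hδ, add_left_comm, M.exp2, add_zero]
  refine h.hasT_of_one (h.mul_odd hα ha hs).1 (h.mul_odd hα ha hs).2 (v := w + M.cc δ) ?_ ?_
  · rw [Model.mem_fixA, M.ac_mul α (h.A_le hα) a (h.A_le ha.1), map_add, h.comm_cc ha.1 (mem_A0.1 ha).2,
      hδ, h.delta_fix hα hs hw hwx ha, ← hδ, haw, map_add, map_add, (M.mem_fixA).1 hw,
      (M.mem_fixA).1 hd.1, (h.mirror hα hs).cc_flip, (M.mem_fixA).1 hd.1, (h.mirror hα hs).cc2_eq,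
      add_assoc, ← add_assoc δ, M.exp2, zero_add]
  · rw [M.q_add, M.cc_q, hq, hμ, h.E_q δ (h.perpC_le hα hs hd), zero_add, zero_add]

end Fixed

theorem exists_hasT : ∃ α ∈ A, sign α.1 = -1 ∧ HasT M x α := by
  obtain ⟨α, hα, hs⟩ := h.exists_odd
  obtain ⟨w, hw, hwx⟩ := h.exists_dual hα hs
  rcases zmod_two_cases (M.q w) with hq | hq
  swap
  · exact ⟨α, hα, hs, h.hasT_of_one hα hs hw hq⟩
  obtain ⟨a, ha, b, hb, ha1, hb1, hab⟩ : ∃ a ∈ A0 A, ∃ b ∈ A0 A, a ≠ 1 ∧ b ≠ 1 ∧ a ≠ b := by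
    classical
    by_contra hne
    push Not at hne
    have := Nat.card_le_card_of_injective (fun a : A0 A => decide ((a : P36) = 1)) fun a b e => by
      simp only [decide_eq_decide] at e
      by_cases h1 : (a : P36) = 1
      · exact Subtype.ext (h1.trans (e.1 h1).symm)
      · exact Subtype.ext (hne a a.2 b b.2 h1 fun h2 => h1 (e.2 h2))
    rw [h.card_A0 hα hs, Nat.card_eq_fintype_card, Fintype.card_bool] at this
    omega
  have hμ := h.mu_mul hα hs hw hwx ha hb ha1 hb1 hab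
  obtain ⟨a', ha', hμ'⟩ : ∃ a' ∈ A0 A, M.B w (M.cc (M.ac a' w + w)) = 1 := by
    by_contra hne
    push Not at hne
    have := fun c hc => (zmod_two_cases (M.B w (M.cc (M.ac c w + w)))).resolve_right (hne c hc)
    rw [this a ha, this b hb, this _ ((A0 A).mul_mem ha hb)] at hμ
    exact absurd hμ (by decide)
  exact ⟨α * a', (h.mul_odd hα ha' hs).1, (h.mul_odd hα ha' hs).2, h.hasT_mul hα hs hw hwx hq ha' hμ'⟩

end Pr

end CfsgLib.ExtraNineS3A6
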