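import Cfsg.Agent.Lib.ExtraNineS3A6.Final
import Cfsg.Agent.Lib.Transfer.Basic
import Cfsg.Agent.Lib.PCore.Basic
import Cfsg.Agent.S3300

/-!
No finite non-abelian simple group has an involution centralizer `2^(1+8).(Sym 3 × Sym 6)` or one of
its large subgroups of that shape.
-/

set_option autoImplicit false

namespace CfsgLib.ExtraNineS3A6

open CfsgLib.LargeExtra CfsgLib.Singular39 Equiv.Perm

universe u

theorem pResidual_top {G : Type u} [Group G] [Finite G] [IsSimpleGroup G] (hG : ¬ IsMulCommutative G) :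
    Cfsg.pResidual 2 G = ⊤ := by
  haveI : Fact (Nat.Prime 2) := ⟨Nat.prime_two⟩
  refine (CfsgLib.Transfer.pResidual_normal (G := G) (p := 2)).eq_bot_or_eq_top.resolve_left fun h => hG ?_
  have hp : IsPGroup 2 G :=
    (CfsgLib.Transfer.isPGroup_quotient_of_pResidual_le (⊥ : Subgroup G) h.le).of_equiv QuotientGroup.quotientBot
  haveI := hp.center_nontrivial
  have htop : Subgroup.center G = ⊤ :=
    (inferInstance : (Subgroup.center G).Normal).eq_bot_or_eq_top.resolve_left
      ((Subgroup.nontrivial_iff_ne_bot _).1 inferInstance)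
  exact ⟨⟨fun a b => Subgroup.mem_center_iff.1 (htop ▸ Subgroup.mem_top b) a⟩⟩

/-- the main statement -/
theorem false_of_setting {G : Type u} [Group G] [Finite G] [IsSimpleGroup G] (hG : ¬ IsMulCommutative G)
    (z : G) (hz : orderOf z = 2)
    (hQ : Cfsg.IsExtraspecial 2 ↥(Cfsg.pCore 2 ↥(Subgroup.centralizer ({z} : Set G))))
    (hQ9 : Nat.card ↥(Cfsg.pCore 2 ↥(Subgroup.centralizer ({z} : Set G))) = 2 ^ 9)
    (hCQ : Subgroup.centralizer ((Cfsg.pCore 2 ↥(Subgroup.centralizer ({z} : Set G))) :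
        Set ↥(Subgroup.centralizer ({z} : Set G))) ≤ Cfsg.pCore 2 ↥(Subgroup.centralizer ({z} : Set G)))
    (π : ↥(Subgroup.centralizer ({z} : Set G)) →* P36)
    (hker : π.ker = Cfsg.pCore 2 ↥(Subgroup.centralizer ({z} : Set G)))
    (h36 : ∀ p : P36, sign p.1 = 1 → sign p.2 = 1 → p ∈ π.range)
    (hodd : ∃ p ∈ π.range, sign p.1 = -1) : False := by
  haveI : Fact (Nat.Prime 2) := ⟨Nat.prime_two⟩
  let C := Subgroup.centralizer ({z} : Set G)
  let e := (Cfsg.pCore 2 ↥C).equivMapOfInjective C.subtype C.subtype_injective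
  have hext : Cfsg.IsExtraspecial 2 ↥(qOf z) := isExtraspecial_of_equiv e hQ
  have hzQ : z ∈ qOf z := self_mem_qOf hz
  have hcard : Nat.card ↥(qOf z) = 2 ^ 9 := by rw [← Nat.card_congr e.toEquiv, hQ9]
  have hcent : Subgroup.centralizer (qOf z : Set G) ≤ qOf z := by
    intro c hc
    have hcC : c ∈ C :=
      Subgroup.mem_centralizer_singleton_iff.2 (Subgroup.mem_centralizer_iff.1 hc z hzQ).symm
    refine ⟨⟨c, hcC⟩, hCQ (Subgroup.mem_centralizer_iff.2 fun q hq => Subtype.ext ?_), rfl⟩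
    exact Subgroup.mem_centralizer_iff.1 hc q ⟨q, hq, rfl⟩
  -- the normal subgroup of index two
  let χ : ↥C →* ℤˣ := (Equiv.Perm.sign.comp (MonoidHom.fst S3 S6)).comp π
  obtain ⟨p, ⟨m, hm⟩, hps⟩ := hodd
  have hχ : Function.Surjective χ := by
    intro s
    rcases Int.units_eq_one_or s with h | h
    · exact ⟨1, by rw [map_one, h]⟩
    · exact ⟨m, by rw [h, ← hps, ← hm]; rfl⟩
  have hKi : (χ.ker.map C.subtype).relIndex C = 2 := by
    rw [Subgroup.relIndex, Subgroup.subgroupOf, Subgroup.comap_map_eq_self_of_injective C.subtype_injective,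
      Subgroup.index_ker, MonoidHom.range_eq_top.2 hχ, Subgroup.card_top, Nat.card_eq_fintype_card,
      Fintype.card_units_int]
  obtain ⟨g, hg1, hg2⟩ := Cfsg.Agent.S3300.result (pResidual_top hG) z hz (qOf z) rfl hext hcent 4 (by norm_num)
    (by rw [hcard]) (χ.ker.map C.subtype) (Subgroup.map_subtype_le _) (fun c hc => by
      have hmem : ∀ a : ↥C, a ∈ χ.ker → ∀ b : ↥C, b * a * b⁻¹ ∈ χ.ker := fun a ha b =>
        (inferInstance : χ.ker.Normal).conj_mem a ha b
      ext t
      constructor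
      · rintro ⟨_, ⟨a, ha, rfl⟩, rfl⟩
        exact ⟨_, hmem a ha ⟨c, hc⟩, rfl⟩
      · rintro ⟨a, ha, rfl⟩
        refine ⟨_, ⟨_, hmem a ha ⟨c, hc⟩⁻¹, rfl⟩, ?_⟩
        simp [mul_assoc]) hKi
  obtain ⟨V, hV, ⟨D⟩⟩ := exists_bridge z (Point.of_base hz hext hcent) hcard π hker h36 ⟨p, ⟨m, hm⟩, hps⟩
  exact D.false_of_conj hg1 hg2

/-- the map to `Sym 3 × Sym 6` given by an identification of the quotient -/
theorem setting_of_equiv {M : Type u} [Group M] (N : Subgroup M) [N.Normal] {H : Type*} [Group H]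
    (ι : H →* P36) (hι : Function.Injective ι) (e : M ⧸ N ≃* H) :
    (ι.comp (e.toMonoidHom.comp (QuotientGroup.mk' N))).ker = N ∧
      (ι.comp (e.toMonoidHom.comp (QuotientGroup.mk' N))).range = ι.range := by
  constructor
  · ext m
    rw [MonoidHom.mem_ker, MonoidHom.comp_apply, map_eq_one_iff ι hι]
    exact (map_eq_one_iff e e.injective).trans (QuotientGroup.eq_one_iff m)
  · rw [MonoidHom.range_comp, MonoidHom.range_eq_top.2 (e.surjective.comp (QuotientGroup.mk'_surjective N)),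
      ← MonoidHom.range_eq_map]

end CfsgLib.ExtraNineS3A6
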