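import Cfsg.Agent.Lib.ExtraNineS3A6.Fixed

/-!
An involution inverting the element of order three without fixed points splits the space in two copies
of its fixed space, which carries a symmetric bilinear form.
-/

set_option autoImplicit false

namespace CfsgLib.ExtraNineS3A6

open Equiv Equiv.Perm

theorem zmod_two_cases : ∀ a : ZMod 2, a = 0 ∨ a = 1 := by decide

theorem zmod_two_one {a : ZMod 2} (h : a ≠ 0) : a = 1 := (zmod_two_cases a).resolve_left h

theorem zmod_two_add_self (a : ZMod 2) : a + a = 0 := CharTwo.add_self_eq_zero a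

namespace Model

variable {V : Type*} [AddCommGroup V] (M : Model V)

/-- The fixed points of an element. -/
def fixA (a : P36) : AddSubgroup V where
  carrier := {v | M.ac a v = v}
  add_mem' := fun {u v} hu hv => by
    show M.ac a (u + v) = u + v
    rw [map_add, hu, hv]
  zero_mem' := map_zero _
  neg_mem' := fun {u} hu => by show M.ac a (-u) = -u; rw [map_neg, hu]

theorem mem_fixA {a : P36} {v : V} : v ∈ M.fixA a ↔ M.ac a v = v := Iff.rfl

theorem ac_mul_fix {a b : P36} (ha : a ∈ M.R) (hb : b ∈ M.R) {v : V} (h1 : M.ac a v = v)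
    (h2 : M.ac b v = v) : M.ac (a * b) v = v := by
  rw [M.ac_mul a ha b hb, h2, h1]

theorem fix_inv_mul {a b : P36} (ha : a ∈ M.R) (hb : b ∈ M.R) {v : V} (h : M.ac a v = M.ac b v) :
    M.ac (b⁻¹ * a) v = v := by
  rw [M.ac_mul _ (M.R.inv_mem hb) _ ha, h, M.ac_inv hb]

/-- the commutation of two elements gives invariance of fixed points -/
theorem fixA_inv {a b : P36} (ha : a ∈ M.R) (hb : b ∈ M.R) (h : a * b = b * a) {v : V}
    (hv : M.ac a v = v) : M.ac a (M.ac b v) = M.ac b v := by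
  rw [← M.ac_mul a ha b hb, h, M.ac_mul b hb a ha, hv]

theorem two_mul_le (M : Model V) {S U : AddSubgroup V} (h : S ≤ U) {e : V} (he : e ∈ U) (he' : e ∉ S) :
    2 * Nat.card S ≤ Nat.card U := by
  haveI := M.finite
  obtain ⟨k, hk⟩ := AddSubgroup.card_dvd_of_le h
  have hpos : 0 < Nat.card S := Nat.card_pos
  have hne : Nat.card U ≠ Nat.card S := fun e1 =>
    he' ((AddSubgroup.eq_of_le_of_card_ge h e1.le) ▸ he)
  have : 0 < Nat.card U := Nat.card_pos
  rcases k with _ | _ | k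
  · omega
  · omega
  · rw [hk, mul_comm 2]; exact Nat.mul_le_mul_left _ (by omega)

theorem gen_one (M : Model V) {S U T : AddSubgroup V} (hSU : S ≤ U) (hcard : Nat.card U ≤ 2 * Nat.card S)
    (hST : S ≤ T) {e : V} (he : e ∈ U) (he' : e ∉ S) (heT : e ∈ T) : U ≤ T := by
  haveI := M.finite
  have h1 : 2 * Nat.card S ≤ Nat.card (U ⊓ T : AddSubgroup V) :=
    M.two_mul_le (le_inf hSU hST) ⟨he, heT⟩ he'
  rw [← AddSubgroup.eq_of_le_of_card_ge (inf_le_left : U ⊓ T ≤ U) (hcard.trans h1)]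
  exact inf_le_right

/-- A group moving a subgroup only along a fixed line, and trivially on half of it, has order at most two. -/
theorem card_le_two (M : Model V) (H : Subgroup P36) (hH : H ≤ M.R) (x : V) (S U : AddSubgroup V)
    (hSU : S ≤ U) (hcard : Nat.card U ≤ 2 * Nat.card S)
    (hline : ∀ b ∈ H, ∀ u ∈ U, M.ac b u + u = 0 ∨ M.ac b u + u = x)
    (hfix : ∀ b ∈ H, ∀ s ∈ S, M.ac b s = s)
    (hinj : ∀ b ∈ H, (∀ u ∈ U, M.ac b u = u) → b = 1) : Nat.card H ≤ 2 := by
  classical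
  haveI := M.finite
  by_cases hex : ∃ e ∈ U, e ∉ S
  · obtain ⟨e, he, he'⟩ := hex
    refine le_trans (Nat.card_le_card_of_injective (fun b : H => decide (M.ac b e = e)) ?_)
      (le_of_eq (by rw [Nat.card_eq_fintype_card, Fintype.card_bool]))
    intro a b hab
    simp only [decide_eq_decide] at hab
    have hae : M.ac (a : P36) e = M.ac (b : P36) e := by
      by_cases ha : M.ac (a : P36) e = e
      · rw [ha, hab.1 ha]
      · have h1 := (hline a a.2 e he).resolve_left fun h => ha (M.add_eq_zero_iff.1 h)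
        have h2 := (hline b b.2 e he).resolve_left fun h => ha (hab.2 (M.add_eq_zero_iff.1 h))
        exact add_right_cancel (h1.trans h2.symm)
    have hab' : ((b : P36)⁻¹ * (a : P36)) = 1 := by
      refine hinj _ (H.mul_mem (H.inv_mem b.2) a.2) fun u hu => ?_
      exact M.gen_one (T := M.fixA ((b : P36)⁻¹ * (a : P36))) hSU hcard
        (fun s hs => M.fix_inv_mul (hH a.2) (hH b.2) (by rw [hfix a a.2 s hs, hfix b b.2 s hs])) he he'
        (M.fix_inv_mul (hH a.2) (hH b.2) hae) hu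
    exact Subtype.ext (inv_mul_eq_one.1 hab').symm
  · push Not at hex
    have : ∀ b : H, b = 1 := fun b => Subtype.ext (hinj b b.2 fun u hu => hfix b b.2 u (hex u hu))
    haveI : Subsingleton H := ⟨fun a b => (this a).trans (this b).symm⟩
    exact (Finite.card_le_one_iff_subsingleton.2 inferInstance).trans (by norm_num)

/-- The same with a quarter in place of a half. -/
theorem card_le_four (M : Model V) (H : Subgroup P36) (hH : H ≤ M.R) (x : V) (S U : AddSubgroup V)
    (hSU : S ≤ U) (hcard : Nat.card U ≤ 4 * Nat.card S)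
    (hline : ∀ b ∈ H, ∀ u ∈ U, M.ac b u + u = 0 ∨ M.ac b u + u = x)
    (hfix : ∀ b ∈ H, ∀ s ∈ S, M.ac b s = s)
    (hinj : ∀ b ∈ H, (∀ u ∈ U, M.ac b u = u) → b = 1) : Nat.card H ≤ 4 := by
  classical
  haveI := M.finite
  by_cases hex : ∃ e ∈ U, e ∉ S
  · obtain ⟨e, he, he'⟩ := hex
    let S' := S ⊔ AddSubgroup.zmultiples e
    have hS' : S' ≤ U := sup_le hSU (AddSubgroup.zmultiples_le.2 he)
    have heS' : e ∈ S' := AddSubgroup.mem_sup_right (AddSubgroup.mem_zmultiples e)
    have h2 : 2 * Nat.card S ≤ Nat.card S' := M.two_mul_le (le_sup_left : S ≤ S') heS' he'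
    let H' : Subgroup P36 :=
      { carrier := {b | b ∈ H ∧ M.ac b e = e}
        mul_mem' := fun {a b} ha hb => ⟨H.mul_mem ha.1 hb.1, M.ac_mul_fix (hH ha.1) (hH hb.1) ha.2 hb.2⟩
        one_mem' := ⟨H.one_mem, M.ac_one e⟩
        inv_mem' := fun {a} ha => ⟨H.inv_mem ha.1, M.ac_fix_inv (hH ha.1) ha.2⟩ }
    have h1 : Nat.card H' ≤ 2 := by
      refine M.card_le_two H' (fun b hb => hH hb.1) x S' U hS' (by omega)
        (fun b hb => hline b hb.1) (fun b hb => ?_) fun b hb => hinj b hb.1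
      exact show S' ≤ M.fixA b from sup_le (fun s hs => hfix b hb.1 s hs) (AddSubgroup.zmultiples_le.2 hb.2)
    have key : ∀ a b : H, M.ac (a : P36) e ≠ e → M.ac (b : P36) e ≠ e → (b : P36)⁻¹ * (a : P36) ∈ H' :=
      fun a b ha hb => ⟨H.mul_mem (H.inv_mem b.2) a.2, M.fix_inv_mul (hH a.2) (hH b.2) (add_right_cancel
        (((hline a a.2 e he).resolve_left fun h => ha (M.add_eq_zero_iff.1 h)).trans
          ((hline b b.2 e he).resolve_left fun h => hb (M.add_eq_zero_iff.1 h)).symm))⟩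
    by_cases hall : ∀ b ∈ H, M.ac b e = e
    · have : H ≤ H' := fun b hb => ⟨hb, hall b hb⟩
      have := Subgroup.card_le_of_le this
      omega
    · push Not at hall
      obtain ⟨t, ht, hte⟩ := hall
      have hle : Nat.card H ≤ Nat.card (H' ⊕ H') := by
        refine Nat.card_le_card_of_injective (fun b : H => if hb : M.ac (b : P36) e = e
          then (Sum.inl ⟨b, b.2, hb⟩ : H' ⊕ H') else Sum.inr ⟨_, key b ⟨t, ht⟩ hb hte⟩) ?_
        intro a b hab
        simp only at hab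
        split_ifs at hab with ha hb
        · exact Subtype.ext (congrArg Subtype.val (Sum.inl.inj hab) :)
        · exact Subtype.ext (mul_left_cancel (congrArg Subtype.val (Sum.inr.inj hab) :))
      rw [Nat.card_sum] at hle
      omega
  · push Not at hex
    have : ∀ b : H, b = 1 := fun b => Subtype.ext (hinj b b.2 fun u hu => hfix b b.2 u (hex u hu))
    haveI : Subsingleton H := ⟨fun a b => (this a).trans (this b).symm⟩
    exact (Finite.card_le_one_iff_subsingleton.2 inferInstance).trans (by norm_num)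

end Model

/-- An involution of `R` inverting the element of order three, the latter being fixed point free. -/
structure Mirror {V : Type*} [AddCommGroup V] (M : Model V) (α : P36) : Prop where
  fpf : ∀ v, M.cc v = v → v = 0
  mem : α ∈ M.R
  sq : α * α = 1
  odd : sign α.1 = -1

namespace Mirror

variable {V : Type*} [AddCommGroup V] {M : Model V} {α : P36} (m : Mirror M α)
include m

theorem invol (v : V) : M.ac α (M.ac α v) = v := by
  rw [← M.ac_mul _ m.mem _ m.mem, m.sq, M.ac_one]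

theorem cc_flip (v : V) : M.ac α (M.cc v) = M.cc (M.cc (M.ac α v)) := M.cc_invert_of_odd m.mem m.odd v

theorem cc_flip' (v : V) : M.ac α (M.cc (M.cc v)) = M.cc (M.ac α v) := by
  rw [m.cc_flip, m.cc_flip, M.cc_cube]

theorem sum3 (v : V) : v + M.cc v + M.cc (M.cc v) = 0 := m.fpf _ (M.proj_fixC v)

theorem cc2_eq (v : V) : M.cc (M.cc v) = v + M.cc v :=
  (M.add_eq_zero_iff.1 (m.sum3 v)).symm

theorem B_cc_self (v : V) : M.B v (M.cc v) = M.q v := by
  have h := M.cc_q (M.cc v)
  rw [m.cc2_eq, M.q_add, M.cc_q] at h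
  linear_combination h - zmod_two_add_self (M.q v) + zmod_two_add_self (0 : ZMod 2)

theorem B_cc2 (u v : V) : M.B u (M.cc (M.cc v)) = M.B (M.cc u) v := by
  rw [← M.cc_B u, M.cc_cube]

theorem comm_mem {w : V} (v : V) (hw : w = M.ac α v + v) : w ∈ M.fixA α := by
  rw [Model.mem_fixA, hw, map_add, m.invol, add_comm]

theorem move_cc {w : V} (hw : w ∈ M.fixA α) : M.ac α (M.cc w) + M.cc w = w := by
  rw [m.cc_flip, (M.mem_fixA).1 hw, m.cc2_eq, add_assoc, M.exp2, add_zero]

theorem decomp (v : V) : ∃ w ∈ M.fixA α, ∃ w' ∈ M.fixA α, v = w + M.cc w' ∧ w' = M.ac α v + v := by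
  have hw' := m.comm_mem v rfl
  refine ⟨v + M.cc (M.ac α v + v), ?_, _, hw', ?_, rfl⟩
  · rw [Model.mem_fixA, map_add, m.cc_flip, (M.mem_fixA).1 hw', m.cc2_eq]
    calc M.ac α v + (M.ac α v + v + M.cc (M.ac α v + v))
        = (M.ac α v + M.ac α v) + (v + M.cc (M.ac α v + v)) := by abel
      _ = v + M.cc (M.ac α v + v) := by rw [M.exp2, zero_add]
  · rw [add_assoc, M.exp2, add_zero]

theorem move_sum {w w' : V} (hw : w ∈ M.fixA α) (hw' : w' ∈ M.fixA α) :
    M.ac α (w + M.cc w') + (w + M.cc w') = w' := by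
  rw [map_add, (M.mem_fixA).1 hw]
  calc w + M.ac α (M.cc w') + (w + M.cc w') = (w + w) + (M.ac α (M.cc w') + M.cc w') := by abel
    _ = w' := by rw [M.exp2, zero_add, m.move_cc hw']

theorem uniq {w w' : V} (hw : w ∈ M.fixA α) (hw' : w' ∈ M.fixA α) (h : w + M.cc w' = 0) :
    w = 0 ∧ w' = 0 := by
  have h' := m.move_sum hw hw'
  rw [h, map_zero, add_zero] at h'
  rw [← h', map_zero, add_zero] at h
  exact ⟨h, h'.symm⟩

theorem eq_zero_of_cc {w : V} (hw : w ∈ M.fixA α) (hw' : M.cc w ∈ M.fixA α) : w = 0 :=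
  (m.uniq hw' hw (M.exp2 _)).2

theorem B_W {u v : V} (hu : u ∈ M.fixA α) (hv : v ∈ M.fixA α) : M.B u v = 0 := by
  have h1 : M.B (M.cc (M.cc u)) v = M.B (M.cc u) v := by
    rw [← M.ac_B m.mem, m.cc_flip', (M.mem_fixA).1 hu, (M.mem_fixA).1 hv]
  rw [m.cc2_eq, M.B_add] at h1
  linear_combination h1

theorem br_comm {u v : V} (hu : u ∈ M.fixA α) (hv : v ∈ M.fixA α) :
    M.B u (M.cc v) = M.B v (M.cc u) := by
  conv_rhs => rw [← M.ac_B m.mem, (M.mem_fixA).1 hv, m.cc_flip, (M.mem_fixA).1 hu, m.B_cc2, M.B_comm]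

theorem q_add {u v : V} (hu : u ∈ M.fixA α) (hv : v ∈ M.fixA α) : M.q (u + v) = M.q u + M.q v := by
  rw [M.q_add, m.B_W hu hv, add_zero]

theorem nondeg {u : V} (hu : u ∈ M.fixA α) (h : ∀ w ∈ M.fixA α, M.B u (M.cc w) = 0) : u = 0 := by
  refine M.nondeg u fun v => ?_
  obtain ⟨w, hw, w', hw', rfl, -⟩ := m.decomp v
  rw [M.B_add', m.B_W hu hw, h w' hw', add_zero]

theorem card_fix : Nat.card (M.fixA α) = 16 := by
  haveI := M.finite
  let f : M.fixA α × M.fixA α → V := fun p => (p.1 : V) + M.cc p.2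
  have hb : Function.Bijective f := by
    refine ⟨?_, fun v => ?_⟩
    · rintro ⟨a, a'⟩ ⟨b, b'⟩ e
      have e' : (a : V) + M.cc a' = (b : V) + M.cc b' := e
      have h0 : ((a : V) + b) + M.cc ((a' : V) + b') = 0 := by
        rw [map_add, add_add_add_comm, e', M.exp2]
      obtain ⟨h1, h2⟩ := m.uniq ((M.fixA α).add_mem a.2 b.2) ((M.fixA α).add_mem a'.2 b'.2) h0
      exact Prod.ext (Subtype.ext (M.add_eq_zero_iff.1 h1)) (Subtype.ext (M.add_eq_zero_iff.1 h2))
    · obtain ⟨w, hw, w', hw', e, -⟩ := m.decomp v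
      exact ⟨(⟨w, hw⟩, ⟨w', hw'⟩), e.symm⟩
  have := Nat.card_eq_of_bijective f hb
  rw [Nat.card_prod, M.card] at this
  nlinarith

theorem conj_mem {g : P36} (hg : g ∈ M.R) (hc : g * α = α * g) {w : V} (hw : w ∈ M.fixA α) :
    M.ac g w ∈ M.fixA α := M.fixA_inv m.mem hg hc.symm hw

theorem br_conj {g : P36} (hg : g ∈ M.R) (hc : g * α = α * g) {u v : V} (hu : u ∈ M.fixA α)
    (hv : v ∈ M.fixA α) : M.B (M.ac g u) (M.cc (M.ac g v)) = M.B u (M.cc v) := by
  rcases Int.units_eq_one_or (sign g.1) with h | h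
  · rw [← M.cc_comm_of_even hg h, M.ac_B hg]
  · have e : M.ac g (M.cc (M.cc v)) = M.cc (M.ac g v) := by
      rw [M.cc_invert_of_odd hg h, M.cc_invert_of_odd hg h, M.cc_cube]
    rw [← e, M.ac_B hg, m.B_cc2, M.B_comm, m.br_comm hv hu]

end Mirror

end CfsgLib.ExtraNineS3A6
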