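import Cfsg.Agent.Lib.ExtraNineS3A6.Local

/-!
The orbit of the distinguished vector under the second factor, and its stabilizer.
-/

set_option autoImplicit false

namespace CfsgLib.ExtraNineS3A6

open Equiv Equiv.Perm

abbrev A6 := alternatingGroup (Fin 6)

namespace Model

variable {V : Type*} [AddCommGroup V] (M : Model V)

/-- The action of the even permutations of the second factor. -/
def sixAct : A6 →* Equiv.Perm V :=
  MonoidHom.toHomPerm
    { toFun := fun g v => M.ac (1, (g : S6)) v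
      map_one' := funext fun v => M.ac_one v
      map_mul' := fun a b => funext fun v => by
        show M.ac ((1, (a : S6) * (b : S6)) : P36) v = M.ac (1, (a : S6)) (M.ac (1, (b : S6)) v)
        rw [← M.ac_mul _ (M.six_mem a.2) _ (M.six_mem b.2), Prod.mk_mul_mk, one_mul] }

theorem sixAct_apply (g : A6) (v : V) : M.sixAct g v = M.ac (1, (g : S6)) v := rfl

/-- The stabilizer of a vector among the even permutations of the second factor. -/
def sixStab (v : V) : Subgroup A6 where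
  carrier := {g | M.sixAct g v = v}
  one_mem' := by show M.sixAct 1 v = v; rw [map_one]; rfl
  mul_mem' := fun {a b} ha hb => by
    show M.sixAct (a * b) v = v
    rw [map_mul, Equiv.Perm.mul_apply, hb, ha]
  inv_mem' := fun {a} ha => by
    show M.sixAct a⁻¹ v = v
    rw [map_inv]
    exact (M.sixAct a).injective (by rw [← Equiv.Perm.mul_apply, mul_inv_cancel, Equiv.Perm.one_apply, ha])

theorem mem_sixStab {g : A6} {v : V} : g ∈ M.sixStab v ↔ M.ac (1, (g : S6)) v = v := Iff.rfl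

/-- The orbit of `u` under the even permutations of the second factor. -/
def InOrbit (u v : V) : Prop := ∃ g : A6, M.sixAct g u = v

theorem inOrbit_ac {u v : V} (h : M.InOrbit u v) {π : S6} (hπ : sign π = 1) :
    M.InOrbit u (M.ac (1, π) v) := by
  obtain ⟨g, rfl⟩ := h
  exact ⟨⟨π, hπ⟩ * g, by rw [map_mul]; rfl⟩

theorem inOrbit_of_ac {u v : V} {π : S6} (hπ : sign π = 1) (h : M.InOrbit u (M.ac (1, π) v)) :
    M.InOrbit u v := by
  obtain ⟨g, hg⟩ := h
  refine ⟨(⟨π, hπ⟩ : A6)⁻¹ * g, ?_⟩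
  rw [map_mul, Equiv.Perm.mul_apply, hg, map_inv]
  exact (M.sixAct ⟨π, hπ⟩).symm_apply_apply v

theorem orbit_card (u : V) :
    Nat.card {v : V // M.InOrbit u v} * Nat.card (M.sixStab u) = 360 := by
  letI : MulAction A6 V := MulAction.compHom V M.sixAct
  have h1 : MulAction.stabilizer A6 u = M.sixStab u := Subgroup.ext fun g => Iff.rfl
  have h2 : Nat.card {v : V // M.InOrbit u v} = (MulAction.stabilizer A6 u).index :=
    Nat.card_congr ((Equiv.subtypeEquivRight fun v => Iff.rfl).trans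
      (MulAction.orbitEquivQuotientStabilizer A6 u))
  rw [h2, ← h1, mul_comm, Subgroup.card_mul_index, nat_card_alternatingGroup, Nat.card_fin]
  rfl

/-- An invariant set of vectors is empty or has at least ten elements. -/
theorem five_or_ten (hf : ∀ v, M.ff v = v → v = 0) (P : V → Prop) (h0 : ∀ v, P v → v ≠ 0)
    (hinv : ∀ π : S6, sign π = 1 → ∀ v, P v → P (M.ac (1, π) v)) :
    5 ∣ Nat.card {v : V // P v} ∧ (Nat.card {v : V // P v} = 0 ∨ 5 < Nat.card {v : V // P v}) := by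
  haveI := M.finite
  refine ⟨M.five_dvd (fun v hv => hinv f0.2 f0_sign.2 v hv) fun v hv e => h0 v hv (hf v e), ?_⟩
  rcases isEmpty_or_nonempty {v : V // P v} with he | ⟨⟨v, hv⟩⟩
  · exact Or.inl (Nat.card_eq_zero.2 (Or.inl he))
  · refine Or.inr ?_
    by_contra hle
    push Not at hle
    exact h0 v hv (hf v (M.six_transitive_aux P hle hinv hv))

theorem orbit_ne_zero {u v : V} (hu : u ≠ 0) (h : M.InOrbit u v) : v ≠ 0 := by
  obtain ⟨g, rfl⟩ := h
  exact fun e => hu (M.ac_injective (M.six_mem g.2) (e.trans (map_zero _).symm))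

end Model

namespace Pr

variable {V : Type*} [AddCommGroup V] {M : Model V} {x : V} {E : AddSubgroup V} {A : Subgroup P36}
  (h : Pr M x E A) {α : P36} (hα : α ∈ A) (hs : sign α.1 = -1) (hT : HasT M x α)
include h hα hs hT

theorem fix_of_comm {g : P36} (hg : g ∈ M.R) (hc : g * α = α * g) : M.ac g x = x := by
  have m := h.mirror hα hs
  have hx := h.x_fix hα hs
  refine M.add_eq_zero_iff.1 (m.nondeg ((M.fixA α).add_mem (m.conj_mem hg hc hx) hx) fun w hw => ?_)
  have hg' : g⁻¹ ∈ M.R := M.R.inv_mem hg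
  have hw0 := m.conj_mem hg' (show g⁻¹ * α = α * g⁻¹ from (Commute.inv_left hc).eq) hw
  have e1 := m.br_conj hg hc hx hw0
  rw [M.ac_inv' hg, ← hT _ hw0, M.ac_q _ hg', hT w hw] at e1
  rw [M.B_add, e1, zmod_two_add_self]

/-- the transposition of the first factor shared by the elements inverting the element of order three -/
theorem pure_fix (ht : ((α.1, 1) : P36) ∈ M.R) : M.ac (α.1, 1) x = x :=
  h.fix_of_comm hα hs hT ht (Prod.ext rfl (by simp))

omit hT in
theorem pure_mirror (ht : ((α.1, 1) : P36) ∈ M.R) : Mirror M (α.1, 1) :=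
  ⟨fun _ hv => h.cc_fpf hv, ht, Prod.ext (congrArg Prod.fst (h.A_sq α hα) :) (one_mul 1), hs⟩

theorem orbit_fifteen (ht : ((α.1, 1) : P36) ∈ M.R) :
    (∀ v ∈ M.fixA ((α.1, 1) : P36), v ≠ 0 → M.InOrbit x v) ∧
      Nat.card {v : V // M.InOrbit x v} = 15 := by
  classical
  haveI := M.finite
  have m := h.pure_mirror hα hs ht
  have hx := h.pure_fix hα hs hT ht
  set W := M.fixA ((α.1, 1) : P36) with hW
  have hWinv : ∀ π : S6, sign π = 1 → ∀ v ∈ W, M.ac (1, π) v ∈ W := fun π hπ v hv =>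
    m.conj_mem (M.six_mem hπ) (Prod.ext (by simp) (by simp)) hv
  have horb : ∀ v, M.InOrbit x v → v ∈ W := by
    rintro v ⟨g, rfl⟩
    exact hWinv g g.2 x hx
  let Q : V → Prop := fun v => v ∈ W ∧ v ≠ 0 ∧ ¬ M.InOrbit x v
  have h1 := M.five_or_ten (fun _ hv => h.ff_fpf hv) (M.InOrbit x) (fun v hv => M.orbit_ne_zero h.x_ne hv)
    fun π hπ v hv => M.inOrbit_ac hv hπ
  have h2 := M.five_or_ten (fun _ hv => h.ff_fpf hv) Q (fun v hv => hv.2.1) fun π hπ v hv =>
    ⟨hWinv π hπ v hv.1, fun e => hv.2.1 (M.ac_injective (M.six_mem hπ) (e.trans (map_zero _).symm)),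
      fun e => hv.2.2 (M.inOrbit_of_ac hπ e)⟩
  have hpos : 0 < Nat.card {v : V // M.InOrbit x v} := by
    haveI : Nonempty {v : V // M.InOrbit x v} := ⟨⟨x, 1, by rw [map_one]; rfl⟩⟩
    exact Nat.card_pos
  have hsum : Nat.card {v : V // M.InOrbit x v} + Nat.card {v : V // Q v} =
      Nat.card {v : V // v ∈ W ∧ v ≠ 0} := by
    rw [← Nat.card_sum]
    refine Nat.card_eq_of_bijective
      (Sum.elim (fun v => ⟨v, horb v v.2, M.orbit_ne_zero h.x_ne v.2⟩) fun v => ⟨v, v.2.1, v.2.2.1⟩) ⟨?_, ?_⟩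
    · rintro (a | a) (b | b) e <;> have e' := congrArg Subtype.val e <;>
        simp only [Sum.elim_inl, Sum.elim_inr] at e'
      · exact congrArg _ (Subtype.ext e')
      · exact absurd (e' ▸ a.2) b.2.2.2
      · exact absurd (e' ▸ b.2) a.2.2.2
      · exact congrArg _ (Subtype.ext e')
    · rintro ⟨v, hv, hv0⟩
      by_cases ho : M.InOrbit x v
      · exact ⟨Sum.inl ⟨v, ho⟩, rfl⟩
      · exact ⟨Sum.inr ⟨v, hv, hv0, ho⟩, rfl⟩
  have hn := M.card_nonzero W
  rw [m.card_fix] at hn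
  obtain ⟨k, hk⟩ := h1.1
  obtain ⟨l, hl⟩ := h2.1
  refine ⟨fun v hv hv0 => ?_, by omega⟩
  by_contra hno
  have : 0 < Nat.card {v : V // Q v} := by
    haveI : Nonempty {v : V // Q v} := ⟨⟨v, hv, hv0, hno⟩⟩
    exact Nat.card_pos
  omega

omit hT in
theorem tie (ht : ((α.1, 1) : P36) ∉ M.R) {p : P36} (hp : p ∈ M.R) : sign p.1 = sign p.2 := by
  have aux : ∀ r ∈ M.R, sign r.1 = -1 → sign r.2 = 1 → False := by
    intro r hr h1 h2
    refine ht ?_
    have h3 : ((r.1, 1) : P36) ∈ M.R := by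
      have := M.R.mul_mem hr (M.R.inv_mem (M.six_mem h2))
      rwa [show r * ((1, r.2) : P36)⁻¹ = (r.1, 1) from Prod.ext (by simp) (by simp)] at this
    have h4 : ((α.1 * r.1⁻¹, 1) : P36) ∈ M.R := M.three_six _ (by simp [hs, h1]) (by simp)
    have := M.R.mul_mem h4 h3
    rwa [show ((α.1 * r.1⁻¹, 1) : P36) * (r.1, 1) = (α.1, 1) from
      Prod.ext (by simp [mul_assoc]) (one_mul 1)] at this
  rcases Int.units_eq_one_or (sign p.1) with e1 | e1 <;> rcases Int.units_eq_one_or (sign p.2) with e2 | e2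
  · rw [e1, e2]
  · exfalso
    rcases Int.units_eq_one_or (sign α.2) with e3 | e3
    · exact aux α (h.A_le hα) hs e3
    · exact aux (α * p) (M.R.mul_mem (h.A_le hα) hp)
        (by rw [Prod.fst_mul, map_mul, hs, e1]; rfl) (by rw [Prod.snd_mul, map_mul, e3, e2]; rfl)
  · exact absurd (aux p hp e1 e2) id
  · rw [e1, e2]

theorem stab_tie (ht : ((α.1, 1) : P36) ∉ M.R) :
    Nat.card (M.sixStab x) = 24 ∧ ∀ g : A6, g ∈ M.sixStab x ↔ (g : S6) * α.2 = α.2 * g := by
  classical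
  haveI := M.finite
  have hσ : α.2 * α.2 = 1 := congrArg Prod.snd (h.A_sq α hα)
  have hσs : sign α.2 = -1 := by rw [← h.tie hα hs ht (h.A_le hα)]; exact hs
  let C : Subgroup A6 := (Subgroup.centralizer ({α.2} : Set S6)).comap (alternatingGroup (Fin 6)).subtype
  have hmemC : ∀ g : A6, g ∈ C ↔ (g : S6) * α.2 = α.2 * g := fun g => by
    show (g : S6) ∈ Subgroup.centralizer ({α.2} : Set S6) ↔ _
    rw [Subgroup.mem_centralizer_singleton_iff]
  have hC : Nat.card C = 24 := by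
    rw [← card_centralizer_odd α.2 hσ hσs, ← Fintype.card_subtype, ← Nat.card_eq_fintype_card]
    exact Nat.card_congr
      { toFun := fun g => ⟨((g : A6) : S6), (hmemC g).1 g.2, (g : A6).2⟩
        invFun := fun g => ⟨⟨g.1, g.2.2⟩, (hmemC ⟨g.1, g.2.2⟩).2 g.2.1⟩
        left_inv := fun _ => rfl
        right_inv := fun _ => rfl }
  have hle : C ≤ M.sixStab x := fun g hg => h.fix_of_comm hα hs hT (M.six_mem g.2)
    (Prod.ext (by simp) ((hmemC g).1 hg))
  obtain ⟨k, hk⟩ := Subgroup.card_dvd_of_le hle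
  rw [hC] at hk
  have hoc := M.orbit_card x
  have h1 := M.five_or_ten (fun _ hv => h.ff_fpf hv) (M.InOrbit x) (fun v hv => M.orbit_ne_zero h.x_ne hv)
    fun π hπ v hv => M.inOrbit_ac hv hπ
  have hdvd : Nat.card {v : V // M.InOrbit x v} ∈ Nat.divisors 15 := by
    refine Nat.mem_divisors.2 ⟨⟨k, ?_⟩, by norm_num⟩
    rw [hk] at hoc
    linarith
  rw [show Nat.divisors 15 = {1, 3, 5, 15} by decide] at hdvd
  simp only [Finset.mem_insert, Finset.mem_singleton] at hdvd
  have hpos : 0 < Nat.card {v : V // M.InOrbit x v} := by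
    haveI : Nonempty {v : V // M.InOrbit x v} := ⟨⟨x, 1, by rw [map_one]; rfl⟩⟩
    exact Nat.card_pos
  have h15 : Nat.card {v : V // M.InOrbit x v} = 15 := by omega
  rw [h15] at hoc
  have h24 : Nat.card (M.sixStab x) = 24 := by omega
  refine ⟨h24, fun g => ?_⟩
  rw [← Subgroup.eq_of_le_of_card_ge hle (by omega), hmemC]

theorem stab_card : Nat.card (M.sixStab x) = 24 := by
  by_cases ht : ((α.1, 1) : P36) ∈ M.R
  · have := M.orbit_card x
    rw [(h.orbit_fifteen hα hs hT ht).2] at this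
    omega
  · exact (h.stab_tie hα hs hT ht).1

theorem three_fst {d : P36} (hd : d ∈ M.R) (hd3 : d * d * d = 1) (hdx : M.ac d x = x) : d.1 = 1 := by
  have hd1 : sign d.1 = 1 := sign_of_cube_three _ (congrArg Prod.fst hd3)
  have key : ∀ γ : S3, ((γ, 1) : P36) ∈ M.R → sign γ = 1 → M.ac (γ, 1) x = x → γ = 1 := by
    intro γ hγ hγs hfix
    rcases cases_even_three γ hγs with e | e | e
    · exact e
    · rw [e] at hfix; exact absurd hfix h.cc_x_ne
    · rw [e] at hfix hγ
      have := M.ac_fix_inv hγ hfix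
      rw [show ((((finRotate 3)⁻¹, 1) : P36))⁻¹ = c0 from Prod.ext (inv_inv _) inv_one] at this
      exact absurd this h.cc_x_ne
  by_cases ht : ((α.1, 1) : P36) ∈ M.R
  · by_contra hne
    have hx := h.pure_fix hα hs hT ht
    have h1 : M.ac (d * (α.1, 1) * d⁻¹) x = x := by
      rw [M.ac_mul _ (M.R.mul_mem hd ht) _ (M.R.inv_mem hd), M.ac_mul _ hd _ ht,
        M.ac_fix_inv hd hdx, hx, hdx]
    have heq : d * (α.1, 1) * d⁻¹ = ((d.1 * α.1 * d.1⁻¹, 1) : P36) := Prod.ext rfl (by simp)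
    rw [heq] at h1
    have hmem : ((d.1 * α.1 * d.1⁻¹, 1) : P36) ∈ M.R := heq ▸ M.R.mul_mem (M.R.mul_mem hd ht) (M.R.inv_mem hd)
    have h2 := M.ac_mul_fix hmem ht h1 hx
    rw [Prod.mk_mul_mk, one_mul] at h2
    have h3 := key _ (M.three_six _ (by simp [hd1, hs]) (by simp)) (by simp [hd1, hs]) h2
    have hinv : α.1⁻¹ = α.1 := inv_eq_of_mul_eq_one_right (congrArg Prod.fst (h.A_sq α hα) :)
    exact conj_odd_ne_three α.1 d.1 hs hd1 hne ((mul_eq_one_iff_eq_inv.1 h3).trans hinv)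
  · have hπ : sign d.2 = 1 := sign_of_cube_six _ (congrArg Prod.snd hd3)
    have hst := (h.stab_tie hα hs hT ht).2
    have hσ : α.2 * α.2 = 1 := congrArg Prod.snd (h.A_sq α hα)
    have hσs : sign α.2 = -1 := by rw [← h.tie hα hs ht (h.A_le hα)]; exact hs
    have hc : d.2 * α.2 = α.2 * d.2 := by
      refine self_normalizing_odd α.2 hσ hσs d.2 hπ fun g hg hg1 => ?_
      have hgs : (⟨g, hg1⟩ : A6) ∈ M.sixStab x := (hst _).2 hg
      have hfix : M.ac (d * (1, g) * d⁻¹) x = x := by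
        rw [M.ac_mul _ (M.R.mul_mem hd (M.six_mem hg1)) _ (M.R.inv_mem hd), M.ac_mul _ hd _ (M.six_mem hg1),
          M.ac_fix_inv hd hdx, (M.mem_sixStab).1 hgs, hdx]
      rw [show d * ((1, g) : P36) * d⁻¹ = (1, d.2 * g * d.2⁻¹) from Prod.ext (by simp) rfl] at hfix
      exact (hst ⟨_, show sign (d.2 * g * d.2⁻¹) = 1 by simp [hπ, hg1]⟩).1 hfix
    have hfix : M.ac (1, d.2) x = x := (M.mem_sixStab).1 ((hst ⟨d.2, hπ⟩).2 hc)
    have hd' : d * ((1, d.2) : P36)⁻¹ = (d.1, 1) := Prod.ext (by simp) (by simp)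
    refine key d.1 (hd' ▸ M.R.mul_mem hd (M.R.inv_mem (M.six_mem hπ))) hd1 ?_
    rw [← hd', M.ac_mul _ hd _ (M.R.inv_mem (M.six_mem hπ)), M.ac_fix_inv (M.six_mem hπ) hfix, hdx]

omit hα hs hT in
theorem exists_three : ∃ d ∈ M.R, d * d * d = 1 ∧ d ≠ 1 ∧ M.ac d x = x := by
  obtain ⟨α, hα, hs, hT⟩ := h.exists_hasT
  haveI : Fact (Nat.Prime 3) := ⟨Nat.prime_three⟩
  obtain ⟨g, hg⟩ := exists_prime_orderOf_dvd_card' (G := M.sixStab x) 3
    (by rw [h.stab_card hα hs hT]; norm_num)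
  refine ⟨((1, ((g : A6) : S6)) : P36), M.six_mem (g : A6).2, ?_, fun e => ?_, (M.mem_sixStab).1 g.2⟩
  · have h3 := pow_orderOf_eq_one g
    rw [hg, pow_succ, pow_two] at h3
    exact Prod.ext (by simp) (congrArg (fun t : M.sixStab x => ((t : A6) : S6)) h3)
  · have : g = 1 := Subtype.ext (Subtype.ext (congrArg Prod.snd e))
    rw [this, orderOf_one] at hg
    exact absurd hg (by norm_num)

end Pr

end CfsgLib.ExtraNineS3A6
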