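import Mathlib

/-!
Centralizers of odd involutions in `Alt 6`.
-/

set_option autoImplicit false

namespace CfsgLib.ExtraNineS3A6

open Equiv Equiv.Perm

theorem exists_conj_commute : ∀ σ : Equiv.Perm (Fin 6), σ * σ = 1 → sign σ = -1 →
    ∃ g : Equiv.Perm (Fin 6), g * σ * g⁻¹ * σ = σ * (g * σ * g⁻¹) ∧ g * σ * g⁻¹ ≠ σ ∧ sign g = 1 := by
  decide +kernel

theorem card_centralizer_odd : ∀ σ : Equiv.Perm (Fin 6), σ * σ = 1 → sign σ = -1 →
    (Finset.univ.filter fun g : Equiv.Perm (Fin 6) => g * σ = σ * g ∧ sign g = 1).card = 24 := by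
  decide +kernel

theorem odd_involution_reps : ∀ σ : Equiv.Perm (Fin 6), σ * σ = 1 → sign σ = -1 →
    ∃ h : Equiv.Perm (Fin 6), h * σ * h⁻¹ = swap 0 1 ∨ h * σ * h⁻¹ = swap 0 1 * swap 2 3 * swap 4 5 := by
  decide +kernel

theorem self_normalizing_one : ∀ π : Equiv.Perm (Fin 6), sign π = 1 →
    (∀ g : Equiv.Perm (Fin 6), g * swap 0 1 = swap 0 1 * g → sign g = 1 →
      π * g * π⁻¹ * swap 0 1 = swap 0 1 * (π * g * π⁻¹)) → π * swap 0 1 = swap 0 1 * π := by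
  decide +kernel

theorem self_normalizing_three : ∀ π : Equiv.Perm (Fin 6), sign π = 1 →
    (∀ g : Equiv.Perm (Fin 6), g * (swap 0 1 * swap 2 3 * swap 4 5) = swap 0 1 * swap 2 3 * swap 4 5 * g →
      sign g = 1 → π * g * π⁻¹ * (swap 0 1 * swap 2 3 * swap 4 5) =
        swap 0 1 * swap 2 3 * swap 4 5 * (π * g * π⁻¹)) →
    π * (swap 0 1 * swap 2 3 * swap 4 5) = swap 0 1 * swap 2 3 * swap 4 5 * π := by
  decide +kernel

theorem conj_commute_iff {G : Type*} [Group G] (h a b : G) :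
    h * a * h⁻¹ * (h * b * h⁻¹) = h * b * h⁻¹ * (h * a * h⁻¹) ↔ a * b = b * a := by
  constructor
  · intro e
    calc a * b = h⁻¹ * (h * a * h⁻¹ * (h * b * h⁻¹)) * h := by group
      _ = h⁻¹ * (h * b * h⁻¹ * (h * a * h⁻¹)) * h := by rw [e]
      _ = b * a := by group
  · intro e
    calc h * a * h⁻¹ * (h * b * h⁻¹) = h * (a * b) * h⁻¹ := by group
      _ = h * (b * a) * h⁻¹ := by rw [e]
      _ = h * b * h⁻¹ * (h * a * h⁻¹) := by group

/-- the centralizer in `Alt 6` of an odd involution is self-normalizing -/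
theorem self_normalizing_odd (σ : Equiv.Perm (Fin 6)) (hσ : σ * σ = 1) (hs : sign σ = -1)
    (π : Equiv.Perm (Fin 6)) (hπ : sign π = 1)
    (hn : ∀ g : Equiv.Perm (Fin 6), g * σ = σ * g → sign g = 1 → π * g * π⁻¹ * σ = σ * (π * g * π⁻¹)) :
    π * σ = σ * π := by
  obtain ⟨h, hh⟩ := odd_involution_reps σ hσ hs
  have key : h * π * h⁻¹ * (h * σ * h⁻¹) = h * σ * h⁻¹ * (h * π * h⁻¹) := by
    have hsg : sign (h * π * h⁻¹) = 1 := by
      simp only [map_mul, map_inv, hπ, mul_one, mul_inv_cancel]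
    have hn' : ∀ g : Equiv.Perm (Fin 6), g * (h * σ * h⁻¹) = h * σ * h⁻¹ * g → sign g = 1 →
        h * π * h⁻¹ * g * (h * π * h⁻¹)⁻¹ * (h * σ * h⁻¹) =
          h * σ * h⁻¹ * (h * π * h⁻¹ * g * (h * π * h⁻¹)⁻¹) := by
      intro g hg hg1
      have e1 : h * π * h⁻¹ * g * (h * π * h⁻¹)⁻¹ = h * (π * (h⁻¹ * g * h) * π⁻¹) * h⁻¹ := by group
      rw [e1]
      refine (conj_commute_iff h _ σ).2 (hn _ ((conj_commute_iff h _ σ).1 ?_) ?_)
      · rw [show h * (h⁻¹ * g * h) * h⁻¹ = g by group]; exact hg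
      · simp only [map_mul, map_inv, hg1, mul_one, inv_mul_cancel]
    rcases hh with e | e <;> rw [e] at hn' ⊢
    · exact self_normalizing_one _ hsg hn'
    · exact self_normalizing_three _ hsg hn'
  exact (conj_commute_iff h π σ).1 key

end CfsgLib.ExtraNineS3A6
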