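import Mathlib
import Cfsg.Agent.Lib.ExtraNineS3A6.PermOdd

/-!
Centralizers of even involutions in `Sym 6`.
-/

set_option autoImplicit false

namespace CfsgLib.ExtraNineS3A6

open Equiv Equiv.Perm

theorem even_involution_rep : ∀ a : Equiv.Perm (Fin 6), a * a = 1 → a ≠ 1 → sign a = 1 →
    ∃ h : Equiv.Perm (Fin 6), h * a * h⁻¹ = swap 0 1 * swap 2 3 := by decide +kernel

theorem card_centralizer_even_rep :
    (Finset.univ.filter fun g : Equiv.Perm (Fin 6) =>
      g * (swap 0 1 * swap 2 3) = swap 0 1 * swap 2 3 * g).card = 16 := by decide +kernel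

theorem exists_noninvolution_rep : ∃ g : Equiv.Perm (Fin 6),
    g * (swap 0 1 * swap 2 3) = swap 0 1 * swap 2 3 * g ∧ g * g ≠ 1 := by decide +kernel

theorem no_three_rep : ∀ π : Equiv.Perm (Fin 6),
    π * (swap 0 1 * swap 2 3) = swap 0 1 * swap 2 3 * π → π * π * π = 1 → π = 1 := by decide +kernel

/-- no element of order three commutes with an even involution -/
theorem no_three_commute (π : Equiv.Perm (Fin 6)) (hπ : π * π * π = 1) (a : Equiv.Perm (Fin 6))
    (ha : a * a = 1) (hs : sign a = 1) (h1 : a ≠ 1) (hc : π * a = a * π) : π = 1 := by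
  obtain ⟨h, hh⟩ := even_involution_rep a ha h1 hs
  have := no_three_rep (h * π * h⁻¹) (by rw [← hh]; exact (conj_commute_iff h π a).2 hc)
    (by
      calc h * π * h⁻¹ * (h * π * h⁻¹) * (h * π * h⁻¹) = h * (π * π * π) * h⁻¹ := by group
        _ = 1 := by rw [hπ, mul_one, mul_inv_cancel])
  exact conj_eq_one_iff.1 this

/-- the centralizer of an even involution has order sixteen and is not elementary abelian -/
theorem centralizer_even_involution (a : Equiv.Perm (Fin 6)) (ha : a * a = 1) (hs : sign a = 1)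
    (h1 : a ≠ 1) :
    (Finset.univ.filter fun g : Equiv.Perm (Fin 6) => g * a = a * g).card = 16 ∧
      ∃ g : Equiv.Perm (Fin 6), g * a = a * g ∧ g * g ≠ 1 := by
  obtain ⟨h, hh⟩ := even_involution_rep a ha h1 hs
  constructor
  · rw [← card_centralizer_even_rep]
    refine Finset.card_bij (fun g _ => h * g * h⁻¹) (fun g hg => ?_) (fun g _ g' _ e => ?_) (fun g hg => ?_)
    · simp only [Finset.mem_filter, Finset.mem_univ, true_and] at hg ⊢
      rw [← hh]
      exact (conj_commute_iff h g a).2 hg
    · exact mul_left_cancel (mul_right_cancel e)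
    · simp only [Finset.mem_filter, Finset.mem_univ, true_and] at hg
      refine ⟨h⁻¹ * g * h, ?_, by group⟩
      simp only [Finset.mem_filter, Finset.mem_univ, true_and]
      refine (conj_commute_iff h _ a).1 ?_
      rw [show h * (h⁻¹ * g * h) * h⁻¹ = g by group, hh]
      exact hg
  · obtain ⟨g, hg, hg2⟩ := exists_noninvolution_rep
    refine ⟨h⁻¹ * g * h, (conj_commute_iff h _ a).1 ?_, fun e => hg2 ?_⟩
    · rw [show h * (h⁻¹ * g * h) * h⁻¹ = g by group, hh]
      exact hg
    · calc g * g = h * (h⁻¹ * g * h * (h⁻¹ * g * h)) * h⁻¹ := by group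
        _ = 1 := by rw [e, mul_one, mul_inv_cancel]

end CfsgLib.ExtraNineS3A6
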