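import Mathlib
import Cfsg.Agent.Lib.ExtraNineS3A6.PermCent
import Cfsg.Agent.Lib.ExtraNineS3A6.PermOdd

/-!
Facts about `Sym 3` and `Sym 6` used in the analysis of `2^(1+8).(Sym 3 × Sym 6)`.
-/

set_option autoImplicit false

namespace CfsgLib.ExtraNineS3A6

open Equiv Equiv.Perm

abbrev S3 := Equiv.Perm (Fin 3)
abbrev S6 := Equiv.Perm (Fin 6)

theorem eq_of_commute_three : ∀ a b : S3, a * a = 1 → b * b = 1 → a * b = b * a → a ≠ 1 → b ≠ 1 →
    a = b := by decide +kernel

theorem sign_of_cube_three : ∀ a : S3, a * a * a = 1 → sign a = 1 := by decide +kernel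

theorem cases_even_three : ∀ a : S3, sign a = 1 → a = 1 ∨ a = finRotate 3 ∨ a = (finRotate 3)⁻¹ := by
  decide +kernel

theorem odd_invert_three : ∀ a : S3, sign a = -1 →
    a * a = 1 ∧ a * finRotate 3 * a⁻¹ = (finRotate 3)⁻¹ := by decide +kernel

theorem even_involution_three : ∀ a : S3, sign a = 1 → a * a = 1 → a = 1 := by decide +kernel

theorem conj_odd_ne_three : ∀ a b : S3, sign a = -1 → sign b = 1 → b ≠ 1 → b * a * b⁻¹ ≠ a := by
  decide +kernel

theorem sign_of_cube_six : ∀ a : S6, a * a * a = 1 → sign a = 1 := by decide +kernel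

/-- an elementary abelian `2`-subgroup of `Sym 6` has order at most `8` -/
theorem card_elementary_le {H : Subgroup S6} (hH : ∀ a ∈ H, a * a = 1) : Nat.card H ≤ 8 := by
  classical
  by_contra hlt
  push Not at hlt
  have hcomm : ∀ a ∈ H, ∀ b ∈ H, a * b = b * a := fun a ha b hb => by
    have h1 : ∀ x ∈ H, x⁻¹ = x := fun x hx => inv_eq_of_mul_eq_one_right (hH x hx)
    calc a * b = (a * b)⁻¹ := (h1 _ (H.mul_mem ha hb)).symm
      _ = b * a := by rw [mul_inv_rev, h1 a ha, h1 b hb]
  obtain ⟨a, ha, hs, ha1⟩ : ∃ a ∈ H, sign a = 1 ∧ a ≠ 1 := by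
    by_contra hne
    push Not at hne
    have hinj : Function.Injective (fun a : H => sign (a : S6)) := by
      intro a b hab
      have h1 : sign ((a : S6) * (b : S6)⁻¹) = 1 := by
        simp only [map_mul, map_inv]
        rw [show sign (a : S6) = sign (b : S6) from hab, mul_inv_cancel]
      exact Subtype.ext (mul_inv_eq_one.1 (hne _ (H.mul_mem a.2 (H.inv_mem b.2)) h1))
    have := Nat.card_le_card_of_injective _ hinj
    rw [Nat.card_eq_fintype_card (α := ℤˣ), Fintype.card_units_int] at this
    omega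
  obtain ⟨hc16, g, hg, hg2⟩ := centralizer_even_involution a (hH a ha) hs ha1
  have hsub : (H : Set S6).toFinset ⊆ Finset.univ.filter fun g : S6 => g * a = a * g := by
    intro x hx
    rw [Set.mem_toFinset, SetLike.mem_coe] at hx
    exact Finset.mem_filter.2 ⟨Finset.mem_univ _, hcomm x hx a ha⟩
  have hdvd : Nat.card H ∣ 720 := by
    have := Subgroup.card_subgroup_dvd_card H
    rwa [Nat.card_eq_fintype_card (α := S6), Fintype.card_perm, Fintype.card_fin] at this
  have hp : IsPGroup 2 H := fun x => ⟨1, Subtype.ext (by rw [pow_one, Subgroup.coe_pow, pow_two]; exact hH _ x.2)⟩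
  haveI : Fact (Nat.Prime 2) := ⟨Nat.prime_two⟩
  obtain ⟨k, hk⟩ := IsPGroup.iff_card.1 hp
  have hle : (H : Set S6).toFinset.card ≤ 16 := (Finset.card_le_card hsub).trans_eq hc16
  have hcard : (H : Set S6).toFinset.card = Nat.card H := by
    rw [Set.toFinset_card, Nat.card_eq_fintype_card]; rfl
  have h16 : Nat.card H = 16 := by
    rw [hk] at hlt hcard ⊢
    have h4 : 4 ≤ k := by
      by_contra h5
      have : 2 ^ k ≤ 2 ^ 3 := Nat.pow_le_pow_right (by norm_num) (by omega)
      omega
    have h4' : k ≤ 4 := by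
      by_contra h5
      have : 2 ^ 5 ≤ 2 ^ k := Nat.pow_le_pow_right (by norm_num) (by omega)
      omega
    rw [show k = 4 by omega]; norm_num
  have heq := Finset.eq_of_subset_of_card_le hsub (by rw [hcard, h16]; exact hc16.le)
  have : g ∈ (H : Set S6).toFinset := by
    rw [heq]; exact Finset.mem_filter.2 ⟨Finset.mem_univ _, hg⟩
  rw [Set.mem_toFinset, SetLike.mem_coe] at this
  exact hg2 (hH g this)

/-- `Alt 6` acts trivially on a set with at most five elements -/
theorem hom_perm_trivial {X : Type*} [Fintype X] (hX : Fintype.card X ≤ 5)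
    (φ : alternatingGroup (Fin 6) →* Equiv.Perm X) (g : alternatingGroup (Fin 6)) : φ g = 1 := by
  classical
  haveI := alternatingGroup.isSimpleGroup (α := Fin 6) (by simp)
  rcases φ.normal_ker.eq_bot_or_eq_top with h | h
  · exfalso
    have hinj : Function.Injective φ := (MonoidHom.ker_eq_bot_iff φ).1 h
    have h1 := Nat.card_le_card_of_injective φ hinj
    rw [nat_card_alternatingGroup, Nat.card_fin, Nat.card_eq_fintype_card, Fintype.card_perm] at h1
    have h2 : (Fintype.card X).factorial ≤ 120 := by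
      calc (Fintype.card X).factorial ≤ Nat.factorial 5 := Nat.factorial_le hX
        _ = 120 := rfl
    norm_num [Nat.factorial] at h1
    omega
  · have : g ∈ φ.ker := by rw [h]; exact Subgroup.mem_top g
    exact this

/-- a normal subgroup of `Alt 6` with a non-trivial element is the whole group -/
theorem normal_six {N : Subgroup (alternatingGroup (Fin 6))} (hN : N.Normal) {a : alternatingGroup (Fin 6)}
    (ha : a ∈ N) (h1 : a ≠ 1) : N = ⊤ := by
  haveI := alternatingGroup.isSimpleGroup (α := Fin 6) (by simp)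
  exact hN.eq_bot_or_eq_top.resolve_left fun h => h1 (Subgroup.mem_bot.1 (h ▸ ha))

end CfsgLib.ExtraNineS3A6
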