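import Cfsg.Agent.Lib.ExtraNineS3A6.Bridge
import Cfsg.Agent.Lib.ExtraNineS3A6.Local

/-!
A conjugate of the involution inside the core gives a pair `(E, A)` in the model.
-/

set_option autoImplicit false

namespace CfsgLib.ExtraNineS3A6

open CfsgLib.LargeExtra CfsgLib.Singular39

universe u

theorem comm_conj {G : Type*} [Group G] {g a b : G} (h : a * b = b * a) :
    g * a * g⁻¹ * (g * b * g⁻¹) = g * b * g⁻¹ * (g * a * g⁻¹) := by
  calc g * a * g⁻¹ * (g * b * g⁻¹) = g * (a * b) * g⁻¹ := by group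
    _ = g * (b * a) * g⁻¹ := by rw [h]
    _ = _ := by group

theorem comm_conj' {G : Type*} [Group G] {g a b : G} (h : a * b = b * a) :
    g⁻¹ * a * g * (g⁻¹ * b * g) = g⁻¹ * b * g * (g⁻¹ * a * g) := by
  simpa using comm_conj (g := g⁻¹) h

theorem mem_qOf_conj {G : Type*} [Group G] [Finite G] {g z a : G} (ha : a ∈ qOf z) :
    g * a * g⁻¹ ∈ qOf (g * z * g⁻¹) := by
  rw [qOf_conj]; exact ⟨a, ha, rfl⟩

theorem mem_qOf_conj' {G : Type*} [Group G] [Finite G] {g z a : G} (ha : a ∈ qOf (g * z * g⁻¹)) :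
    g⁻¹ * a * g ∈ qOf z := by
  rw [qOf_conj] at ha
  obtain ⟨b, hb, rfl⟩ := ha
  simpa [mul_assoc] using hb

variable {G : Type u} [Group G] [Finite G] {z : G} {V : Type u} [AddCommGroup V] (D : Bridge z V)

namespace Bridge

include D

/-- The image of `O₂(C(z)) ∩ O₂(C(x))`. -/
def EE (x : G) : AddSubgroup V where
  carrier := {v | ∃ a ∈ qOf z, a ∈ qOf x ∧ D.vq a = v}
  add_mem' := by
    rintro _ _ ⟨a, ha, ha', rfl⟩ ⟨b, hb, hb', rfl⟩
    exact ⟨a * b, mul_mem ha hb, mul_mem ha' hb', D.vq_mul a ha b hb⟩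
  zero_mem' := ⟨1, one_mem _, one_mem _, (D.vq_zero 1 (one_mem _)).2 (Or.inl rfl)⟩
  neg_mem' := by
    rintro _ ⟨a, ha, ha', rfl⟩
    exact ⟨a, ha, ha', (D.M.neg_eq _).symm⟩

/-- The image of the centralizer of `z` in `O₂(C(x))`. -/
def AA (x : G) : Subgroup P36 where
  carrier := {p | ∃ w ∈ qOf x, w * z = z * w ∧ D.pi w = p}
  mul_mem' := by
    rintro _ _ ⟨a, ha, ha', rfl⟩ ⟨b, hb, hb', rfl⟩
    exact ⟨a * b, mul_mem ha hb, (Commute.mul_left (show Commute a z from ha') hb').eq, D.pi_mul a b ha' hb'⟩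
  one_mem' := ⟨1, one_mem _, by simp, (D.pi_ker 1 (by simp)).2 (one_mem _)⟩
  inv_mem' := by
    rintro _ ⟨a, ha, ha', rfl⟩
    have hz' : a⁻¹ * z = z * a⁻¹ := (Commute.inv_left (show Commute a z from ha')).eq
    refine ⟨a⁻¹, inv_mem ha, hz', eq_inv_of_mul_eq_one_left ?_⟩
    rw [← D.pi_mul _ _ hz' ha', inv_mul_cancel]
    exact (D.pi_ker 1 (by simp)).2 (one_mem _)

theorem vq_one : D.vq 1 = 0 := (D.vq_zero 1 (one_mem _)).2 (Or.inl rfl)

theorem vq_z : D.vq z = 0 := (D.vq_zero z D.point.z_mem).2 (Or.inr rfl)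

theorem vq_inv {a : G} (ha : a ∈ qOf z) : D.vq a⁻¹ = D.vq a := by
  refine D.M.add_eq_zero_iff.1 ?_
  rw [← D.vq_mul _ (inv_mem ha) a ha, inv_mul_cancel, D.vq_one]

theorem vq_eq {a b : G} (ha : a ∈ qOf z) (hb : b ∈ qOf z) (e : D.vq a = D.vq b) : a = b ∨ a = z * b := by
  have h0 : D.vq (a * b⁻¹) = 0 := by rw [D.vq_mul a ha _ (inv_mem hb), D.vq_inv hb, e, D.M.exp2]
  rcases (D.vq_zero _ (mul_mem ha (inv_mem hb))).1 h0 with e1 | e1
  · exact Or.inl (mul_inv_eq_one.1 e1)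
  · exact Or.inr (mul_inv_eq_iff_eq_mul.1 e1)

theorem pi_inv {a : G} (ha : a * z = z * a) : D.pi a⁻¹ = (D.pi a)⁻¹ := by
  have hz' : a⁻¹ * z = z * a⁻¹ := (Commute.inv_left (show Commute a z from ha)).eq
  refine eq_inv_of_mul_eq_one_left ?_
  rw [← D.pi_mul _ _ hz' ha, inv_mul_cancel]
  exact (D.pi_ker 1 (by simp)).2 (one_mem _)

theorem comm_z {a : G} (ha : a ∈ qOf z) : a * z = z * a := D.point.comm_z ha

theorem pi_pow {a : G} (ha : a * z = z * a) (n : ℕ) : D.pi (a ^ n) = D.pi a ^ n := by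
  induction n with
  | zero => rw [pow_zero, pow_zero]; exact (D.pi_ker 1 (by simp)).2 (one_mem _)
  | succ k ih =>
    rw [pow_succ, pow_succ, D.pi_mul _ _ ((show Commute a z from ha).pow_left k).eq ha, ih]

theorem z_mem_point {g : G} (hx : g * z * g⁻¹ ∈ qOf z) : z ∈ qOf (g * z * g⁻¹) := D.point.symm hx

/-- the two points share their lifts -/
theorem mem_of_vq {g : G} (hx : g * z * g⁻¹ ∈ qOf z) {a : G} (ha : a ∈ qOf z)
    (hv : D.vq a ∈ D.EE (g * z * g⁻¹)) : a ∈ qOf (g * z * g⁻¹) := by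
  obtain ⟨b, hb, hb', e⟩ := hv
  rcases D.vq_eq ha hb e.symm with e1 | e1 <;> rw [e1]
  · exact hb'
  · exact mul_mem (D.z_mem_point hx) hb'

variable {g : G} (hx : g * z * g⁻¹ ∈ qOf z) (hne : g * z * g⁻¹ ≠ z)
include hx hne

theorem vx_ne : D.vq (g * z * g⁻¹) ≠ 0 := fun e =>
  ((D.vq_zero _ hx).1 e).elim (fun e1 => D.point.ne_one (conj_eq_one_iff.1 e1)) hne

/-- an element moved by `z` and by `x` only is fixed -/
theorem eq_of_cases {t b : G} (h1 : t = b ∨ t = z * b) (h2 : t = b ∨ t = g * z * g⁻¹ * b) : t = b := by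
  rcases h1 with e | e
  · exact e
  · rcases h2 with e' | e'
    · exact e'
    · exact absurd (mul_right_cancel (e'.symm.trans e)) hne

theorem inter_comm {a b : G} (ha : a ∈ qOf z) (ha' : a ∈ qOf (g * z * g⁻¹)) (hb : b ∈ qOf z)
    (hb' : b ∈ qOf (g * z * g⁻¹)) : a * b = b * a :=
  mul_inv_eq_iff_eq_mul.1
    (D.eq_of_cases hx hne (D.point.conj_cases ha hb) ((D.point.conj g).conj_cases ha' hb'))

theorem exists_cent_lift {p : P36} (hp : p ∈ D.M.R)
    (hfix : D.M.ac p (D.vq (g * z * g⁻¹)) = D.vq (g * z * g⁻¹)) :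
    ∃ m : G, m * z = z * m ∧ m * (g * z * g⁻¹) = g * z * g⁻¹ * m ∧ D.pi m = p := by
  obtain ⟨m, hm, rfl⟩ := D.pi_surj p hp
  rw [D.ac_eq m hm _ hx] at hfix
  rcases D.vq_eq (conj_mem_qOf hm hx) hx hfix with e | e
  · exact ⟨m, hm, mul_inv_eq_iff_eq_mul.1 e, rfl⟩
  · obtain ⟨y, hy, hys⟩ := D.point.exists_conj_eq hx (fun e1 => D.point.ne_one (conj_eq_one_iff.1 e1)) hne
    have hyz := D.comm_z hy
    refine ⟨y * m, (Commute.mul_left (show Commute y z from hyz) hm).eq, mul_inv_eq_iff_eq_mul.1 ?_, ?_⟩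
    · calc y * m * (g * z * g⁻¹) * (y * m)⁻¹ = y * (m * (g * z * g⁻¹) * m⁻¹) * y⁻¹ := by group
        _ = (y * z) * (g * z * g⁻¹) * y⁻¹ := by rw [e]; group
        _ = z * (y * (g * z * g⁻¹) * y⁻¹) := by rw [hyz]; group
        _ = g * z * g⁻¹ := by rw [hys, ← mul_assoc, D.point.sq_one, one_mul]
    · rw [D.pi_mul y m hyz hm, (D.pi_ker y hyz).2 hy, one_mul]

theorem card_split : Nat.card ↥(qOf z ⊓ qOf (g * z * g⁻¹)) = 2 * Nat.card (D.EE (g * z * g⁻¹)) := by
  classical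
  haveI := D.M.finite
  set S := qOf z ⊓ qOf (g * z * g⁻¹) with hS
  let φ : S →* Multiplicative V := MonoidHom.mk' (fun a => Multiplicative.ofAdd (D.vq (a : G)))
    fun a b => congrArg Multiplicative.ofAdd (D.vq_mul a a.2.1 b b.2.1)
  have h1 := φ.ker.card_mul_index
  rw [Subgroup.index_ker] at h1
  have h2 : Nat.card φ.range = Nat.card (D.EE (g * z * g⁻¹)) := Nat.card_congr
    { toFun := fun v => ⟨Multiplicative.toAdd v.1, by
        obtain ⟨a, ha⟩ := v.2
        exact ⟨a, a.2.1, a.2.2, by rw [← ha]; rfl⟩⟩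
      invFun := fun v => ⟨Multiplicative.ofAdd v.1, by
        obtain ⟨a, ha, ha', e⟩ := v.2
        exact ⟨⟨a, ha, ha'⟩, congrArg Multiplicative.ofAdd e⟩⟩
      left_inv := fun _ => rfl
      right_inv := fun _ => rfl }
  have h3 : Nat.card φ.ker = 2 := by
    rw [← show Nat.card (Fin 2) = 2 from Nat.card_fin 2]
    refine (Nat.card_eq_of_bijective (fun i : Fin 2 => if i = 0 then (1 : φ.ker) else
      ⟨⟨z, D.point.z_mem, D.z_mem_point hx⟩, MonoidHom.mem_ker.2 (congrArg Multiplicative.ofAdd D.vq_z)⟩)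
      ⟨?_, ?_⟩).symm
    · intro i j e
      have e' := congrArg (fun a : φ.ker => ((a : S) : G)) e
      fin_cases i <;> fin_cases j <;> simp [D.point.ne_one, Ne.symm D.point.ne_one] at e' ⊢
    · intro a
      have e : D.vq ((a : S) : G) = 0 := Multiplicative.ofAdd.injective (MonoidHom.mem_ker.1 a.2)
      rcases (D.vq_zero _ (a : S).2.1).1 e with e1 | e1
      · exact ⟨0, Subtype.ext (Subtype.ext (by simpa using e1.symm))⟩
      · exact ⟨1, Subtype.ext (Subtype.ext (by simpa using e1.symm))⟩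
  rw [← h1, h2, h3]

theorem card_cent : Nat.card ↥(qOf (g * z * g⁻¹) ⊓ Subgroup.centralizer ({z} : Set G)) = 2 ^ 8 := by
  classical
  have hW := (D.point.conj g)
  set W := qOf (g * z * g⁻¹) with hWdef
  set T := W ⊓ Subgroup.centralizer ({z} : Set G) with hT
  have hz : z ∈ W := D.z_mem_point hx
  have hcW : Nat.card W = 2 ^ 9 := by
    rw [hWdef, qOf_conj, Subgroup.card_map_of_injective (MulAut.conj g).injective, D.card_Q]
  obtain ⟨y, hy, hys⟩ := hW.exists_conj_eq hz D.point.ne_one (fun e => hne e.symm)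
  have hsurj : Function.Surjective (fun p : T × Fin 2 =>
      (⟨(if p.2 = 0 then 1 else y) * (p.1 : G), mul_mem (by split_ifs; exacts [one_mem _, hy]) p.1.2.1⟩ : W)) := by
    intro w
    rcases hW.split_conj hz hy hys w.2 with e | e
    · exact ⟨(⟨w, w.2, Subgroup.mem_centralizer_singleton_iff.2 e⟩, 0), Subtype.ext (by simp)⟩
    · exact ⟨(⟨y⁻¹ * w, W.mul_mem (W.inv_mem hy) w.2, Subgroup.mem_centralizer_singleton_iff.2 e⟩, 1),
        Subtype.ext (by simp)⟩
  have hle := Nat.card_le_card_of_surjective _ hsurj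
  rw [Nat.card_prod, Nat.card_fin, hcW] at hle
  obtain ⟨k, hk⟩ := Subgroup.card_dvd_of_le (inf_le_left : T ≤ W)
  rw [hcW] at hk
  have hneq : Nat.card T ≠ 2 ^ 9 := fun e => by
    have hle' : W ≤ T := (Subgroup.eq_of_le_of_card_ge (inf_le_left : T ≤ W) (by rw [e, hcW])).ge
    have hy' : y ∈ T := hle' hy
    have hyz := Subgroup.mem_centralizer_singleton_iff.1 hy'.2
    rw [hyz, mul_inv_cancel_right] at hys
    exact D.point.ne_one (conj_eq_one_iff.1 (right_eq_mul.1 hys))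
  obtain ⟨j, hj, ej⟩ := (Nat.dvd_prime_pow Nat.prime_two).1 (⟨k, hk⟩ : Nat.card T ∣ 2 ^ 9)
  rw [ej] at hle hneq ⊢
  interval_cases j <;> omega

theorem card_pair : Nat.card (D.EE (g * z * g⁻¹)) * Nat.card (D.AA (g * z * g⁻¹)) = 2 ^ 7 := by
  classical
  set T := qOf (g * z * g⁻¹) ⊓ Subgroup.centralizer ({z} : Set G) with hT
  have hTz : ∀ a : T, (a : G) * z = z * a := fun a => Subgroup.mem_centralizer_singleton_iff.1 a.2.2
  let φ : T →* P36 := MonoidHom.mk' (fun a => D.pi (a : G)) fun a b => D.pi_mul a b (hTz a) (hTz b)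
  have h1 := φ.ker.card_mul_index
  rw [Subgroup.index_ker, D.card_cent hx hne] at h1
  have h2 : Nat.card φ.range = Nat.card (D.AA (g * z * g⁻¹)) := Nat.card_congr (Equiv.subtypeEquivRight fun p =>
    ⟨fun ⟨a, ha⟩ => ⟨a, a.2.1, hTz a, ha⟩,
      fun ⟨w, hw, hwz, e⟩ => ⟨⟨w, hw, Subgroup.mem_centralizer_singleton_iff.2 hwz⟩, e⟩⟩)
  have h3 : Nat.card φ.ker = Nat.card ↥(qOf z ⊓ qOf (g * z * g⁻¹)) := Nat.card_congr
    { toFun := fun a => ⟨((a : T) : G), (D.pi_ker _ (hTz a)).1 (MonoidHom.mem_ker.1 a.2), (a : T).2.1⟩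
      invFun := fun a => ⟨⟨(a : G), a.2.2, Subgroup.mem_centralizer_singleton_iff.2 (D.comm_z a.2.1)⟩,
        MonoidHom.mem_ker.2 ((D.pi_ker _ (D.comm_z a.2.1)).2 a.2.1)⟩
      left_inv := fun _ => rfl
      right_inv := fun _ => rfl }
  rw [h2, h3, D.card_split hx hne] at h1
  linarith

theorem pr : Pr D.M (D.vq (g * z * g⁻¹)) (D.EE (g * z * g⁻¹)) (D.AA (g * z * g⁻¹)) := by
  haveI := D.M.finite
  have hW := D.point.conj g
  have hzW := D.z_mem_point hx
  have sqE : ∀ a ∈ qOf z, a ∈ qOf (g * z * g⁻¹) → a * a = 1 := fun a ha ha' => by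
    have := D.eq_of_cases (t := a * a) (b := 1) hx hne (by simpa using D.point.sq_cases ha)
      (by simpa using hW.sq_cases ha')
    exact this
  refine
    { x_ne := D.vx_ne hx hne
      x_mem := ⟨_, hx, hW.z_mem, rfl⟩
      E_q := ?_
      A_le := ?_
      A_sq := ?_
      A_fix := ?_
      E_comm := ?_
      perp := ?_
      card_eq := D.card_pair hx hne
      inj := ?_
      stab_A := ?_
      stab_E := ?_ }
  · rintro _ ⟨a, ha, ha', rfl⟩
    exact (D.q_eq a ha).2 (sqE a ha ha')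
  · rintro _ ⟨w, -, hw, rfl⟩
    exact D.pi_mem w hw
  · rintro _ ⟨w, hw, hwz, rfl⟩
    rw [← D.pi_mul w w hwz hwz, D.pi_ker _ ((Commute.mul_left (show Commute w z from hwz) hwz).eq)]
    rcases hW.sq_cases hw with e | e <;> rw [e]
    · exact one_mem _
    · exact hx
  · rintro _ ⟨w, hw, hwz, rfl⟩
    rw [D.ac_eq w hwz _ hx, hW.comm_z hw, mul_inv_cancel_right]
  · rintro _ ⟨w, hw, hwz, rfl⟩ _ ⟨a, ha, ha', rfl⟩
    rw [D.ac_eq w hwz a ha]
    rcases hW.conj_cases hw ha' with e | e <;> rw [e]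
    · exact Or.inl (D.M.exp2 _)
    · right
      rw [D.vq_mul _ hx a ha, add_assoc, D.M.exp2, add_zero]
  · rintro _ ⟨w, hw, hwz, rfl⟩ v hv
    obtain ⟨a, ha, rfl⟩ := D.vq_surj v
    have hax := (D.B_eq _ hx a ha).1 hv
    refine ⟨w * a * w⁻¹ * a⁻¹, mul_mem (conj_mem_qOf hwz ha) (inv_mem ha), ?_, ?_⟩
    · rw [show w * a * w⁻¹ * a⁻¹ = w * (a * w⁻¹ * a⁻¹) by group]
      exact mul_mem hw (conj_mem_qOf hax.symm (inv_mem hw))
    · rw [D.vq_mul _ (conj_mem_qOf hwz ha) _ (inv_mem ha), D.vq_inv ha, D.ac_eq w hwz a ha]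
  · -- an element of `C(z) ∩ O₂(C(x))` centralizing the intersection lies in it
    intro h16
    rintro _ ⟨w, hw, hwz, rfl⟩ hfix
    refine (D.pi_ker w hwz).2 ?_
    have hcomm : ∀ e ∈ qOf z, e ∈ qOf (g * z * g⁻¹) → w * e = e * w := fun e he he' => by
      have e1 := hfix (D.vq e) ⟨e, he, he', rfl⟩
      rw [D.ac_eq w hwz e he] at e1
      exact mul_inv_eq_iff_eq_mul.1
        (D.eq_of_cases hx hne (D.vq_eq (conj_mem_qOf hwz he) he e1) (hW.conj_cases hw he'))
    -- transport to the core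
    let U : AddSubgroup V :=
      { carrier := {v | ∃ e ∈ qOf z, e ∈ qOf (g * z * g⁻¹) ∧ D.vq (g⁻¹ * e * g) = v}
        add_mem' := by
          rintro _ _ ⟨a, ha, ha', rfl⟩ ⟨b, hb, hb', rfl⟩
          refine ⟨a * b, mul_mem ha hb, mul_mem ha' hb', ?_⟩
          rw [← D.vq_mul _ (mem_qOf_conj' ha') _ (mem_qOf_conj' hb')]
          congr 1; group
        zero_mem' := ⟨1, one_mem _, one_mem _, by rw [mul_one, inv_mul_cancel, D.vq_one]⟩
        neg_mem' := by
          rintro _ ⟨a, ha, ha', rfl⟩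
          exact ⟨a, ha, ha', (D.M.neg_eq _).symm⟩ }
    let S := qOf z ⊓ qOf (g * z * g⁻¹)
    let φ : S →* Multiplicative V := MonoidHom.mk' (fun a => Multiplicative.ofAdd (D.vq (g⁻¹ * a * g))) fun a b => by
      show Multiplicative.ofAdd _ = Multiplicative.ofAdd _ * Multiplicative.ofAdd _
      rw [← ofAdd_add, ← D.vq_mul _ (mem_qOf_conj' a.2.2) _ (mem_qOf_conj' b.2.2)]
      congr 2
      show g⁻¹ * ((a : G) * b) * g = _
      group
    have h1 := φ.ker.card_mul_index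
    rw [Subgroup.index_ker] at h1
    have h2 : Nat.card φ.range = Nat.card U := Nat.card_congr
      { toFun := fun v => ⟨Multiplicative.toAdd v.1, by
          obtain ⟨a, ha⟩ := v.2
          exact ⟨a, a.2.1, a.2.2, by rw [← ha]; rfl⟩⟩
        invFun := fun v => ⟨Multiplicative.ofAdd v.1, by
          obtain ⟨a, ha, ha', e⟩ := v.2
          exact ⟨⟨a, ha, ha'⟩, congrArg Multiplicative.ofAdd e⟩⟩
        left_inv := fun _ => rfl
        right_inv := fun _ => rfl }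
    have h3 : Nat.card φ.ker ≤ 2 := by
      rw [← show Nat.card (Fin 2) = 2 from Nat.card_fin 2]
      refine Nat.card_le_card_of_surjective (fun i : Fin 2 => if i = 0 then (1 : φ.ker) else
        ⟨⟨g * z * g⁻¹, hx, hW.z_mem⟩, MonoidHom.mem_ker.2 (congrArg Multiplicative.ofAdd (by
          show D.vq (g⁻¹ * (g * z * g⁻¹) * g) = 0
          rw [show g⁻¹ * (g * z * g⁻¹) * g = z by group, D.vq_z]))⟩) fun a => ?_
      have e : D.vq (g⁻¹ * ((a : S) : G) * g) = 0 := Multiplicative.ofAdd.injective (MonoidHom.mem_ker.1 a.2)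
      rcases (D.vq_zero _ (mem_qOf_conj' (a : S).2.2)).1 e with e1 | e1
      · refine ⟨0, Subtype.ext (Subtype.ext ?_)⟩
        have : ((a : S) : G) = 1 := by
          calc ((a : S) : G) = g * (g⁻¹ * ((a : S) : G) * g) * g⁻¹ := by group
            _ = 1 := by rw [e1]; group
        simpa using this.symm
      · refine ⟨1, Subtype.ext (Subtype.ext ?_)⟩
        have : ((a : S) : G) = g * z * g⁻¹ := by
          calc ((a : S) : G) = g * (g⁻¹ * ((a : S) : G) * g) * g⁻¹ := by group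
            _ = g * z * g⁻¹ := by rw [e1]
        simpa using this.symm
    rw [D.card_split hx hne, h16, h2] at h1
    have hperp := D.M.card_perp U
    let ι : U → {v : V // ∀ u ∈ U, D.M.B v u = 0} := fun v => ⟨v, fun u hu => by
      obtain ⟨a, ha, ha', e⟩ := v.2
      obtain ⟨b, hb, hb', rfl⟩ := hu
      rw [← e, D.B_eq _ (mem_qOf_conj' ha') _ (mem_qOf_conj' hb')]
      exact comm_conj' (D.inter_comm hx hne ha ha' hb hb')⟩
    have hinj : Function.Injective ι := fun a b e => Subtype.ext (Subtype.mk.inj e)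
    have hU16 : 16 ≤ Nat.card U := by nlinarith
    have hb' : Function.Bijective ι :=
      (Nat.bijective_iff_injective_and_card ι).2 ⟨hinj, by
        have := Nat.card_le_card_of_injective ι hinj
        nlinarith⟩
    obtain ⟨v, hv⟩ := hb'.2 ⟨D.vq (g⁻¹ * w * g), fun u hu => by
      obtain ⟨b, hb, hb', rfl⟩ := hu
      rw [D.B_eq _ (mem_qOf_conj' hw) _ (mem_qOf_conj' hb')]
      exact comm_conj' (hcomm b hb hb')⟩
    obtain ⟨e, he, he', ev⟩ := v.2
    rcases D.vq_eq (mem_qOf_conj' hw) (mem_qOf_conj' he') ((congrArg Subtype.val hv).symm.trans ev.symm) with e1 | e1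
    · have : w = e := mul_left_cancel (a := g⁻¹) (mul_right_cancel e1)
      rw [this]; exact he
    · have : w = g * z * g⁻¹ * e := by
        calc w = g * (g⁻¹ * w * g) * g⁻¹ := by group
          _ = g * z * g⁻¹ * e := by rw [e1]; group
      rw [this]; exact mul_mem hx he
  · intro s hs hfix _ ha
    obtain ⟨w, hw, hwz, rfl⟩ := ha
    obtain ⟨m, hm, hmx, rfl⟩ := D.exists_cent_lift hx hne hs hfix
    refine ⟨m * w * m⁻¹, conj_mem_qOf hmx hw,
      ((Commute.mul_left (show Commute m z from hm) hwz).mul_left (Commute.inv_left hm)).eq, ?_⟩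
    rw [D.pi_mul _ _ ((Commute.mul_left (show Commute m z from hm) hwz).eq) (Commute.inv_left hm).eq,
      D.pi_mul m w hm hwz, D.pi_inv hm]
  · intro s hs hfix _ he
    obtain ⟨a, ha, ha', rfl⟩ := he
    obtain ⟨m, hm, hmx, rfl⟩ := D.exists_cent_lift hx hne hs hfix
    exact ⟨m * a * m⁻¹, conj_mem_qOf hm ha, conj_mem_qOf hmx ha', (D.ac_eq m hm a ha).symm⟩

end Bridge

end CfsgLib.ExtraNineS3A6
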