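import Cfsg.Agent.Lib.ExtraNineS3A6.Perm

/-!
An eight-dimensional quadratic space over `F₂` with a faithful action of a subgroup of `Sym 3 × Sym 6`
containing `A₃ × A₆` and an element that is odd on the first factor: the abstract setting for the
centralizer of an involution with extraspecial core of order `2⁹` and quotient of that shape.
-/

set_option autoImplicit false

namespace CfsgLib.ExtraNineS3A6

open Equiv Equiv.Perm

abbrev P36 := Equiv.Perm (Fin 3) × Equiv.Perm (Fin 6)

/-- The element of order three of the first factor. -/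
def c0 : P36 := (finRotate 3, 1)

/-- An element of order five of the second factor. -/
def f0 : P36 := (1, swap 0 1 * swap 1 2 * swap 2 3 * swap 3 4)

theorem f0_pow : f0 ^ 5 = 1 := by decide +kernel
theorem f0_sign : sign f0.1 = 1 ∧ sign f0.2 = 1 := by decide +kernel
theorem f0_ne : f0.2 ≠ 1 := by decide +kernel
theorem c0_pow : c0 * c0 * c0 = 1 := by decide +kernel
theorem c0_sign : sign c0.1 = 1 ∧ sign c0.2 = 1 := by decide +kernel
theorem c0_ne : c0 ≠ 1 := by decide +kernel

/-- The setting. -/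
structure Model (V : Type*) [AddCommGroup V] where
  q : V → ZMod 2
  B : V → V → ZMod 2
  exp2 : ∀ v : V, v + v = 0
  q_add : ∀ u v, q (u + v) = q u + q v + B u v
  B_add : ∀ u v w, B (u + v) w = B u w + B v w
  nondeg : ∀ u, (∀ v, B u v = 0) → u = 0
  card : Nat.card V = 256
  R : Subgroup P36
  ac : P36 → V →+ V
  ac_one : ∀ v, ac 1 v = v
  ac_mul : ∀ a ∈ R, ∀ b ∈ R, ∀ v, ac (a * b) v = ac a (ac b v)
  ac_q : ∀ a ∈ R, ∀ v, q (ac a v) = q v
  faithful : ∀ a ∈ R, (∀ v, ac a v = v) → a = 1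
  three_six : ∀ p : P36, sign p.1 = 1 → sign p.2 = 1 → p ∈ R
  exists_odd : ∃ p ∈ R, sign p.1 = -1

namespace Model

variable {V : Type*} [AddCommGroup V] (M : Model V)

theorem finite (M : Model V) : Finite V := Nat.finite_of_card_ne_zero (by rw [M.card]; norm_num)

theorem add_eq_zero_iff (M : Model V) {u v : V} : u + v = 0 ↔ u = v := by
  constructor
  · intro h
    calc u = u + (v + v) := by rw [M.exp2, add_zero]
      _ = v := by rw [← add_assoc, h, zero_add]
  · rintro rfl; exact M.exp2 u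

theorem neg_eq (M : Model V) (v : V) : -v = v := neg_eq_of_add_eq_zero_left (M.exp2 v)

theorem B_comm (u v : V) : M.B u v = M.B v u := by
  have h1 := M.q_add u v
  have h2 := M.q_add v u
  rw [add_comm v u, h1] at h2
  linear_combination h2

theorem B_add' (u v w : V) : M.B u (v + w) = M.B u v + M.B u w := by
  rw [M.B_comm u (v + w), M.B_add, M.B_comm v u, M.B_comm w u]

theorem B_zero (u : V) : M.B 0 u = 0 := by
  have := M.B_add 0 0 u
  rw [add_zero] at this
  linear_combination -this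

theorem B_zero' (u : V) : M.B u 0 = 0 := by rw [M.B_comm, M.B_zero]

theorem q_zero : M.q 0 = 0 := by
  have := M.q_add 0 0
  rw [add_zero, M.B_zero] at this
  linear_combination -this

theorem B_self (u : V) : M.B u u = 0 := by
  have h := M.q_add u u
  rw [M.exp2, M.q_zero] at h
  have h2 : (2 : ZMod 2) = 0 := by decide
  linear_combination -h - M.q u * h2

theorem B_eq (u v : V) : M.B u v = M.q (u + v) + M.q u + M.q v := by
  have h2 : (2 : ZMod 2) = 0 := by decide
  linear_combination -(M.q_add u v) - (M.q u + M.q v) * h2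

theorem ac_B {a : P36} (ha : a ∈ M.R) (u v : V) : M.B (M.ac a u) (M.ac a v) = M.B u v := by
  rw [M.B_eq, M.B_eq u v, ← map_add, M.ac_q a ha, M.ac_q a ha, M.ac_q a ha]

theorem ac_inv {a : P36} (ha : a ∈ M.R) (v : V) : M.ac a⁻¹ (M.ac a v) = v := by
  rw [← M.ac_mul _ (M.R.inv_mem ha) _ ha, inv_mul_cancel, M.ac_one]

theorem ac_inv' {a : P36} (ha : a ∈ M.R) (v : V) : M.ac a (M.ac a⁻¹ v) = v := by
  rw [← M.ac_mul _ ha _ (M.R.inv_mem ha), mul_inv_cancel, M.ac_one]

theorem ac_injective {a : P36} (ha : a ∈ M.R) {u v : V} (h : M.ac a u = M.ac a v) : u = v := by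
  rw [← M.ac_inv ha u, h, M.ac_inv ha]

theorem ac_fix_inv {a : P36} (ha : a ∈ M.R) {v : V} (h : M.ac a v = v) : M.ac a⁻¹ v = v := by
  calc M.ac a⁻¹ v = M.ac a⁻¹ (M.ac a v) := by rw [h]
    _ = v := M.ac_inv ha v

theorem c0_mem : c0 ∈ M.R := M.three_six _ c0_sign.1 c0_sign.2
theorem f0_mem : f0 ∈ M.R := M.three_six _ f0_sign.1 f0_sign.2

theorem six_mem {π : Equiv.Perm (Fin 6)} (h : sign π = 1) : ((1, π) : P36) ∈ M.R :=
  M.three_six _ (by simp) h

/-- The map of the element of order three. -/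
def cc : V →+ V := M.ac c0

/-- The map of the element of order five. -/
def ff : V →+ V := M.ac f0

theorem cc_cube (v : V) : M.cc (M.cc (M.cc v)) = v := by
  unfold cc
  rw [← M.ac_mul _ M.c0_mem _ M.c0_mem, ← M.ac_mul _ (M.R.mul_mem M.c0_mem M.c0_mem) _ M.c0_mem,
    c0_pow, M.ac_one]

theorem cc_inj {u v : V} (h : M.cc u = M.cc v) : u = v := M.ac_injective M.c0_mem h

theorem cc_B (u v : V) : M.B (M.cc u) (M.cc v) = M.B u v := M.ac_B M.c0_mem u v

theorem cc_q (v : V) : M.q (M.cc v) = M.q v := M.ac_q _ M.c0_mem v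

theorem cc_comm_of_even {p : P36} (hp : p ∈ M.R) (h : sign p.1 = 1) (v : V) :
    M.ac p (M.cc v) = M.cc (M.ac p v) := by
  unfold cc
  rw [← M.ac_mul _ hp _ M.c0_mem, ← M.ac_mul _ M.c0_mem _ hp]
  congr 2
  have : p.1 * finRotate 3 = finRotate 3 * p.1 := by
    rcases cases_even_three _ h with e | e | e <;> simp [e]
  exact Prod.ext this (by simp [c0])

theorem cc_invert_of_odd {p : P36} (hp : p ∈ M.R) (h : sign p.1 = -1) (v : V) :
    M.ac p (M.cc v) = M.cc (M.cc (M.ac p v)) := by
  unfold cc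
  rw [← M.ac_mul _ hp _ M.c0_mem, ← M.ac_mul _ M.c0_mem _ hp,
    ← M.ac_mul _ M.c0_mem _ (M.R.mul_mem M.c0_mem hp)]
  congr 2
  have hrot : (finRotate 3 : Equiv.Perm (Fin 3))⁻¹ = finRotate 3 * finRotate 3 := by decide +kernel
  refine Prod.ext ?_ (by simp [c0])
  show p.1 * finRotate 3 = finRotate 3 * (finRotate 3 * p.1)
  rw [← mul_assoc, ← hrot]
  exact mul_inv_eq_iff_eq_mul.1 (odd_invert_three _ h).2

/-- a subgroup of index at most two: the kernel of a functional -/
theorem half_le (M : Model V) (U : AddSubgroup V) (φ : V → ZMod 2) (hφ : ∀ u v, φ (u + v) = φ u + φ v) :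
    Nat.card U ≤ 2 * Nat.card {u : V // u ∈ U ∧ φ u = 0} := by
  classical
  haveI := M.finite
  let ψ : U →+ ZMod 2 := AddMonoidHom.mk' (fun u => φ u) (fun a b => hφ a b)
  have h1 := ψ.ker.card_mul_index
  have h2 : ψ.ker.index ≤ 2 := by
    rw [AddSubgroup.index_ker]
    exact (Nat.card_le_card_of_injective _ Subtype.val_injective).trans (le_of_eq (Nat.card_zmod 2))
  have h3 : Nat.card ψ.ker = Nat.card {u : V // u ∈ U ∧ φ u = 0} :=
    Nat.card_congr
      { toFun := fun u => ⟨(u : U), (u : U).2, AddMonoidHom.mem_ker.1 u.2⟩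
        invFun := fun u => ⟨⟨u.1, u.2.1⟩, AddMonoidHom.mem_ker.2 u.2.2⟩
        left_inv := fun _ => rfl
        right_inv := fun _ => rfl }
  rw [← h1, ← h3, mul_comm 2]
  exact Nat.mul_le_mul_left _ h2

/-- the perp of a subgroup has complementary order -/
theorem card_perp (U : AddSubgroup V) :
    Nat.card {v : V // ∀ u ∈ U, M.B v u = 0} * Nat.card U = 256 := by
  classical
  haveI := M.finite
  haveI : Fact (Nat.Prime 2) := ⟨Nat.prime_two⟩
  letI : Module (ZMod 2) V := AddCommGroup.zmodModule fun v => by rw [two_nsmul]; exact M.exp2 v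
  let inner : V → V →+ ZMod 2 := fun u => AddMonoidHom.mk' (fun v => M.B u v) (M.B_add' u)
  let b : LinearMap.BilinForm (ZMod 2) V :=
    (AddMonoidHom.mk' (fun u => (inner u).toZModLinearMap 2) fun u v =>
      LinearMap.ext fun w => M.B_add u v w).toZModLinearMap 2
  have hb : ∀ u v, b u v = M.B u v := fun u v => rfl
  have hr : b.IsRefl := fun u v h => by rw [hb] at h ⊢; rwa [M.B_comm]
  have hn : b.Nondegenerate :=
    ⟨fun u h => M.nondeg u fun v => by rw [← hb]; exact h v,
      fun u h => M.nondeg u fun v => by rw [M.B_comm, ← hb]; exact h v⟩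
  let W : Submodule (ZMod 2) V := AddSubgroup.toZModSubmodule 2 U
  have hW : ∀ v, v ∈ W ↔ v ∈ U := fun v => Iff.rfl
  have h1 : Nat.card {v : V // ∀ u ∈ U, M.B v u = 0} = Nat.card (b.orthogonal W) :=
    Nat.card_congr (Equiv.subtypeEquivRight fun v => by
      simp only [LinearMap.BilinForm.mem_orthogonal_iff, hW]
      constructor
      · intro h u hu; show b u v = 0; rw [hb, M.B_comm]; exact h u hu
      · intro h u hu; have := h u hu; rw [hb, M.B_comm] at this; exact this)
  have h2 : Nat.card U = Nat.card W := Nat.card_congr (Equiv.subtypeEquivRight fun v => (hW v).symm)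
  have h3 := LinearMap.BilinForm.finrank_orthogonal hn W
  have h4 := Submodule.finrank_le W
  rw [h1, h2, Module.natCard_eq_pow_finrank (K := ZMod 2) (V := b.orthogonal W),
    Module.natCard_eq_pow_finrank (K := ZMod 2) (V := W), ← pow_add, h3, Nat.sub_add_cancel h4,
    ← Module.natCard_eq_pow_finrank, M.card]

/-- the orders of subgroups are powers of two -/
theorem card_pow (M : Model V) (U : AddSubgroup V) : ∃ k ≤ 8, Nat.card U = 2 ^ k := by
  haveI := M.finite
  obtain ⟨k, hk, e⟩ := (Nat.dvd_prime_pow Nat.prime_two).1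
    (show Nat.card U ∣ 2 ^ 8 by have := U.card_addSubgroup_dvd_card; rwa [M.card] at this)
  exact ⟨k, hk, e⟩

/-- a permutation of prime order without fixed points -/
theorem dvd_card_of_fixed_point_free {T : Type*} [Finite T] (p : ℕ) [Fact p.Prime] (σ : T → T)
    (hσ : σ^[p] = id) (hfree : ∀ t, σ t ≠ t) : p ∣ Nat.card T := by
  classical
  haveI := Fintype.ofFinite T
  let f : Function.End T := σ
  have hpow : ∀ n : ℕ, f ^ n = (σ^[n] : T → T) := fun n => by
    induction n with
    | zero => rfl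
    | succ m ih => rw [pow_succ, ih, Function.iterate_succ]; rfl
  have h := Equiv.Perm.card_fixedPoints_modEq (f := f) (p := p) (n := 1) (by rw [pow_one, hpow, hσ]; rfl)
  haveI : IsEmpty (Function.fixedPoints f) := ⟨fun t => hfree t.1 t.2⟩
  rw [Fintype.card_eq_zero (α := Function.fixedPoints f)] at h
  rw [Nat.card_eq_fintype_card]
  exact Nat.modEq_zero_iff_dvd.1 h

end Model

/-- A conjugate `x` of the centre inside the core, seen in the space. -/
structure Pr {V : Type*} [AddCommGroup V] (M : Model V) (x : V) (E : AddSubgroup V) (A : Subgroup P36) :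
    Prop where
  x_ne : x ≠ 0
  x_mem : x ∈ E
  E_q : ∀ e ∈ E, M.q e = 0
  A_le : A ≤ M.R
  A_sq : ∀ a ∈ A, a * a = 1
  A_fix : ∀ a ∈ A, M.ac a x = x
  E_comm : ∀ a ∈ A, ∀ e ∈ E, M.ac a e + e = 0 ∨ M.ac a e + e = x
  perp : ∀ a ∈ A, ∀ v, M.B x v = 0 → M.ac a v + v ∈ E
  card_eq : Nat.card E * Nat.card A = 2 ^ 7
  inj : Nat.card E = 16 → ∀ a ∈ A, (∀ e ∈ E, M.ac a e = e) → a = 1
  stab_A : ∀ s ∈ M.R, M.ac s x = x → ∀ a ∈ A, s * a * s⁻¹ ∈ A
  stab_E : ∀ s ∈ M.R, M.ac s x = x → ∀ e ∈ E, M.ac s e ∈ E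

end CfsgLib.ExtraNineS3A6
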